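import Cfsg.Agent.N2.Cl.D4.Defs
import Cfsg.Agent.N2.Cl.RX.Semi
import Cfsg.Agent.N2.Cl.RX.Green
import Cfsg.Agent.N2.Cl.RD.Lnk
import Cfsg.Agent.N2.Cl.RAlt.Main
import Cfsg.Agent.H912.KnownSplit

/-!
# N2 (S3519), `PΩ₈⁺(q)` with triality: class S without maximality (helper85)

The proofs of `boxRp0`, `boxSemi`, `boxGreen`, `boxMd` (orthogonal kind) for `Cw` in place of `Ctx`.
-/

set_option autoImplicit false
set_option linter.unusedSectionVars false
set_option maxHeartbeats 400000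

namespace Cfsg.Agent.N2C.D4

open Cfsg Cfsg.Geo Subgroup Module Matrix Cfsg.Agent.DS.Cl Cfsg.Agent.DS.Cl.Fwd
open Cfsg.Agent.N2C.Cyc hiding cA
open Cfsg.Agent.N2C.RX
open Cfsg.Agent.N2C.Res (Rep repL repH)
open Cfsg.Agent.N2C.SzG (cA)
open Cfsg.Agent.TH.Cl (KO)

namespace WR

section gen

variable {A : Type} [Ring A] [StarRing A] [Finite A] {F : FR A} {H N : Subgroup (RingAut A)} {p : ℕ}

theorem card_N_lt (r : Res F H N) (c : Cw F H p) : Nat.card N < Nat.card F.S := by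
  have : Finite (RingAut A) := Finite.of_injective (fun γ : RingAut A => (γ : A → A)) DFunLike.coe_injective
  refine (card_le_of_le (Res.le_S r)).lt_of_ne fun e => c.not_le ?_
  rw [← eq_of_le_of_card_ge (Res.le_S r) e.ge]
  exact Res.le_H r

variable {K : Type} [Field K] [Fintype K] {n : ℕ}

section

open Cfsg.Agent.N2C.RX.R0

variable {R : Rep F K n}

theorem rp0_of (c : Cw F H p) (r : Res F H N) (h : DD R) {t : Kd} {q : ℕ} (hp : CharP K p) (hK : Fintype.card K = kq t q)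
    (hd : dimOk t n q) (ho : oD t n q * Nat.card F.S = oI t n q) (hF : Frm (R.P N) t q)
    (hz : ∀ z ∈ ZI F, z ^ zz t q = 1) (hz' : zz t q ≤ Nat.card (ZI F))
    (hs : ∀ u ∈ F.Iso, ∀ d, cA (R.ρ u) = Nat.card K ^ d → cO F u ^ 2 ≤ q ^ ec t n d) :
    Rp0 t n q p (Nat.card F.S) N (Gd F H) (cc F N) (dd N) where
  prime := c.prime
  pow := by
    obtain ⟨m, -, hm⟩ := FiniteField.card K p
    have h1 := Fintype.one_lt_card (α := K)
    obtain ⟨f, -, hf⟩ := (Nat.dvd_prime_pow c.prime).1 (show q ∣ p ^ (m : ℕ) by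
      rw [← hm, hK]; cases t <;> simp [kq])
    refine ⟨f, Nat.pos_of_ne_zero fun e => ?_, hf⟩
    rw [hK, hf, e] at h1
    cases t <;> simp [kq] at h1
  dim := hd
  ord := ho
  dvd := card_dvd_of_le (Res.le_S r)
  core := ⟨K, inferInstance, inferInstance, R.P N, hp, hK, R.core c.span r, (R.exists_soc c.span r).elim fun e _ => ⟨e⟩,
    card_scal R c.span hz, hF⟩
  sq := sq_le R r
  good1 := good1 r
  good2 := fun g _ => good2 r g
  scott := scott r h
  low := fun x _ ha _ => low r h x ha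
  crude := fun g => by
    obtain ⟨u, hu, eu⟩ := Res.exists_lft r g.2
    have hu' := Res.lft_le_Iso F N hu
    have h1 := cn_mul_le (Res.lft_le F N hu) (card_tw R u hz)
    rw [show el (Res.lft_le F N hu) = ⟨g, Res.le_S r g.2⟩ from Subtype.ext eu, cc_eq] at h1
    calc _ ≤ (Nat.gcd n (zz t q) * cO F u) ^ 2 := Nat.pow_le_pow_left ((Nat.mul_le_mul_left _ hz').trans h1) 2
      _ ≤ _ := by rw [mul_pow]; exact Nat.mul_le_mul_left _ (hs u hu' _ (dd_spec h hu' eu))

end

section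

open Cfsg.Agent.N2C.RD Cfsg.Agent.N2C.RD.Lk
open Cfsg.Agent.H915.LD (Soc toSoc Cj)
open Cfsg.Agent.FP3 (fx)
open Cfsg.Agent.N2C.RX.R0 (card_tw ZI_bil)

variable (R : Rep F K n)

theorem md0_of (c : Cw F H p) (r : Res F H N) {t : Kd} {q : ℕ} (hp : CharP K p) (hK : Fintype.card K = kq t q)
    (hd : dimOk t n q) (ho : oD t n q * Nat.card F.S = oI t n q) (hF : Frm (R.P N) t q)
    (hj : t = .L → ∀ k, ¬ Cj (R.P N) (p ^ k))
    (hz : ∀ z ∈ ZI F, z ^ zz t q = 1) (hz' : zz t q ≤ Nat.card (ZI F))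
    (hs : ∀ u ∈ F.Iso, cO F u ^ 2 ≤ q ^ ec t n (dm (R.gl u)))
    (hy : ∀ u ∈ F.Iso, (p = 2 → bil t → ev (R.gl u) 1 = 0) → n ≤ (minpoly K (R.ρ u)).natDegree → cO F u ≤ cb t n q) :
    ∃ (c f : R.P N → ℕ) (b : ℕ), Nonempty (Soc (R.P N) ≃* N) ∧
      (∀ u (hu : u ∈ lft F N), c ⟨R.gl u, u, hu, rfl⟩ ≤ N2.cn (el (Res.lft_le F N hu))) ∧
      Md0 t q p (Nat.card F.S) b (R.P N) (Gd F H) c f := by
  have := finAut (A := A)
  obtain ⟨e, he⟩ := R.exists_soc c.span r
  have hC := R.core c.span r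
  let ι : Soc (R.P N) →* F.S := (inclusion (Res.le_S r)).comp e.toMonoidHom
  have hι : Function.Injective ι := (inclusion_injective (Res.le_S r)).comp e.injective
  have h1 : ∀ u (hu : u ∈ lft F N), ι (toSoc _ ⟨R.gl u, u, hu, rfl⟩) = el (Res.lft_le F N hu) :=
    fun u hu => Subtype.ext (he u hu)
  have h2 : Nat.card (Soc (R.P N)) = Nat.card N := Nat.card_congr e.toEquiv
  have hB : ∀ s, ι s ∈ H.subgroupOf F.S := fun s => Res.le_H r (e s).2
  have h3 : ∀ u (hu : u ∈ lft F N), N2.cn (ι (toSoc _ ⟨R.gl u, u, hu, rfl⟩)) * zz t q ≤ Nat.gcd n (zz t q) * cO F u :=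
    fun u hu => h1 u hu ▸ (Nat.mul_le_mul_left _ hz').trans (cn_mul_le (Res.lft_le F N hu) (card_tw R u hz))
  refine ⟨fun u => N2.cn (ι (toSoc _ u)), fun u => fx (H.subgroupOf F.S) (ι (toSoc _ u)), Nat.card (H.subgroupOf F.S),
    ⟨e⟩, fun u hu => (congrArg N2.cn (h1 u hu)).le, c.cf, c.prime, hp, hK, ?_, hd, ho, hC, hF, hj,
    h2 ▸ card_N_lt r c, h2 ▸ Res.card_N_dvd_B r, card_subgroup_dvd_card _,
    (Res.card_B_dvd_aut r).trans (Nat.card_congr (MulAut.congr e).toEquiv).symm.dvd, fun _ => R.card_B_dvd_lin c.span r c.le,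
    fun u h => N2.good_of_le (hB _) le_rfl h, fun u => N2.fx_le_cn _ _,
    fun u s hs h => fx_mod _ hs ((orderOf_injective ι hι _).trans h), ?_, fun x hx => ?_, ?_, ?_, ?_⟩
  · obtain ⟨m, -, hm⟩ := FiniteField.card K p
    have h1 := Fintype.one_lt_card (α := K)
    obtain ⟨f, -, hf⟩ := (Nat.dvd_prime_pow c.prime).1 (show q ∣ p ^ (m : ℕ) by
      rw [← hm, hK]; cases t <;> simp [kq])
    refine ⟨f, Nat.pos_of_ne_zero fun e => ?_, hf⟩
    rw [hK, hf, e] at h1
    cases t <;> simp [kq] at h1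
  · rintro ⟨_, u, hu, rfl⟩ s hs hsp hsz ho hi hc
    have : Fact s.Prime := ⟨hs⟩
    have hu' := Res.lft_le_Iso F N hu
    set U : R.P N := ⟨R.gl u, u, hu, rfl⟩ with hU
    have hm : u ^ s = 1 := R.gl_inj (pow_mem hu' s) (one_mem _) (by
      rw [map_pow, map_one, ← ho]; exact congrArg Subtype.val (pow_orderOf_eq_one U))
    have h4 : ∀ z ∈ ZI F, z ^ s = 1 → z = 1 := fun z h k =>
      (pow_eq_one_iff_of_coprime (hs.coprime_iff_not_dvd.2 hsz)).1 ⟨k, hz z h⟩
    have hg : orderOf (toSoc _ U) = s := orderOf_eq_prime (by rw [← map_pow, ← ho, pow_orderOf_eq_one, map_one]) fun k => by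
      have h5 : cj A u = 1 := congrArg Subtype.val ((h1 u hu).symm.trans ((congrArg ι k).trans (map_one ι)))
      have h6 : U = 1 := Subtype.ext ((congrArg R.gl (h4 u ⟨hu', h5⟩ hm)).trans (map_one _))
      rw [h6, orderOf_one] at ho
      exact hs.one_lt.ne ho
    have h5 := cc_mul (H.subgroupOf F.S) ι hι hB (fun b hb x => ⟨e.symm ⟨_, r.nrm _ hb _ (e x).2⟩,
      Subtype.ext (congrArg (fun y : N => (y : RingAut A)) (e.apply_symm_apply _))⟩) hs hg hi hc
    choose j hj' using fun y : {y : zpowers (toSoc _ U) // IsConj (ι (toSoc _ U)) (ι y)} =>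
      (mem_powers_iff_mem_zpowers.2 y.1.2 : ∃ j : ℕ, toSoc _ U ^ j = y.1)
    have h6 := pow_le hs (fun k => hsp ((Nat.prime_dvd_prime_iff_eq c.prime hs).1
      ((CharP.cast_eq_zero_iff K p s).1 k)).symm) (u := R.gl u) ((orderOf_coe U).trans ho) j
      (fun x y k => Subtype.ext (Subtype.ext (by
        rw [← hj', ← hj', pow_eq_pow_iff_modEq, hg]
        exact (ZMod.natCast_eq_natCast_iff _ _ _).1 k))) fun y => by
      obtain ⟨⟨_, v, hv, rfl⟩, k⟩ := isConj_iff.1 y.2
      rw [← hj', map_pow, h1 u hu] at k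
      have h7 : cj A (v * u * v⁻¹) = cj A (u ^ j y) := by
        rw [map_mul, map_mul, map_inv, map_pow]
        exact congrArg Subtype.val k
      obtain ⟨z, h8, h9⟩ := cj_eq_iff.1 h7
      have hv' := F.comm_le_Iso hv
      have h10 : z = 1 := h4 z (mem_ZI ((mul_mem_cancel_left (pow_mem hu' (j y))).1
        (h9 ▸ mul_mem (mul_mem hv' hu') (inv_mem hv'))) h8) (by
          have h11 := congrArg (· ^ s) h9
          simp only [conj_pow, hm, mul_one, mul_inv_cancel] at h11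
          rw [Commute.mul_pow (units_comm h8 _), ← pow_mul, mul_comm, pow_mul, hm, one_pow, one_mul] at h11
          exact h11.symm)
      rw [h10, mul_one] at h9
      exact isConj_iff.2 ⟨R.gl v, by rw [← map_inv, ← map_mul, ← map_mul, h9, map_pow]⟩
    calc _ = N2.cn (ι (toSoc _ U)) * (N2.cc (H.subgroupOf F.S) (ι (toSoc _ U)) *
          Nat.card (normalizer (zpowers (toSoc _ U) : Set (Soc (R.P N))))) := by
          rw [mul_right_comm, N2.fx_mul, mul_assoc]
      _ ≤ _ := by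
          rw [mul_assoc]
          exact Nat.mul_le_mul_left _ (h5.trans (Nat.mul_le_mul_right _ h6))
  · have := hC.simple
    obtain ⟨y, hy⟩ := FP3.gen (Soc (R.P N)) hC.nonabelian _ hx
    obtain ⟨y, rfl⟩ := H915.LD.toSoc_surjective _ y
    exact ⟨y, scott2 hC hy⟩
  · obtain ⟨u, hu, k⟩ := SzG.res_smallM r R
    refine ⟨⟨R.gl u, u, hu, rfl⟩, (Nat.pow_le_pow_iff_right (Finite.one_lt_card (α := K))).1 ?_⟩
    rw [← cA_eq_dm']
    exact k
  · rintro ⟨_, u, hu, rfl⟩
    refine (Nat.pow_le_pow_left (h3 u hu) 2).trans ?_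
    rw [mul_pow]
    exact Nat.mul_le_mul_left _ (hs u (Res.lft_le_Iso F N hu))
  · rintro ⟨_, u, hu, rfl⟩ k1 k2
    exact (h3 u hu).trans (Nat.mul_le_mul_left _ (hy u (Res.lft_le_Iso F N hu) k1 k2))

end

end gen

section kinds

variable {K V : Type} [Field K] [Fintype K] [AddCommGroup V] [Module K V] [Finite V] {h : HF K V} {F : FR h.EB}
  {Q : QuadraticForm K V} {H N : Subgroup (RingAut h.EB)} {p : ℕ} {t : Kd}
  (k : KO h F Q) (c : Cw F H p) (r : Res F H N) (ht : t = .O ∨ t = .P ∨ t = .M)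
include k c

theorem charP : CharP K p :=
  TH.Cl.Cases.charP_of_cast c.prime (TH.Cl.Cases.cast_EB h (by have := k.dim; omega) c.char)

include r ht

open R0 in
theorem rp0 (hd : dimOk t (finrank K V) (Fintype.card K))
    (ho : oD t (finrank K V) (Fintype.card K) * Nat.card F.S = oI t (finrank K V) (Fintype.card K)) :
    Rp0 t (finrank K V) (Fintype.card K) p (Nat.card F.S) N (Gd F H) (cc F N) (dd N) := by
  have : Module.Finite K V := Module.Finite.of_finite
  have h1 := k.dim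
  have h0 : 0 < finrank K V := by omega
  have := nontrivial_of_dim h0
  let b := finBasis K V
  rcases ht with rfl | rfl | rfl <;>
    exact rp0_of c r (dd_H h F b h0) (charP k c) rfl hd ho ⟨Res.fixQ b h0 k.o N, Res.sd_H h F b h0 k.o.1 N⟩
      (ZI_bil k.o.1).1 (ZI_bil k.o.1).2 fun u hu d hd => cO_H h F b h0 hu hd

open R0 Sm in
theorem semi : Semi t (finrank K V) (Fintype.card K) p N (cc F N) (dd N) := by
  have : Module.Finite K V := Module.Finite.of_finite
  have h1 := k.dim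
  have h0 : 0 < finrank K V := by omega
  have := nontrivial_of_dim h0
  let b := finBasis K V
  have := charP k c
  have hz : zz t (Fintype.card K) = Nat.gcd 2 (Fintype.card K - 1) := by rcases ht with rfl | rfl | rfl <;> rfl
  have hf : fr t (Fintype.card K) = Fintype.card K := by rcases ht with rfl | rfl | rfl <;> rfl
  refine semi_of r (dd_H h F b h0) c.prime (hz ▸ (ZI_bil k.o.1).1) (hz ▸ (ZI_bil k.o.1).2) fun s _ u hu hs h2 hm => ?_
  obtain ⟨μ, h1, h3, h4, h5⟩ := Sz.size_O k.o h2 hs hu hm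
  rw [hf, Int.cast_natCast]
  refine ⟨μ, mu_map (Sz.eH h) h1, fun e => eq_one_H (h3.symm.trans e), h1.frob, fun _ => h4, fun e z he hz => ?_⟩
  rw [show kp t (μ 0) = if μ 0 = 0 then 1 else 2 by rcases ht with rfl | rfl | rfl <;> rfl,
    show dl t (μ 0) = if μ 0 = 2 then 1 else 0 by rcases ht with rfl | rfl | rfl <;> rfl,
    show es t (∑ i, μ i ^ 2) (μ 0) = (∑ i, μ i ^ 2 - μ 0) / 2 by rcases ht with rfl | rfl | rfl <;> rfl]
  rcases nu_bil (t := t) (by rcases ht with rfl | rfl | rfl <;> trivial) z (he ▸ ord_pos hs) with ⟨-, t2, t3⟩ | ⟨t1, t3⟩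
  · rw [t2, t3]
    exact h5 e _ he fun _ => hz ▸ le_rfl
  · rw [t3]
    exact h5 e 0 he fun o => absurd o t1

theorem green : Green t (finrank K V) (Fintype.card K) p N (cc F N) := fun g h5 hg h2 hC => by
  have h1 := k.dim
  have hp := charP k c
  obtain ⟨u, v, w, hu, h3, h4, j⟩ := Gr.lift_two k.o.1 (by omega) r c.prime h5 hg h2 hC
  have h6 := Gr.gO c.prime h5 hu j k.o.1 fun x y => by rw [k.o.2.1, k.o.2.1, QuadraticMap.polar_comm]
  rcases ht with rfl | rfl | rfl <;> exact ⟨nofun, h4, fun h7 => h3.trans (h6 h7)⟩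

open RD RD.Lk R0 in
theorem gd_def (R : RD.Rows) (hd : dimOk t (finrank K V) (Fintype.card K))
    (ho : oD t (finrank K V) (Fintype.card K) * Nat.card F.S = oI t (finrank K V) (Fintype.card K))
    (hl : IsLieTypeChar p N) : Gd F H := by
  have : Module.Finite K V := Module.Finite.of_finite
  have h1 := k.dim
  have h0 : 0 < finrank K V := by omega
  have := nontrivial_of_dim h0
  let b := finBasis K V
  have := charP k c
  obtain ⟨d, f, m, ⟨e⟩, h2, h3⟩ := WR.md0_of (repH h F b h0) c r (t := t) (q := Fintype.card K) this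
    (by rcases ht with rfl | rfl | rfl <;> rfl) hd ho
    (by rcases ht with rfl | rfl | rfl <;> exact ⟨Res.fixQ b h0 k.o N, Res.sd_H h F b h0 k.o.1 N⟩)
    (by rcases ht with rfl | rfl | rfl <;> exact fun e => by cases e)
    (by rcases ht with rfl | rfl | rfl <;> exact (ZI_bil k.o.1).1)
    (by rcases ht with rfl | rfl | rfl <;> exact (ZI_bil k.o.1).2)
    (by rcases ht with rfl | rfl | rfl <;> exact fun u hu => cO_sq b h0 hu)
    (by rcases ht with rfl | rfl | rfl <;>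
      exact fun u hu k1 k2 => cO_bil b h0 k.o.1 c.prime hu (fun e => k1 e trivial) k2)
  exact R.all _ _ _ _ _ _ _ _ _ _ _ ⟨h3, semiD_O b h0 h2 k ht c.prime, ssD_O b h0 h2 k ht c.prime⟩
    (CTwoTab.isLieTypeChar_congr e.symm hl)

end kinds

end WR

/-- **[WRes]** -/
theorem wres_of (spor : RowX qSpor) (cross : RowX qCross) (R : RD.Rows) : WRes := by
  intro K V _ _ _ _ _ h F Q H N p k c r
  have := finAut (A := h.EB)
  have := r.simple
  have h7 := k.dim
  obtain ⟨t, h1, h2, h3⟩ : ∃ t, (t = .O ∨ t = .P ∨ t = .M) ∧ dimOk t (finrank K V) (Fintype.card K) ∧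
      oD t (finrank K V) (Fintype.card K) * Nat.card F.S = oI t (finrank K V) (Fintype.card K) := by
    rcases card_S_O k with ⟨m, h1, h2, h3⟩ | ⟨m, h1, -, h3⟩ | ⟨m, h1, -, h3⟩
    · exact ⟨.O, Or.inl rfl, ⟨h7, by omega, Nat.odd_iff.1 h2⟩, by
        rw [oD, oI, show finrank K V / 2 = m by omega]; exact h3⟩
    · exact ⟨.P, Or.inr (Or.inl rfl), ⟨by omega, by omega⟩, by
        rw [oD, oI, show finrank K V / 2 = m by omega]; exact h3⟩
    · exact ⟨.M, Or.inr (Or.inr rfl), ⟨by omega, by omega⟩, by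
        rw [oD, oI, show finrank K V / 2 = m by omega]; exact h3⟩
  by_cases hl : IsLieTypeChar p N
  · exact WR.gd_def k c r h1 R h2 h3 hl
  have key : ∀ X : ℕ → N2.Fam, RowX X → X p N → Gd F H := fun X hX hN =>
    hX c.cf _ _ _ _ _ N _ _ _ r.noncomm hN ⟨WR.rp0 k c r h1 h2 h3, WR.semi k c r h1, WR.green k c r h1⟩
  by_cases ha : IsAlternating N
  · exact key _ RAlt.rowAlt ⟨hl, ha⟩
  have hc : ¬ IsPrimeCyclic N := fun h1 => by
    have : Fact (Nat.card N).Prime := ⟨h1⟩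
    have := isCyclic_of_prime_card (α := N) rfl
    exact r.noncomm inferInstance
  rcases H912.Known.known_split (c.cf N) hc with h4 | h4 | h4 | h4
  · exact absurd h4 ha
  · exact key _ cross ⟨hl, ha, h4⟩
  · exact key _ spor ⟨hl, Or.inr h4⟩
  · exact key _ spor ⟨hl, Or.inl h4⟩

end Cfsg.Agent.N2C.D4
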