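import Cfsg.Agent.N2.Cl.D4.Defs
import Cfsg.Agent.H206.OrthBal

/-!
# N2 (S3519), `PΩ₈⁺(q)` with triality, box 44: the commutant of `L` (helper89)
-/

set_option autoImplicit false
set_option linter.unusedSectionVars false

namespace Cfsg.Agent.N2C.D4.B44

open QuadraticMap Module Cfsg.Agent.LieClassical.QuadForms Cfsg.Agent.LieClassical.OrthCore
  Cfsg.Agent.LieClassical.OrthTrans Cfsg.Agent.ClassicalGeometry.OrthSemi Cfsg.Agent.ClassicalGeometry.OrthAut1
  Cfsg.Agent.ClassicalGeometry.TrialityOct Cfsg.Agent.ClassicalGeometry.Triality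
  Cfsg.Agent.H989.OutOrth.Basic Cfsg.Agent.H989.OutOrth.Tri Cfsg.Agent.SB.D4

variable {F : Type} [Field F] [Fintype F] {L : Subgroup (E8 F)}

/-- `z` commutes with `L` -/
def Cm (L : Subgroup (E8 F)) (z : Module.End F (V8 F)) : Prop := ∀ a ∈ L, ∀ x, a.1 (z x) = z (a.1 x)

/-- one of the three representations -/
structure Sd (L : Subgroup (E8 F)) : Prop where
  pf : ⁅L, L⁆ = L
  nf : NoFix L
  rd : Rd L
  ce : ∀ g : E8 F, (∀ a ∈ L, a * g = g * a) → ∃ e, Sc g e

/-- `π` is the orthogonal projection onto `U` -/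
def Pj (U : Submodule F (V8 F)) (π : Module.End F (V8 F)) : Prop := ∀ x, π x ∈ U ∧ x - π x ∈ prp (Q8 F) U

/-- symmetric maps -/
def Sy (z : Module.End F (V8 F)) : Prop := ∀ x y, polar (Q8 F) (z x) y = polar (Q8 F) x (z y)

theorem Cm.one : Cm L 1 := fun _ _ _ => rfl

theorem Cm.mul {z w : Module.End F (V8 F)} (hz : Cm L z) (hw : Cm L w) : Cm L (z * w) := fun a ha x => by
  rw [Module.End.mul_apply, Module.End.mul_apply, hz a ha, hw a ha]

theorem Cm.add {z w : Module.End F (V8 F)} (hz : Cm L z) (hw : Cm L w) : Cm L (z + w) := fun a ha x => by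
  rw [LinearMap.add_apply, LinearMap.add_apply, map_add, hz a ha, hw a ha]

theorem Cm.sub {z w : Module.End F (V8 F)} (hz : Cm L z) (hw : Cm L w) : Cm L (z - w) := fun a ha x => by
  rw [LinearMap.sub_apply, LinearMap.sub_apply, map_sub, hz a ha, hw a ha]

theorem Cm.smul {z : Module.End F (V8 F)} (hz : Cm L z) (c : F) : Cm L (c • z) := fun a ha x => by
  rw [LinearMap.smul_apply, LinearMap.smul_apply, map_smul, hz a ha]

theorem Cm.pow {z : Module.End F (V8 F)} (hz : Cm L z) (n : ℕ) : Cm L (z ^ n) := by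
  induction n with
  | zero => rw [pow_zero]; exact Cm.one
  | succ n ih => rw [pow_succ]; exact ih.mul hz

theorem Cm.iv_map {z : Module.End F (V8 F)} (hz : Cm L z) {U : Submodule F (V8 F)} (hU : Iv L U) :
    Iv L (U.map z) := by
  rintro a ha _ ⟨v, hv, rfl⟩
  exact ⟨a.1 v, hU a ha v hv, (hz a ha v).symm⟩

theorem Cm.iv_ker {z : Module.End F (V8 F)} (hz : Cm L z) : Iv L (LinearMap.ker z) := fun a ha v hv => by
  rw [LinearMap.mem_ker] at hv ⊢
  rw [← hz a ha, hv, map_zero]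

theorem iv_top : Iv L ⊤ := fun _ _ _ _ => trivial

theorem iv_inf {U W : Submodule F (V8 F)} (hU : Iv L U) (hW : Iv L W) : Iv L (U ⊓ W) :=
  fun a ha v hv => ⟨hU a ha v hv.1, hW a ha v hv.2⟩

theorem iv_prp {U : Submodule F (V8 F)} (hU : Iv L U) : Iv L (prp (Q8 F) U) :=
  fun a ha _ hv => prp_inv (E_le_O a.2) (hU a ha) hv

theorem dim4 {U : Submodule F (V8 F)} (h4 : finrank F U = 4) : finrank F (prp (Q8 F) U) = 4 := by
  have h := finrank_prp nondeg8' U
  rw [finrank8, h4] at h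
  omega

theorem nd_eq {U : Submodule F (V8 F)} (h : Nd (Q8 F) U) {x : V8 F} (h1 : x ∈ U) (h2 : x ∈ prp (Q8 F) U) : x = 0 :=
  h x h1 (mem_prp.1 h2)

theorem Sy.pow {z : Module.End F (V8 F)} (hz : Sy z) (n : ℕ) : Sy (z ^ n) := by
  induction n with
  | zero => rw [pow_zero]; exact fun _ _ => rfl
  | succ n ih =>
    intro x y
    rw [pow_succ, Module.End.mul_apply, ih, hz, ← Module.End.mul_apply, ← pow_succ', pow_succ]

/-! ### projections -/

theorem exists_pj {U : Submodule F (V8 F)} (h : Nd (Q8 F) U) : ∃ π, Pj U π := by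
  have hc : IsCompl U (prp (Q8 F) U) := ⟨disjoint_iff.2 h.inf_prp, codisjoint_iff.2 (h.sup_prp nondeg8')⟩
  refine ⟨U.subtype ∘ₗ U.projectionOnto _ hc, fun x => ⟨(U.projectionOnto _ hc x).2, ?_⟩⟩
  have hx : x ∈ U ⊔ prp (Q8 F) U := by rw [h.sup_prp nondeg8']; trivial
  obtain ⟨a, ha, b, hb, rfl⟩ := Submodule.mem_sup.1 hx
  have h1 := Submodule.projectionOnto_apply_left hc ⟨a, ha⟩
  have h2 := Submodule.projectionOnto_apply_right hc ⟨b, hb⟩
  simp only at h1 h2
  rw [LinearMap.comp_apply, map_add, h1, h2, add_zero]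
  simpa using hb

namespace Pj

variable {U : Submodule F (V8 F)} {π : Module.End F (V8 F)} (hn : Nd (Q8 F) U) (h : Pj U π)

include hn h

theorem left {x : V8 F} (hx : x ∈ U) : π x = x :=
  (sub_eq_zero.1 (nd_eq hn (sub_mem hx (h x).1) (h x).2)).symm

theorem right {x : V8 F} (hx : x ∈ prp (Q8 F) U) : π x = 0 := by
  have h1 := sub_mem hx (h x).2
  rw [sub_sub_cancel] at h1
  exact nd_eq hn (h x).1 h1

theorem idem (x : V8 F) : π (π x) = π x := h.left hn (h x).1

theorem cm (hU : Iv L U) : Cm L π := fun a ha x => by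
  have h1 : a.1 x = a.1 (π x) + a.1 (x - π x) := by rw [← map_add, add_sub_cancel]
  rw [h1, map_add, h.left hn (hU a ha _ (h x).1), h.right hn (iv_prp hU a ha _ (h x).2), add_zero]

omit hn in
theorem pol (x y : V8 F) : polar (Q8 F) (π x) y = polar (Q8 F) (π x) (π y) := by
  have h1 := mem_prp.1 (h y).2 _ (h x).1
  rw [polar_sub_left, sub_eq_zero] at h1
  rw [polar_comm, h1, polar_comm]

omit hn in
theorem sy : Sy π := fun x y => by
  rw [h.pol, polar_comm _ x, h.pol y x, polar_comm]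

omit hn in
theorem norm_refl (x : V8 F) : Q8 F (x - (2 : F) • π x) = Q8 F x := by
  have h1 := mem_prp.1 (h x).2 _ (h x).1
  have h2 : x - (2 : F) • π x = (x - π x) + - π x := by module
  have h3 : x = (x - π x) + π x := by module
  rw [h2, Q_add, polar_neg_right, h1, QuadraticMap.map_neg]
  conv_rhs => rw [h3, Q_add, h1]
  rw [neg_zero]

theorem mem_ker {x : V8 F} (hx : π x = 0) : x ∈ prp (Q8 F) U := by
  have h1 := (h x).2
  rwa [hx, sub_zero] at h1

end Pj

/-! ### the commutant -/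

/-- commuting maps with isotropic image vanish -/
theorem iso0 (hr : Rd L) {z : Module.End F (V8 F)} (hz : Cm L z) (h : ∀ x y, polar (Q8 F) (z x) (z y) = 0)
    (x : V8 F) : z x = 0 := by
  refine (hr _ (hz.iv_map iv_top)).1 _ ⟨x, trivial, rfl⟩ ?_
  rintro _ ⟨y, -, rfl⟩
  exact h x y

theorem pol_of_norm {z : Module.End F (V8 F)} {m : F} (h : ∀ x, Q8 F (z x) = m * Q8 F x) (x y : V8 F) :
    polar (Q8 F) (z x) (z y) = m * polar (Q8 F) x y := by
  simp only [polar, ← map_add, h]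
  ring

theorem inj_of_norm {z : Module.End F (V8 F)} {m : F} (hm : m ≠ 0) (h : ∀ x, Q8 F (z x) = m * Q8 F x) :
    Function.Injective z := by
  rw [← LinearMap.ker_eq_bot, LinearMap.ker_eq_bot']
  intro x hx
  refine nondeg8' x fun y => ?_
  have h1 := pol_of_norm h x y
  rw [hx, polar_zero_left] at h1
  exact (mul_eq_zero.1 h1.symm).resolve_left hm

theorem Sd.sc (h : Sd L) {g : GL8 F} (hg : g ∈ E (Q8 F)) (hc : Cm L g.toLinearMap) :
    ∃ e : F, e * e = 1 ∧ ∀ x, g x = e • x := by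
  obtain ⟨e, he⟩ := h.ce ⟨g, hg⟩ fun a ha => e8_ext fun x => hc a ha x
  exact ⟨e, he.sq, he⟩

/-- [CI] isometries commuting with `L` are involutions -/
theorem Sd.ci (h : Sd L) (je : BoxJE) {z : Module.End F (V8 F)} (hz : Cm L z) (hq : ∀ x, Q8 F (z x) = Q8 F x)
    (x : V8 F) : z (z x) = x := by
  obtain ⟨g, hg⟩ := exists_gl (f := z) (inj_of_norm (m := (1 : F)) one_ne_zero fun x => by rw [hq, one_mul])
  have hO : g ∈ O (Q8 F) := fun v => by rw [hg, hq]
  have hc : Cm L g.toLinearMap := fun a ha v => by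
    show a.1 (g v) = g (a.1 v)
    rw [hg, hg, hz a ha]
  obtain ⟨e, he, h1⟩ := h.sc (H206.OrthBal.sq_mem_E good8 hO) (hc.mul hc)
  have h2 : ∀ v, g (g v) = e • v := h1
  rw [← hg, ← hg, h2]
  rcases sq_cases he with rfl | rfl
  · exact one_smul _ _
  by_cases h0 : (2 : F) = 0
  · rw [show (-1 : F) = 1 by linear_combination -h0, one_smul]
  obtain ⟨d, hd, h3⟩ := h.sc (je F g h0 hO fun v => by rw [h2, neg_smul, one_smul]) hc
  rw [← h2, h3, h3, smul_smul, hd, one_smul]

/-- subspaces of an invariant `4`-space -/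
theorem irr4 (hr : Rd L) {U W : Submodule F (V8 F)} (hU : Iv L U) (h4 : finrank F U = 4) (hW : Iv L W) :
    U ⊓ W = ⊥ ∨ U ≤ W := by
  have h1 := hr _ (iv_inf hU hW)
  have h2 := hr _ (iv_inf hU (iv_prp (iv_inf hU hW)))
  have h3 := h1.1.finrank_inf_prp nondeg8' (inf_le_left : U ⊓ W ≤ U)
  by_cases h0 : finrank F ↥(U ⊓ W) = 0
  · exact Or.inl (Submodule.finrank_eq_zero.1 h0)
  · exact Or.inr (inf_eq_left.1 (Submodule.eq_of_le_of_finrank_eq inf_le_left (by omega)))

/-- commuting projections -/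
theorem eq_of_comm (hr : Rd L) {U W : Submodule F (V8 F)} (hU : Iv L U) (hW : Iv L W) (h4 : finrank F U = 4)
    (h4' : finrank F W = 4) {π ρ : Module.End F (V8 F)} (hπ : Pj U π) (hρ : Pj W ρ) (h : ∀ x, π (ρ x) = ρ (π x)) :
    W = U ∨ W = prp (Q8 F) U := by
  rcases irr4 hr hU h4 hW with h1 | h1
  · refine Or.inr (Submodule.eq_of_le_of_finrank_eq (fun w hw => hπ.mem_ker (hr _ hU).1 ?_) (by rw [dim4 h4, h4']))
    have h2 : π w ∈ U ⊓ W := ⟨(hπ w).1, by rw [← hρ.left (hr _ hW).1 hw, h]; exact (hρ _).1⟩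
    rwa [h1] at h2
  · exact Or.inl (Submodule.eq_of_le_of_finrank_eq h1 (by rw [h4, h4'])).symm

theorem two_smul0 (h2 : (2 : F) = 0) (x : V8 F) : x + x = 0 := by rw [← two_smul F, h2, zero_smul]

/-- the Frobenius map permutes the symmetric part of the commutant -/
theorem frob (hr : Rd L) (h2 : (2 : F) = 0) {z : Module.End F (V8 F)} (hz : Cm L z) (hs : Sy z) :
    ∃ m, z ^ 2 ^ (m + 1) = z := by
  have hc : ∀ i j : ℕ, z ^ 2 ^ (i + 1) = z ^ 2 ^ (j + 1) → z ^ 2 ^ i = z ^ 2 ^ j := by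
    intro i j hij
    rw [pow_succ, pow_succ, pow_mul, pow_mul, pow_two, pow_two] at hij
    have k1 : z ^ 2 ^ i * z ^ 2 ^ j = z ^ 2 ^ j * z ^ 2 ^ i := by rw [← pow_add, ← pow_add, add_comm]
    have k2 := hs.pow (2 ^ i)
    have k3 := hs.pow (2 ^ j)
    have k4 := (hz.pow (2 ^ i)).sub (hz.pow (2 ^ j))
    generalize z ^ 2 ^ i = X, z ^ 2 ^ j = Y at *
    refine LinearMap.ext fun x => sub_eq_zero.1 (iso0 hr k4 (fun x y => ?_) x)
    have e1 : X (X y) = Y (Y y) := LinearMap.congr_fun hij y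
    have e2 : X (Y y) = Y (X y) := LinearMap.congr_fun k1 y
    rw [LinearMap.sub_apply, polar_sub_left, k2, k3, LinearMap.sub_apply, map_sub, map_sub, e1, e2, ← polar_sub_right,
      show Y (Y y) - Y (X y) - (Y (X y) - Y (Y y)) = (Y (Y y) - Y (X y)) + (Y (Y y) - Y (X y)) by module,
      two_smul0 h2, polar_zero_right]
  have hd : ∀ i m : ℕ, z ^ 2 ^ (m + 1 + i) = z ^ 2 ^ i → z ^ 2 ^ (m + 1) = z := by
    intro i
    induction i with
    | zero => intro m hm; simpa using hm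
    | succ i ih => intro m hm; exact ih m (hc _ _ hm)
  have _ : Finite (Module.End F (V8 F)) := Finite.of_injective _ DFunLike.coe_injective
  obtain ⟨i, j, hij, h⟩ := Finite.exists_ne_map_eq_of_infinite fun i : ℕ => z ^ 2 ^ i
  rcases lt_or_gt_of_ne hij with h1 | h1
  · exact ⟨j - i - 1, hd i _ (by rw [show j - i - 1 + 1 + i = j by omega]; exact h.symm)⟩
  · exact ⟨i - j - 1, hd j _ (by rw [show i - j - 1 + 1 + j = i by omega]; exact h)⟩

/-- there are only two invariant `4`-spaces -/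
theorem Sd.uniq (h : Sd L) (je : BoxJE) {U W : Submodule F (V8 F)} (hU : Iv L U) (hW : Iv L W) (h4 : finrank F U = 4)
    (h4' : finrank F W = 4) : W = U ∨ W = prp (Q8 F) U := by
  have nU := (h.rd _ hU).1
  have nW := (h.rd _ hW).1
  obtain ⟨π, hπ⟩ := exists_pj nU
  obtain ⟨ρ, hρ⟩ := exists_pj nW
  have cπ := hπ.cm nU hU
  have cρ := hρ.cm nW hW
  refine eq_of_comm h.rd hU hW h4 h4' hπ hρ fun x => ?_
  by_cases h2 : (2 : F) = 0
  · obtain ⟨S, hS⟩ : ∃ S, S = π * ρ - ρ * π := ⟨_, rfl⟩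
    have e0 : ∀ x, S x = π (ρ x) - ρ (π x) := fun x => by rw [hS]; rfl
    have e1 : ∀ x, S (π x) + π (S x) = S x := fun x => by
      rw [e0, e0, map_sub, hπ.idem nU, hπ.idem nU]
      module
    have sS : Sy S := fun x y => by
      rw [e0, e0, polar_sub_left, polar_sub_right, hπ.sy, hρ.sy, hρ.sy, hπ.sy]
      linear_combination (polar (Q8 F) x (ρ (π y)) - polar (Q8 F) x (π (ρ y))) * h2
    obtain ⟨m, hm⟩ := frob h.rd h2 (z := S) (hS ▸ (cπ.mul cρ).sub (cρ.mul cπ)) sS
    have e2 : Commute π (S * S) := LinearMap.ext fun x => by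
      show π (S (S x)) = S (S (π x))
      rw [eq_sub_of_add_eq (e1 x), map_sub, eq_sub_of_add_eq (e1 (S x)), sub_sub_cancel]
    have e3 : Commute π S := by
      rw [← hm, pow_succ', pow_mul, pow_two]
      exact e2.pow_right _
    have e4 : π (S x) = S (π x) := LinearMap.congr_fun e3 x
    rw [← sub_eq_zero, ← e0, ← e1, e4, two_smul0 h2]
  · have e1 := h.ci je ((Cm.one.sub (cπ.smul 2)).mul (Cm.one.sub (cρ.smul 2))) (fun x => by
      show Q8 F ((x - (2 : F) • ρ x) - (2 : F) • π (x - (2 : F) • ρ x)) = _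
      rw [hπ.norm_refl, hρ.norm_refl])
    obtain ⟨s, hs⟩ : ∃ s : Module.End F (V8 F), s = 1 - (2 : F) • π := ⟨_, rfl⟩
    obtain ⟨t, ht⟩ : ∃ t : Module.End F (V8 F), t = 1 - (2 : F) • ρ := ⟨_, rfl⟩
    rw [← hs, ← ht] at e1
    have s0 : ∀ x, s x = x - (2 : F) • π x := fun x => by rw [hs]; rfl
    have t0 : ∀ x, t x = x - (2 : F) • ρ x := fun x => by rw [ht]; rfl
    have s1 : ∀ x, s (s x) = x := fun x => by
      rw [s0, s0, map_sub, map_smul, hπ.idem nU]
      module
    have t1 : ∀ x, t (t x) = x := fun x => by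
      rw [t0, t0, map_sub, map_smul, hρ.idem nW]
      module
    have e2 : s (t x) = t (s x) := by
      have e3 : s (t (s (t (t (s x))))) = t (s x) := e1 (t (s x))
      rwa [t1, s1] at e3
    rw [s0, t0, t0, s0, map_sub, map_sub, map_smul, map_smul] at e2
    have e4 : (2 * 2 : F) • π (ρ x) = (2 * 2 : F) • ρ (π x) := by linear_combination (norm := module) e2
    exact smul_right_injective _ (mul_ne_zero h2 h2) e4

/-- [P2K] in the context -/
theorem Sd.p2k (h : Sd L) (hb : BoxP2K) {W : Submodule F (V8 F)} (hW : Iv L W) (h4 : finrank F W = 4)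
    {j : Module.End F (V8 F)} (hj : Cm L j) {t d : F} (h1 : ∀ x ∈ W, j x ∈ W) (h2 : ∀ x, j (j x) = t • j x + d • x)
    (h3 : ∀ c : F, c * c ≠ t * c + d) (hs : Sy j) (ha : (2 : F) = 0 → ∀ x, polar (Q8 F) (j x) x = 0) : False := by
  have h5 := hb F W j t d L h4 (h.rd _ hW).1 h1 (fun x _ => h2 x) h3 (fun x _ y _ => hs x y)
    (fun h0 x _ => ha h0 x) h.pf hW (fun a ha x _ => hj a ha x)
  have h6 : W = ⊥ := (Submodule.eq_bot_iff _).2 fun x hx => h.nf x fun a ha => h5 a ha x hx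
  rw [h6, finrank_bot] at h4
  omega

/-- skew similitudes -/
theorem Sd.skew (h : Sd L) (je : BoxJE) (h2 : (2 : F) ≠ 0) {u : Module.End F (V8 F)} (hu : Cm L u) {D : F} (hD : D ≠ 0)
    (ha : ∀ x, polar (Q8 F) (u x) x = 0) (hq : ∀ x, Q8 F (u x) = D * Q8 F x) : False := by
  have e1 : ∀ (a b : F) (x : V8 F), Q8 F (a • x + b • u x) = (a * a + b * b * D) * Q8 F x := fun a b x => by
    rw [Q_add, QuadraticMap.map_smul, QuadraticMap.map_smul, polar_smul_left, polar_smul_right, polar_comm, ha, hq]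
    simp only [smul_eq_mul]
    ring
  have e0 : Q8 F (one8 F) = 1 := norm_one8
  by_cases hc : 1 + D = 0
  · have e2 := iso0 h.rd (Cm.one.add hu) (fun x y => by
      rw [pol_of_norm (m := 0) (fun x => ?_), zero_mul]
      have e3 := e1 1 1 x
      rw [one_smul, one_smul, one_mul, one_mul, hc] at e3
      exact e3) (one8 F)
    have e4 : u (one8 F) = - one8 F := eq_neg_of_add_eq_zero_right e2
    have e5 := ha (one8 F)
    rw [e4, polar_neg_left, polar_self', e0] at e5
    exact h2 (by linear_combination -e5)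
  obtain ⟨a, hA⟩ : ∃ a, a = (1 - D) / (1 + D) := ⟨_, rfl⟩
  obtain ⟨b, hB⟩ : ∃ b, b = 2 / (1 + D) := ⟨_, rfl⟩
  have hb : b ≠ 0 := hB ▸ div_ne_zero h2 hc
  have hab : a * a + b * b * D = 1 := by rw [hA, hB]; field_simp; ring
  have hq' : ∀ x, Q8 F ((a • (1 : Module.End F (V8 F)) + b • u) x) = Q8 F x := fun x => by
    show Q8 F (a • x + b • u x) = _
    rw [e1, hab, one_mul]
  have e2 := h.ci je ((Cm.one.smul a).add (hu.smul b)) hq'
  have e3 := pol_of_norm (m := 1) (fun x => by rw [hq', one_mul]) ((a • (1 : Module.End F (V8 F)) + b • u) (one8 F))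
    (u (one8 F))
  rw [e2, one_mul] at e3
  change polar (Q8 F) (one8 F) (a • u (one8 F) + b • u (u (one8 F))) =
    polar (Q8 F) (a • one8 F + b • u (one8 F)) (u (one8 F)) at e3
  have e4 := ha (one8 F + u (one8 F))
  rw [map_add, polar_add_left, polar_add_right, polar_add_right, ha, ha, polar_self', hq, e0] at e4
  rw [polar_add_right, polar_add_left, polar_smul_right, polar_smul_right, polar_smul_left, polar_smul_left,
    polar_self', hq, e0, polar_comm _ _ (u (u _))] at e3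
  simp only [smul_eq_mul] at e3
  have e5 : b * (2 * 2 * D) = 0 := by linear_combination b * e4 - e3
  exact mul_ne_zero hb (mul_ne_zero (mul_ne_zero h2 h2) hD) e5

end Cfsg.Agent.N2C.D4.B44
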