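import Cfsg.Agent.N2.Cl.D4.Core
import Cfsg.Agent.N2.Cl.D4.B44a

/-!
# N2 (S3519), `PΩ₈⁺(q)` with triality, box 44: invariant `4`-spaces (helper89)
-/

set_option autoImplicit false
set_option linter.unusedSectionVars false

namespace Cfsg.Agent.N2C.D4

open QuadraticMap Module Cfsg.Agent.LieClassical.QuadForms Cfsg.Agent.LieClassical.OrthCore
  Cfsg.Agent.LieClassical.OrthTrans Cfsg.Agent.ClassicalGeometry.OrthSemi Cfsg.Agent.ClassicalGeometry.OrthAut1
  Cfsg.Agent.ClassicalGeometry.TrialityOct Cfsg.Agent.ClassicalGeometry.Triality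
  Cfsg.Agent.H989.OutOrth.Basic Cfsg.Agent.H989.OutOrth.Tri Cfsg.Agent.SB.D4

namespace B44

variable {F : Type} [Field F] [Fintype F] {L : Subgroup (E8 F)}

/-- an orthogonal basis of `W` -/
structure Ob (W : Submodule F (V8 F)) (p q r t : V8 F) : Prop where
  mp : p ∈ W
  mq : q ∈ W
  mr : r ∈ W
  mt : t ∈ W
  np : Q8 F p ≠ 0
  nq : Q8 F q ≠ 0
  nr : Q8 F r ≠ 0
  nt : Q8 F t ≠ 0
  pq : polar (Q8 F) p q = 0
  pr : polar (Q8 F) p r = 0
  pt : polar (Q8 F) p t = 0
  qr : polar (Q8 F) q r = 0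
  qt : polar (Q8 F) q t = 0
  rt : polar (Q8 F) r t = 0
  sp : ∀ w ∈ W, ∃ a b c d : F, w = a • p + b • q + c • r + d • t

theorem exists_ob (h2 : (2 : F) ≠ 0) {W : Submodule F (V8 F)} (hn : Nd (Q8 F) W) (h4 : finrank F W = 4) :
    ∃ p q r t, Ob W p q r t := by
  obtain ⟨u, hu, hQ, ho, hs⟩ := hn.exists_orth h2 h4
  refine ⟨u 0, u 1, u 2, u 3, hu 0, hu 1, hu 2, hu 3, hQ 0, hQ 1, hQ 2, hQ 3, ho 0 1 (by decide), ho 0 2 (by decide),
    ho 0 3 (by decide), ho 1 2 (by decide), ho 1 3 (by decide), ho 2 3 (by decide), fun w hw => ?_⟩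
  obtain ⟨c, hc⟩ := hs w hw
  exact ⟨c 0, c 1, c 2, c 3, by rw [hc, Fin.sum_univ_four]⟩

namespace Ob

variable {W : Submodule F (V8 F)} {p q r t : V8 F} (h : Ob W p q r t)
include h

theorem sw1 : Ob W p r q t :=
  ⟨h.mp, h.mr, h.mq, h.mt, h.np, h.nr, h.nq, h.nt, h.pr, h.pq, h.pt, (polar_comm _ _ _).trans h.qr, h.rt, h.qt,
    fun w hw => by
      obtain ⟨a, b, c, d, e⟩ := h.sp w hw
      exact ⟨a, c, b, d, by rw [e]; abel⟩⟩

theorem sw2 : Ob W p q t r :=
  ⟨h.mp, h.mq, h.mt, h.mr, h.np, h.nq, h.nt, h.nr, h.pq, h.pt, h.pr, h.qt, h.qr, (polar_comm _ _ _).trans h.rt,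
    fun w hw => by
      obtain ⟨a, b, c, d, e⟩ := h.sp w hw
      exact ⟨a, b, d, c, by rw [e]; abel⟩⟩

theorem four {π : Module.End F (V8 F)} (hπ : Pj W π) (x : V8 F) :
    srf p (srf q (srf r (srf t x))) = (Q8 F p * Q8 F q * Q8 F r * Q8 F t) • (x - (2 : F) • π x) := by
  obtain ⟨y, hy⟩ : ∃ y, y = x - π x := ⟨_, rfl⟩
  have h1 : ∀ v ∈ W, srf v y = - Q8 F v • y := fun v hv =>
    srf_perp ((polar_comm _ _ _).trans (mem_prp.1 (hy ▸ (hπ x).2) v hv))
  obtain ⟨a, b, c, d, e⟩ := h.sp _ (hπ x).1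
  have h3 : x = y + π x := by rw [hy, sub_add_cancel]
  generalize π x = z at *
  subst h3 e
  simp only [map_add, map_smul, h1 _ h.mp, h1 _ h.mq, h1 _ h.mr, h1 _ h.mt, srf_self, srf_perp h.pq, srf_perp h.pr,
    srf_perp h.pt, srf_perp h.qr, srf_perp h.qt, srf_perp h.rt, srf_perp ((polar_comm _ _ _).trans h.pq),
    srf_perp ((polar_comm _ _ _).trans h.pr), srf_perp ((polar_comm _ _ _).trans h.pt),
    srf_perp ((polar_comm _ _ _).trans h.qr), srf_perp ((polar_comm _ _ _).trans h.qt),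
    srf_perp ((polar_comm _ _ _).trans h.rt)]
  module

omit h in
theorem pair (hp : Q8 F p ≠ 0) (hq : Q8 F q ≠ 0) (hs : IsSquare (Q8 F p * Q8 F q)) :
    ∃ g ∈ E (Q8 F), ∀ x, srf p (srf q x) = (Q8 F p * Q8 F q) • g x := by
  obtain ⟨e, he⟩ := hs
  have he0 : e ≠ 0 := fun h0 => mul_ne_zero hp hq (by rw [he, h0, zero_mul])
  have h1 : Q8 F ((e / Q8 F q) • q) = Q8 F p := by
    rw [QuadraticMap.map_smul, smul_eq_mul]
    field_simp
    linear_combination -he
  have h2 := (good8 (F := F)).refl_mul_refl_mem (h1 ▸ hp) hp h1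
  rw [refl_smul hq (div_ne_zero he0 hq)] at h2
  have h3 : ∀ (v : V8 F) (hv : Q8 F v ≠ 0) (x : V8 F), srf v x = - Q8 F v • refl (Q8 F) v hv x := fun v hv x => by
    rw [srf_apply, refl_apply, smul_sub, smul_smul, neg_mul, mul_inv_cancel_left₀ hv]
    module
  refine ⟨_, h2, fun x => ?_⟩
  rw [h3 q hq, map_smul, h3 p hp, smul_smul, LinearEquiv.mul_apply, neg_mul_neg, mul_comm]

theorem memE1 {π : Module.End F (V8 F)} (hπ : Pj W π) {s : GL8 F} (hs : ∀ x, s x = x - (2 : F) • π x)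
    (h1 : IsSquare (Q8 F p * Q8 F q)) (h2 : IsSquare (Q8 F r * Q8 F t)) : s ∈ E (Q8 F) := by
  obtain ⟨g, hg, k⟩ := pair h.np h.nq h1
  obtain ⟨g', hg', k'⟩ := pair h.nr h.nt h2
  have h3 : s = g * g' := LinearEquiv.ext fun x => by
    have h4 := h.four hπ x
    rw [k, k', map_smul, smul_smul, ← mul_assoc, ← hs] at h4
    exact (smul_right_injective _ (mul_ne_zero (mul_ne_zero (mul_ne_zero h.np h.nq) h.nr) h.nt) h4).symm
  exact h3 ▸ mul_mem hg hg'

theorem memE {π : Module.End F (V8 F)} (hπ : Pj W π) {s : GL8 F} (hs : ∀ x, s x = x - (2 : F) • π x)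
    (h1 : IsSquare (Q8 F p * Q8 F q * Q8 F r * Q8 F t)) : s ∈ E (Q8 F) := by
  classical
  have k : ∀ a b : F, a ≠ 0 → b ≠ 0 → quadraticChar F a * quadraticChar F b = 1 → IsSquare (a * b) :=
    fun a b ha hb e => (quadraticChar_one_iff_isSquare (mul_ne_zero ha hb)).1 (by rw [map_mul, e])
  have h2 := (quadraticChar_one_iff_isSquare (mul_ne_zero (mul_ne_zero (mul_ne_zero h.np h.nq) h.nr) h.nt)).2 h1
  rw [map_mul, map_mul, map_mul] at h2
  have k1 := fun e e' => h.memE1 hπ hs (k _ _ h.np h.nq e) (k _ _ h.nr h.nt e')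
  have k2 := fun e e' => h.sw1.memE1 hπ hs (k _ _ h.np h.nr e) (k _ _ h.nq h.nt e')
  have k3 := fun e e' => h.sw2.sw1.memE1 hπ hs (k _ _ h.np h.nt e) (k _ _ h.nq h.nr e')
  rcases quadraticChar_dichotomy h.np with a | a <;> rcases quadraticChar_dichotomy h.nq with b | b <;>
    rcases quadraticChar_dichotomy h.nr with c | c <;> rcases quadraticChar_dichotomy h.nt with d | d <;>
    rw [a, b, c, d] at h2 k1 k2 k3 <;>
    first
      | (refine k1 ?_ ?_ <;> decide)
      | (refine k2 ?_ ?_ <;> decide)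
      | (refine k3 ?_ ?_ <;> decide)
      | omega

/-- the triality partner of `-1` on `W` -/
theorem partner {π : Module.End F (V8 F)} (hπ : Pj W π) {s : GL8 F} (hs : ∀ x, s x = x - (2 : F) • π x) :
    ∃ j k : GL8 F, Tr s j k ∧ (∀ x, j (j x) = (Q8 F p * Q8 F q * Q8 F r * Q8 F t) • x) ∧
      ∀ x, Q8 F (j x) = (Q8 F p * Q8 F q * Q8 F r * Q8 F t) * Q8 F x := by
  have h1 := h.four hπ
  have h7 := cliff4 h.pq h.pr h.pt h.qr h.qt h.rt
  have hD0 := mul_ne_zero (mul_ne_zero (mul_ne_zero h.np h.nq) h.nr) h.nt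
  obtain ⟨j, hj⟩ := exists_gl (f := SB.D4.pr p ∘ₗ pl q ∘ₗ SB.D4.pr r ∘ₗ pl t)
    ((pr_injective h.np).comp ((pl_injective h.nq).comp ((pr_injective h.nr).comp (pl_injective h.nt))))
  obtain ⟨j', hj'⟩ := exists_gl (f := pl p ∘ₗ SB.D4.pr q ∘ₗ pl r ∘ₗ SB.D4.pr t)
    ((pl_injective h.np).comp ((pr_injective h.nq).comp ((pl_injective h.nr).comp (pr_injective h.nt))))
  simp only [LinearMap.comp_apply, pl_apply, pr_apply] at hj hj'
  refine ⟨j, LinearEquiv.smulOfNeZero F (V8 F) _ (inv_ne_zero hD0) * j', fun x y => ?_, fun x => ?_, fun x => ?_⟩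
  · have h5 := h1 (pm x y)
    rw [srf_pm, srf_pm, srf_pm, srf_pm, ← hs] at h5
    rw [LinearEquiv.mul_apply, LinearEquiv.smulOfNeZero_apply, pm_smul, hj, hj', h5, smul_smul, inv_mul_cancel₀ hD0,
      one_smul]
  · rw [hj, hj, h7]
  · rw [hj, norm_pm, norm_pm, norm_pm, norm_pm]
    ring

end Ob

theorem dim_map {z : Module.End F (V8 F)} (hz : Function.Injective z) (U : Submodule F (V8 F)) :
    finrank F (U.map z) = finrank F U := (Submodule.equivMapOfInjective z hz U).finrank_eq.symm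

/-- a symmetric similitude with non-square multiplier -/
theorem Sd.sim (h : Sd L) (je : BoxJE) (pk : BoxP2K) (h2 : (2 : F) ≠ 0) {U : Submodule F (V8 F)} (hU : Iv L U)
    (h4 : finrank F U = 4) {j : Module.End F (V8 F)} (hj : Cm L j) {D : F} (hD : ¬ IsSquare D)
    (h1 : ∀ x, j (j x) = D • x) (hq : ∀ x, Q8 F (j x) = D * Q8 F x) : False := by
  have hD0 : D ≠ 0 := fun e => hD (e ▸ IsSquare.zero)
  have hs : Sy j := fun x y => by
    have e1 := pol_of_norm hq x (j y)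
    rw [h1, polar_smul_right, smul_eq_mul] at e1
    exact mul_left_cancel₀ hD0 e1
  have nU := (h.rd _ hU).1
  rcases h.uniq je hU (hj.iv_map hU) h4 ((dim_map (inj_of_norm hD0 hq) U).trans h4) with e | e
  · exact h.p2k pk hU h4 hj (t := 0) (d := D) (fun x hx => e.le ⟨x, hx, rfl⟩) (fun x => by rw [h1, zero_smul, zero_add])
      (fun c hc => hD ⟨c, by rw [hc, zero_mul, zero_add]⟩) hs fun h0 => (h2 h0).elim
  obtain ⟨π, hπ⟩ := exists_pj nU
  have e1 : ∀ x ∈ U, j x ∈ prp (Q8 F) U := fun x hx => e.le ⟨x, hx, rfl⟩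
  have e2 : ∀ x ∈ prp (Q8 F) U, j x ∈ U := fun x hx => by
    obtain ⟨y, hy, rfl⟩ := e.ge hx
    rw [h1]
    exact U.smul_mem _ hy
  refine h.skew je h2 ((Cm.one.sub ((hπ.cm nU hU).smul 2)).mul hj) hD0 (fun x => ?_) fun x => ?_
  · change polar (Q8 F) (j x - (2 : F) • π (j x)) x = 0
    have e3 : j x = j (π x) + j (x - π x) := by rw [← map_add, add_sub_cancel]
    have e4 : π (j x) = j (x - π x) := by
      rw [e3, map_add, hπ.right nU (e1 _ (hπ x).1), hπ.left nU (e2 _ (hπ x).2), zero_add]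
    have e5 := mem_prp.1 (e1 _ (hπ x).1) _ (hπ x).1
    have e6 := hs (π x) x
    rw [e4, map_sub, polar_sub_left, polar_smul_left, polar_sub_left, smul_eq_mul]
    have e7 := mem_prp.1 (hπ x).2 _ (e2 _ (hπ x).2)
    rw [map_sub, polar_sub_left, polar_sub_right, polar_sub_right, polar_comm _ x, polar_comm _ x, polar_comm _ (π x),
      polar_comm _ (π x), e5] at e7
    rw [polar_comm _ (π x)] at e6
    linear_combination -e7 + e6
  · change Q8 F (j x - (2 : F) • π (j x)) = _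
    rw [hπ.norm_refl, hq]

/-- characteristic two: the non-split case -/
theorem Sd.nsp (h : Sd L) (je : BoxJE) (pk : BoxP2K) (h2 : (2 : F) = 0) {U : Submodule F (V8 F)} (hU : Iv L U)
    (h4 : finrank F U = 4) {g : Module.End F (V8 F)} (hg : Cm L g) {μ c : F} (hμ : ∀ t : F, t * t ≠ 1 * t + μ)
    (h1 : ∀ x, g (g x) = g x + μ • x) (hc : ∀ x, polar (Q8 F) (g x) x = c * Q8 F x) : False := by
  have hμ0 : μ ≠ 0 := fun e => hμ 0 (by rw [e]; ring)
  have alt : ∀ x, polar (Q8 F) x x = 0 := fun x => by rw [polar_self', h2, zero_mul]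
  have e0 : Q8 F (one8 F) = 1 := norm_one8
  have e1 : ∀ x y, polar (Q8 F) (g x) y = polar (Q8 F) x (g y) + c * polar (Q8 F) x y := fun x y => by
    have e2 := hc (x + y)
    rw [map_add, polar_add_left, polar_add_right, polar_add_right, hc, hc, Q_add, polar_comm _ (g y)] at e2
    linear_combination e2 - polar (Q8 F) x (g y) * h2
  have e2 : c * c = c := by
    have e3 := e1 (g (one8 F)) (one8 F)
    rw [h1, polar_add_left, polar_smul_left, alt, alt, hc, e0] at e3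
    simp only [smul_eq_mul] at e3
    linear_combination -e3
  have i1 : Function.Injective g := by
    rw [← LinearMap.ker_eq_bot, LinearMap.ker_eq_bot']
    intro x hx
    have e3 := h1 x
    rw [hx, map_zero, zero_add] at e3
    exact (smul_eq_zero.1 e3.symm).resolve_left hμ0
  by_cases c0 : c = 0
  · have i2 : Function.Injective (g - 1 : Module.End F (V8 F)) := by
      rw [← LinearMap.ker_eq_bot, LinearMap.ker_eq_bot']
      intro x hx
      have e4 : g x = x := sub_eq_zero.1 hx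
      have e3 := h1 x
      rw [e4, e4, left_eq_add] at e3
      exact (smul_eq_zero.1 e3).resolve_left hμ0
    have nU := (h.rd _ hU).1
    refine h.p2k pk hU h4 hg (t := 1) (d := μ) (fun x hx => ?_) (fun x => by rw [h1, one_smul]) hμ
      (fun x y => by rw [e1, c0, zero_mul, add_zero]) fun _ x => by rw [hc, c0, zero_mul]
    rcases h.uniq je hU (hg.iv_map hU) h4 ((dim_map i1 U).trans h4) with e | e
    · exact e.le ⟨x, hx, rfl⟩
    rcases h.uniq je hU ((hg.sub Cm.one).iv_map hU) h4 ((dim_map i2 U).trans h4) with e' | e'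
    · exact (Submodule.sub_mem_iff_left U hx).1 (e'.le ⟨x, hx, rfl⟩)
    · have e3 : g x ∈ prp (Q8 F) U := e.le ⟨x, hx, rfl⟩
      have e4 : g x - x ∈ prp (Q8 F) U := e'.le ⟨x, hx, rfl⟩
      rw [nd_eq nU hx ((Submodule.sub_mem_iff_right _ e3).1 e4), map_zero]
      exact zero_mem U
  have c1 : c = 1 := mul_left_cancel₀ c0 (by rw [e2, mul_one])
  have e3 : ∀ x, Q8 F (g x) = μ * Q8 F x := fun x => by
    have e4 := hc (g x)
    rw [h1, polar_add_left, polar_smul_left, alt, polar_comm _ x, hc, c1, smul_eq_mul] at e4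
    linear_combination -e4
  have e4 := h.ci je ((hg.mul hg).smul μ⁻¹) (fun x => by
    change Q8 F (μ⁻¹ • g (g x)) = _
    rw [QuadraticMap.map_smul, e3, e3, smul_eq_mul]
    field_simp) (one8 F)
  change μ⁻¹ • g (g (μ⁻¹ • g (g (one8 F)))) = one8 F at e4
  rw [map_smul, map_smul, h1 (one8 F), map_add, map_smul, map_add, map_smul, h1 (g (one8 F))] at e4
  have e5 : ∀ x : V8 F, μ • x + μ • x = 0 := fun x => two_smul0 h2 _
  have e6 : g (g (one8 F)) = 0 := by
    have e7 := congrArg (fun v => (μ * μ) • v) e4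
    simp only [smul_smul] at e7
    rw [show μ * μ * (μ⁻¹ * μ⁻¹) = 1 by field_simp, one_smul, h1] at e7
    rw [h1]
    linear_combination (norm := module) e7 - e5 (g (one8 F))
  have e8 := e3 (g (one8 F))
  rw [e6, map_zero, e3, e0, mul_one] at e8
  exact mul_ne_zero hμ0 hμ0 e8.symm

/-- characteristic two: kernels of idempotents -/
theorem dim_ker (hr : Rd L) (h2 : (2 : F) = 0) {g : Module.End F (V8 F)} (hg : Cm L g) (h1 : ∀ x, g (g x) = g x)
    (hn : ∀ l : F, g ≠ l • 1) : finrank F (LinearMap.ker g) = 4 := by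
  have k1 := hr _ hg.iv_ker
  have k2 := hr _ (iv_prp hg.iv_ker)
  have k3 := dim_prp (LinearMap.ker g)
  obtain ⟨m, hm⟩ := k1.1.even (s := LinearMap.id) (fun _ hx => hx)
    (fun x _ => by rw [LinearMap.id_apply, polar_self', h2, zero_mul]) fun _ _ hx => hx
  have k4 : finrank F (LinearMap.ker g) ≠ 0 := fun e => hn 1 (LinearMap.ext fun x => by
    have e1 : g x - x ∈ LinearMap.ker g := by rw [LinearMap.mem_ker, map_sub, h1, sub_self]
    rw [Submodule.finrank_eq_zero.1 e, Submodule.mem_bot, sub_eq_zero] at e1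
    rw [one_smul]
    exact e1)
  have k5 : finrank F (LinearMap.ker g) ≠ 8 := fun e => hn 0 (by
    rw [zero_smul, ← LinearMap.ker_eq_top]
    exact Submodule.eq_top_of_finrank_eq (e.trans finrank8.symm))
  omega

variable {A : Subgroup (G8 F)} {Γ : Subgroup (MulAut (G8 F))} {M₁ M₂ : Gam (Q8 F)} {N : Subgroup (G8 F)}
  {𝓣 : Set (Subgroup (G8 F))}

theorem sd (h : Cb A Γ M₁ M₂ N 𝓣) (nf : NoFix (lf N)) (rd : Rd (lf N)) (M : Gam (Q8 F)) : Sd (cL M (lf N)) :=
  ⟨cL_perfect M h.perf, nf.cL M, rd.cL M, fun _ hg => h.sc_of_comm M hg⟩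

theorem odd (m : Lm) (h : Cb A Γ M₁ M₂ N 𝓣) (nf : NoFix (lf N)) (rd : Rd (lf N)) (h2 : (2 : F) ≠ 0)
    {U : Submodule F (V8 F)} (hU : Iv (lf N) U) (h4 : finrank F U = 4) : False := by
  have nU := (rd _ hU).1
  obtain ⟨π, hπ⟩ := exists_pj nU
  obtain ⟨s, hs⟩ := exists_gl (f := 1 - (2 : F) • π) (inj_of_norm (m := (1 : F)) one_ne_zero fun x => by
    rw [one_mul]
    exact hπ.norm_refl x)
  replace hs : ∀ x, s x = x - (2 : F) • π x := hs
  have cs : ∀ l ∈ lf N, ∀ x, l.1 (s x) = s (l.1 x) := fun l hl x => by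
    rw [hs, hs, map_sub, map_smul, hπ.cm nU hU l hl]
  obtain ⟨p, q, r, t, ob⟩ := exists_ob h2 nU h4
  obtain ⟨j, k, ht, h1, hq⟩ := ob.partner hπ hs
  refine (sd h nf rd M₁).sim m.je m.p2k h2 ((Iv.cL M₁).2 hU) ((finrank_gmap _ _).trans h4) (j := j.toLinearMap)
    (h.tr_comm ht cs).1 (fun hD => ?_) h1 hq
  obtain ⟨d, hd⟩ := h.sc_of_comm' (g := ⟨s, ob.memE hπ hs hD⟩) fun l hl => e8_ext (cs l hl)
  have e1 : ∀ x, s x = d • x := hd
  obtain ⟨y, hy, hy0⟩ := (nU.nd_prp nondeg8').exists_nonsing (fun e => by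
    have e2 := dim4 h4
    rw [e, finrank_bot] at e2
    omega)
  have e2 := e1 p
  have e3 := e1 y
  rw [hs, hπ.left nU ob.mp] at e2
  rw [hs, hπ.right nU hy, smul_zero, sub_zero] at e3
  have e4 : d = 1 := smul_left_injective F (fun e => hy0 (by rw [e, map_zero])) (e3.symm.trans (one_smul F y).symm)
  rw [e4, one_smul, sub_eq_self, smul_eq_zero] at e2
  exact e2.elim h2 fun e => ob.np (by rw [e, map_zero])

theorem even (m : Lm) (h : Cb A Γ M₁ M₂ N 𝓣) (nf : NoFix (lf N)) (rd : Rd (lf N)) (h2 : (2 : F) = 0)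
    {U : Submodule F (V8 F)} (hU : Iv (lf N) U) (h4 : finrank F U = 4) : FP3.Good A := by
  have nU := (rd _ hU).1
  have s1 : Sd (lf N) := Cb.cL_one (lf N) ▸ sd h nf rd 1
  have s2 := sd h nf rd M₁
  have s3 := sd h nf rd M₂
  obtain ⟨l1, l2, l3, l4⟩ := m.lie F
  obtain ⟨π, hπ⟩ := exists_pj (nU.nd_prp nondeg8')
  have nP := nU.nd_prp nondeg8'
  have alt : ∀ x, polar (Q8 F) (π x) x = 0 := fun x => by rw [hπ.pol, polar_self', h2, zero_mul]
  obtain ⟨g, k, hl⟩ := l1 π alt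
  obtain ⟨cg, ck⟩ := h.li_comm m.lie hl (hπ.cm nP hU.prp)
  obtain ⟨μ, hg, hk⟩ := l2 π g k (g * g) (k * k) hl fun x y => by
    rw [← hπ.idem nP, hl, map_add, hl, hl, Module.End.mul_apply, Module.End.mul_apply, add_assoc,
      ← add_assoc (pm (g x) (k y)),
      two_smul0 h2, zero_add]
  obtain ⟨c, hc, -⟩ := l4 π g k hl alt
  have hg' : ∀ x, g (g x) = g x + μ • x := LinearMap.congr_fun hg
  have hk' : ∀ x, k (k x) = k x - μ • x := LinearMap.congr_fun hk
  have u2 := (Iv.cL M₁).2 hU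
  have u3 := (Iv.cL M₂).2 hU
  have d2 := (finrank_gmap M₁⁻¹ U).trans h4
  have d3 := (finrank_gmap M₂⁻¹ U).trans h4
  by_cases hμ : ∀ t : F, t * t ≠ 1 * t + μ
  · exact (s2.nsp m.je m.p2k h2 u2 d2 cg hμ hg' hc).elim
  push Not at hμ
  obtain ⟨t, ht⟩ := hμ
  have hl' : Li π (g + t • 1) (k - t • 1) := fun x y => by
    change _ = pm (g x + t • x) y + pm x (k y - t • y)
    rw [hl, add_pm, pm_sub, smul_pm, pm_smul]
    abel
  have hn : ∀ l : F, π ≠ l • 1 := fun l e => by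
    obtain ⟨y, hy, hy0⟩ := nU.exists_nonsing (by rintro rfl; simp at h4)
    obtain ⟨z, hz, hz0⟩ := nP.exists_nonsing (fun e => by
      have e2 := dim4 h4
      rw [e, finrank_bot] at e2
      omega)
    have e1 : l • y = 0 := (LinearMap.congr_fun e y).symm.trans (hπ.right nP (le_prp_prp U hy))
    have e2 : l • z = z := (LinearMap.congr_fun e z).symm.trans (hπ.left nP hz)
    rw [(smul_eq_zero.1 e1).resolve_right fun e => hy0 (by rw [e, map_zero]), zero_smul] at e2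
    exact hz0 (by rw [← e2, map_zero])
  have cg' : Cm _ (g + t • 1) := Cm.add cg (Cm.one.smul t)
  have ck' : Cm _ (k - t • 1) := Cm.sub ck (Cm.one.smul t)
  have k2 := dim_ker s2.rd h2 cg' (fun x => by
    change g (g x + t • x) + t • (g x + t • x) = g x + t • x
    rw [map_add, map_smul, hg']
    linear_combination (norm := module) ht • x + h2 • (t • g x + μ • x)) fun l e => by
      obtain ⟨l', e'⟩ := l3 _ _ _ l hl' (Or.inl e)
      exact hn l' e'
  have k3 := dim_ker s3.rd h2 ck' (fun x => by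
    change k (k x - t • x) - t • (k x - t • x) = k x - t • x
    rw [map_sub, map_smul, hk']
    linear_combination (norm := module) ht • x + h2 • (t • x - t • k x)) fun l e => by
      obtain ⟨l', e'⟩ := l3 _ _ _ l hl' (Or.inr e)
      exact hn l' e'
  refine h.toCx.good_44 m.g44 m.t44 h4 nU (fun M hM => ?_) (s2.uniq m.je u2 cg'.iv_ker d2 k2)
    (s3.uniq m.je u3 ck'.iv_ker d3 k3) fun x hx y hy => ?_
  · have e1 : Iv (lf N) (gmap M U) := fun a ha => by
      rw [← conjE_conjE_inv M a, kp_conj, gmap_inv_gmap]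
      exact hU _ (h.conj_lf (inv_mem hM) ha)
    exact (s1.uniq m.je hU e1 h4 ((finrank_gmap _ _).trans h4)).imp (fun e v hv => e.le (apply_mem_gmap.2 hv))
      fun e v hv => e.le (apply_mem_gmap.2 hv)
  · rw [← prp_prp nondeg8' U]
    refine hπ.mem_ker nP ?_
    rw [hl', LinearMap.mem_ker.1 hx, LinearMap.mem_ker.1 hy, zero_pm, pm_zero, add_zero]

end B44

/-- **[44]** -/
theorem box44 : Box44 := fun m F _ _ _ _ _ _ _ _ h nf rd _ hU h4 => by
  by_cases h2 : (2 : F) = 0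
  · exact B44.even m h nf rd h2 hU h4
  · exact (B44.odd m h nf rd h2 hU h4).elim

end Cfsg.Agent.N2C.D4
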