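import Cfsg.Agent.N2.Cl.D4.Defs
import Cfsg.Agent.SB.D4.RA2
import Cfsg.Agent.H206.OrthBal

/-!
# N2 (S3519), `PΩ₈⁺(q)` with triality: the core lemma, perfect lifts (helper61)
-/

set_option autoImplicit false
set_option linter.unusedSectionVars false

namespace Cfsg.Agent.N2C.D4

open QuadraticMap Module Cfsg.Agent.LieClassical.QuadForms Cfsg.Agent.LieClassical.OrthCore
  Cfsg.Agent.LieClassical.OrthTrans Cfsg.Agent.ClassicalGeometry.OrthSemi Cfsg.Agent.ClassicalGeometry.OrthAut1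
  Cfsg.Agent.ClassicalGeometry.TrialityOct Cfsg.Agent.ClassicalGeometry.Triality
  Cfsg.Agent.H989.OutOrth.Basic Cfsg.Agent.H989.OutOrth.Tri Cfsg.Agent.SB.D4
open Cfsg.Agent.FP3 (MI)
open scoped commutatorElement

variable {F : Type} [Field F] [Fintype F]

theorem conjE_mul' (M N : Gam (Q8 F)) (a : E8 F) :
    conjE (Q8 F) (M * N) a = conjE (Q8 F) M (conjE (Q8 F) N a) := by
  rw [map_mul]
  rfl

theorem gam_inv_apply (M : Gam (Q8 F)) (v : V8 F) : M⁻¹.1 (M.1 v) = v := inv_apply M.1 v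

theorem gam_apply_inv (M : Gam (Q8 F)) (v : V8 F) : M.1 (M⁻¹.1 v) = v := apply_inv M.1 v

theorem conjE_apply' (M : Gam (Q8 F)) (a : E8 F) (v : V8 F) : (conjE (Q8 F) M a).1 v = M.1 (a.1 (M⁻¹.1 v)) := rfl

theorem dim_prp (U : Submodule F (V8 F)) : finrank F U + finrank F (prp (Q8 F) U) = 8 :=
  (finrank_prp nondeg8' U).trans finrank8

theorem nd_gmap (M : Gam (Q8 F)) {U : Submodule F (V8 F)} (h : Nd (Q8 F) U) : Nd (Q8 F) (gmap M U) := fun x hx h1 => by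
  obtain ⟨x, rfl⟩ := M.1.surjective x
  obtain ⟨σ, c, hM⟩ := M.2
  rw [h x (apply_mem_gmap.1 hx) fun y hy => ?_, hM.map_zero]
  have h2 := h1 _ (apply_mem_gmap.2 hy)
  rwa [hM.polar, mul_eq_zero, or_iff_right hM.ne, map_eq_zero] at h2

theorem gmap_prp (M : Gam (Q8 F)) (U : Submodule F (V8 F)) : gmap M (prp (Q8 F) U) = prp (Q8 F) (gmap M U) := by
  refine Submodule.eq_of_le_of_finrank_eq (fun v hv => ?_) ?_
  · rw [← gam_apply_inv M v]
    exact gam_prp M (fun _ hw => apply_mem_gmap.2 hw) (finrank_gmap M U).le hv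
  · have h1 := dim_prp U
    have h2 := dim_prp (gmap M U)
    rw [finrank_gmap] at h2 ⊢
    omega

/-- the stabiliser of a subspace -/
def stS (U : Submodule F (V8 F)) : Subgroup (Gam (Q8 F)) where
  carrier := {M | ∀ v ∈ U, M.1 v ∈ U}
  mul_mem' := fun ha hb v hv => ha _ (hb v hv)
  one_mem' := fun _ hv => hv
  inv_mem' := fun {M} h v hv => by
    obtain ⟨w, hw, rfl⟩ := gam_pre M h le_rfl hv
    rwa [gam_inv_apply]

theorem mem_stS {U : Submodule F (V8 F)} {M : Gam (Q8 F)} : M ∈ stS U ↔ ∀ v ∈ U, M.1 v ∈ U := Iff.rfl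

/-- the stabiliser of the pair `U`, `U^⊥` -/
def stD (U : Submodule F (V8 F)) (h4 : finrank F U = 4) : Subgroup (Gam (Q8 F)) where
  carrier := {M | (∀ v ∈ U, M.1 v ∈ U) ∨ ∀ v ∈ U, M.1 v ∈ prp (Q8 F) U}
  mul_mem' := by
    have h1 := dim_prp U
    rintro M N (hM | hM) (hN | hN)
    · exact Or.inl fun v hv => hM _ (hN v hv)
    · exact Or.inr fun v hv => gam_prp M hM le_rfl (hN v hv)
    · exact Or.inr fun v hv => hM _ (hN v hv)
    · exact Or.inl fun v hv => (prp_prp nondeg8' U).le (gam_prp M hM (by omega) (hN v hv))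
  one_mem' := Or.inl fun _ hv => hv
  inv_mem' := by
    have h1 := dim_prp U
    rintro M (hM | hM)
    · exact Or.inl ((stS U).inv_mem hM)
    · refine Or.inr fun v hv => ?_
      obtain ⟨w, hw, rfl⟩ := gam_pre M (W := prp (Q8 F) U) (W' := U)
        (fun w hw => (prp_prp nondeg8' U).le (gam_prp M hM (by omega) hw)) (by omega) hv
      rwa [gam_inv_apply]

theorem mem_stD {U : Submodule F (V8 F)} {h4 : finrank F U = 4} {M : Gam (Q8 F)} :
    M ∈ stD U h4 ↔ (∀ v ∈ U, M.1 v ∈ U) ∨ ∀ v ∈ U, M.1 v ∈ prp (Q8 F) U := Iff.rfl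

theorem kp_conj {M : Gam (Q8 F)} {a : E8 F} {U W : Submodule F (V8 F)} :
    Kp (conjE (Q8 F) M a) U W ↔ Kp a (gmap M⁻¹ U) (gmap M⁻¹ W) := by
  refine ⟨fun h v hv => ?_, fun h v hv => ?_⟩
  · rw [mem_gmap, inv_inv] at hv ⊢
    rw [← conjE_apply]
    exact h _ hv
  · have h1 := h _ (apply_mem_gmap.2 hv)
    rwa [mem_gmap, inv_inv] at h1

theorem st2_conj {M : Gam (Q8 F)} {a : E8 F} {U : Submodule F (V8 F)} :
    St2 (conjE (Q8 F) M a) U ↔ St2 a (gmap M⁻¹ U) := by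
  rw [St2, St2, kp_conj, kp_conj, gmap_prp]

theorem Kp.prp {a : E8 F} {U : Submodule F (V8 F)} (h : Kp a U U) : Kp a (prp (Q8 F) U) (prp (Q8 F) U) :=
  fun _ hv => prp_inv (E_le_O a.2) h hv

theorem st2_prp {a : E8 F} {U : Submodule F (V8 F)} (h4 : finrank F U = 4) : St2 a (prp (Q8 F) U) ↔ St2 a U := by
  have key : ∀ U : Submodule F (V8 F), finrank F U = 4 → St2 a U → St2 a (prp (Q8 F) U) := fun U h4 h => by
    have h1 := dim_prp U
    exact h.imp Kp.prp fun h v hv => gam_prp (og a) h (by omega) hv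
  have h1 := dim_prp U
  exact ⟨fun h => prp_prp nondeg8' U ▸ key _ (by omega) h, key U h4⟩

theorem Kp.of_mk {a b : E8 F} (e : (a : G8 F) = b) {U W : Submodule F (V8 F)} (h : Kp a U W) : Kp b U W := fun v hv => by
  obtain ⟨d, -, hd⟩ := mk_eq_iff.1 e
  rw [hd]
  exact W.smul_mem _ (h v hv)

/-- `Ω` is irreducible -/
theorem exists_move {U : Submodule F (V8 F)} (h0 : U ≠ ⊥) (h1 : U ≠ ⊤) : ∃ e : E8 F, og e ∉ stS U := by
  by_contra hc
  push Not at hc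
  obtain ⟨v, hv, hv0⟩ := (Submodule.ne_bot_iff U).1 h0
  have key : ∀ x ∈ U, x ≠ 0 → ∀ y, y ≠ 0 → Q8 F x = Q8 F y → y ∈ U := fun x hx hx0 y hy0 e => by
    obtain ⟨g, hg, rfl⟩ := good8.trans_norm hx0 hy0 e
    exact hc ⟨g, hg⟩ x hx
  obtain ⟨w, hw, hw0, hw1⟩ : ∃ w ∈ U, w ≠ 0 ∧ Q8 F w = 0 := by
    by_cases h2 : Q8 F v = 0
    · exact ⟨v, hv, hv0, h2⟩
    obtain ⟨w, k0, k1, k2⟩ := LieClassical.OrthFinite.exists_sing_perp (Q := Q8 F) ![v] (by rw [finrank8]; omega)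
    have k3 : Q8 F v = Q8 F (v + w) := by rw [Q_add, k1, show polar (Q8 F) v w = 0 from k2 0, add_zero, add_zero]
    have k4 := key v hv hv0 (v + w) (fun e => h2 (by rw [k3, e, map_zero])) k3
    exact ⟨w, (add_mem_cancel_left hv).1 k4, k0, k1⟩
  obtain ⟨x, y, hxy⟩ := (good8 (F := F)).exists_hyp
  refine h1 (eq_top_iff.2 fun z _ => sing_induction hxy (P := (· ∈ U)) (fun _ _ => add_mem) (fun a ha => ?_) z)
  by_cases h3 : a = 0
  · exact h3 ▸ zero_mem U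
  · exact key w hw hw0 a h3 (hw1.trans ha.symm)

theorem exists_move2 {U : Submodule F (V8 F)} (h4 : finrank F U = 4) (hN : Nd (Q8 F) U) :
    ∃ e : E8 F, og e ∉ stD U h4 := by
  have h1 := dim_prp U
  obtain ⟨v, hv, hv0⟩ := hN.exists_nonsing (by rintro rfl; simp at h4)
  obtain ⟨w, hw, hw0, hw1⟩ := LieClassical.OrthFinite.exists_sing_mem (Q := Q8 F) (prp (Q8 F) U) (by omega)
  have k3 : Q8 F v = Q8 F (v + w) := by rw [Q_add, hw1, polar_comm, mem_prp.1 hw v hv, add_zero, add_zero]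
  obtain ⟨g, hg, e⟩ := good8.trans_norm (v := v) (v' := v + w) (fun e => hv0 (by rw [e, map_zero]))
    (fun e => hv0 (by rw [k3, e, map_zero])) k3
  refine ⟨⟨g, hg⟩, ?_⟩
  rintro (h | h) <;> have h2 : g v ∈ _ := h v hv <;> rw [e] at h2
  · exact hw0 (hN w ((add_mem_cancel_left hv).1 h2) (mem_prp.1 hw))
  · exact hv0 (by rw [hN v hv (mem_prp.1 ((add_mem_cancel_right hw).1 h2)), map_zero])

namespace Cx

variable {A : Subgroup (G8 F)} {Γ : Subgroup (MulAut (G8 F))} {M₁ M₂ : Gam (Q8 F)} (h : Cx A Γ M₁ M₂)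
include h

theorem le_of_inv {H : Subgroup (G8 F)} (hH : H ≠ ⊤) (hi : N2.Inv Γ H) : H ≤ A :=
  have := simple8 (F := F)
  N2.mi_le h.mi hi hH

theorem eq_norm {H : Subgroup (G8 F)} (h0 : H ≠ ⊥) (hH : H ≠ ⊤) (hi : N2.Inv Γ H) :
    A = Subgroup.normalizer (H : Set (G8 F)) :=
  have := simple8 (F := F)
  (N2.mi_norm h.mi hi h0 hH).symm

theorem og_mem {a : E8 F} : og a ∈ LL Γ ↔ (a : G8 F) ∈ A := by rw [Subgroup.mem_comap, Psi_og, h.mi.conj]

/-- the three types of elements of `Γ` -/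
theorem act {σ : MulAut (G8 F)} (hσ : σ ∈ Γ) : ∃ M ∈ LL Γ, Psi (Q8 F) M = σ ∨ Ty1 σ (M * M₁) ∨ Ty2 σ (M * M₂) := by
  obtain ⟨α, hα, h1⟩ := h.e1
  obtain ⟨β, hβ, h2⟩ := h.e2
  obtain ⟨M, hM | hM | hM⟩ := cosets σ
  · exact ⟨M, by rwa [Subgroup.mem_comap, hM], Or.inl hM⟩
  · refine ⟨M * M₁⁻¹, ?_, Or.inr (Or.inl (by rwa [inv_mul_cancel_right]))⟩
    rw [Subgroup.mem_comap, show Psi (Q8 F) (M * M₁⁻¹) = σ * α⁻¹ from ?_]
    · exact mul_mem hσ (inv_mem hα)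
    rw [eq_mul_inv_iff_mul_eq]
    ext x
    obtain ⟨a, rfl⟩ := QuotientGroup.mk_surjective x
    obtain ⟨b, c, ht⟩ := exists_T3 a
    rw [MulAut.mul_apply, h1 a b c ht, hM a b c ht, Psi_mk, ← conjE_mul', inv_mul_cancel_right]
  · refine ⟨M * M₂⁻¹, ?_, Or.inr (Or.inr (by rwa [inv_mul_cancel_right]))⟩
    rw [Subgroup.mem_comap, show Psi (Q8 F) (M * M₂⁻¹) = σ * β⁻¹ from ?_]
    · exact mul_mem hσ (inv_mem hβ)
    rw [eq_mul_inv_iff_mul_eq]
    ext x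
    obtain ⟨a, rfl⟩ := QuotientGroup.mk_surjective x
    obtain ⟨b, c, ht⟩ := exists_T3 a
    rw [MulAut.mul_apply, h2 a b c ht, hM a b c ht, Psi_mk, ← conjE_mul', inv_mul_cancel_right]

theorem sym1 {H : Subgroup (G8 F)} (hi : N2.Inv Γ H) {a b c : E8 F} (ht : T3 a b c) :
    (a : G8 F) ∈ H ↔ ((conjE (Q8 F) M₁ b : E8 F) : G8 F) ∈ H := by
  obtain ⟨α, hα, h1⟩ := h.e1
  have := simple8 (F := F)
  rw [← h1 a b c ht, hi.iff hα]

theorem sym2 {H : Subgroup (G8 F)} (hi : N2.Inv Γ H) {a b c : E8 F} (ht : T3 a b c) :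
    (a : G8 F) ∈ H ↔ ((conjE (Q8 F) M₂ c : E8 F) : G8 F) ∈ H := by
  obtain ⟨α, hα, h1⟩ := h.e2
  have := simple8 (F := F)
  rw [← h1 a b c ht, hi.iff hα]

theorem invA : N2.Inv Γ A := fun σ hσ x hx => (h.mi.inv σ hσ x).2 hx

/-- **core lemma** -/
theorem core {S : Subgroup (Gam (Q8 F))} (hS : LL Γ ≤ S) (h0 : ∃ e : E8 F, og e ∉ S) {a b c : E8 F} (ht : T3 a b c) :
    (a : G8 F) ∈ A ↔ og a ∈ S ∧ og (conjE (Q8 F) M₁ b) ∈ S ∧ og (conjE (Q8 F) M₂ c) ∈ S := by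
  refine ⟨fun ha => ⟨hS (h.og_mem.2 ha), hS (h.og_mem.2 ((h.sym1 h.invA ht).1 ha)),
    hS (h.og_mem.2 ((h.sym2 h.invA ht).1 ha))⟩, fun ⟨k0, k1, k2⟩ => ?_⟩
  have hB : ∀ e : E8 F, (e : G8 F) ∈ (S.comap og).map (QuotientGroup.mk' _) ↔ og e ∈ S := fun e => by
    refine ⟨?_, fun k => ⟨e, k, rfl⟩⟩
    rintro ⟨e', k, he⟩
    have k' : og (e'⁻¹ * e) ∈ LL Γ := h.og_mem.2 (by
      rw [QuotientGroup.mk_mul, QuotientGroup.mk_inv, show (e' : G8 F) = e from he, inv_mul_cancel]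
      exact one_mem A)
    simpa using S.mul_mem k (hS k')
  have hc : ∀ M ∈ LL Γ, ∀ e : E8 F, og e ∈ S → og (conjE (Q8 F) M e) ∈ S := fun M hM e k => by
    rw [og_conjE]
    exact S.mul_mem (S.mul_mem (hS hM) k) (S.inv_mem (hS hM))
  set B := (S.comap og).map (QuotientGroup.mk' (Subgroup.center (E8 F)))
  have hm : ∀ y, y ∈ (⨅ s : Γ, B.comap s.1.toMonoidHom) ↔ ∀ s ∈ Γ, s y ∈ B := fun y => by
    simp [Subgroup.mem_iInf]
  refine h.le_of_inv (H := ⨅ s : Γ, B.comap s.1.toMonoidHom) (fun e => ?_)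
    (fun s hs y hy => (hm _).2 fun s' hs' => (hm y).1 hy (s' * s) (mul_mem hs' hs)) ((hm _).2 fun σ hσ => ?_)
  · obtain ⟨x, hx⟩ := h0
    exact hx ((hB x).1 ((hm x).1 (e ▸ Subgroup.mem_top _) 1 (one_mem Γ)))
  · obtain ⟨M, hM, rfl | k | k⟩ := h.act hσ
    · exact (hB _).2 (hc M hM a k0)
    · rw [k a b c ht, conjE_mul']
      exact (hB _).2 (hc M hM _ k1)
    · rw [k a b c ht, conjE_mul']
      exact (hB _).2 (hc M hM _ k2)

/-- the stabiliser of three subspaces -/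
theorem core_S {U : Submodule F (V8 F)} (h0 : U ≠ ⊥) (h1 : U ≠ ⊤) (hU : ∀ M ∈ LL Γ, ∀ v ∈ U, M.1 v ∈ U) {a b c : E8 F}
    (ht : T3 a b c) :
    (a : G8 F) ∈ A ↔ Kp a U U ∧ Kp b (gmap M₁⁻¹ U) (gmap M₁⁻¹ U) ∧ Kp c (gmap M₂⁻¹ U) (gmap M₂⁻¹ U) := by
  rw [h.core (S := stS U) hU (exists_move h0 h1) ht, ← kp_conj, ← kp_conj]
  rfl

theorem core_D {U : Submodule F (V8 F)} (h4 : finrank F U = 4) (hN : Nd (Q8 F) U) (hU : LL Γ ≤ stD U h4) {a b c : E8 F}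
    (ht : T3 a b c) : (a : G8 F) ∈ A ↔ St2 a U ∧ St2 b (gmap M₁⁻¹ U) ∧ St2 c (gmap M₂⁻¹ U) := by
  rw [h.core hU (exists_move2 h4 hN) ht, ← st2_conj, ← st2_conj]
  rfl

theorem fix_of {z b c : E8 F} (ht : T3 z b c) (h0 : ∀ M ∈ LL Γ, ((conjE (Q8 F) M z : E8 F) : G8 F) = z)
    (h1 : ((conjE (Q8 F) M₁ b : E8 F) : G8 F) = z) (h2 : ((conjE (Q8 F) M₂ c : E8 F) : G8 F) = z) :
    ∀ σ ∈ Γ, σ (z : G8 F) = z := fun σ hσ => by
  obtain ⟨M, hM, rfl | k | k⟩ := h.act hσ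
  · exact h0 M hM
  · rw [k z b c ht, conjE_mul', ← Psi_mk, h1]
    exact h0 M hM
  · rw [k z b c ht, conjE_mul', ← Psi_mk, h2]
    exact h0 M hM

/-- **`4 + 4`** -/
theorem good_44 (g : BoxG44) (t : BoxT44) {C D₂ D₃ : Submodule F (V8 F)} (h4 : finrank F C = 4) (hN : Nd (Q8 F) C)
    (hU : LL Γ ≤ stD C h4) (h2 : D₂ = gmap M₁⁻¹ C ∨ D₂ = prp (Q8 F) (gmap M₁⁻¹ C))
    (h3 : D₃ = gmap M₂⁻¹ C ∨ D₃ = prp (Q8 F) (gmap M₂⁻¹ C)) (hc : ∀ x ∈ D₂, ∀ y ∈ D₃, pm x y ∈ C) : FP3.Good A := by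
  have k : ∀ (M : Gam (Q8 F)) (D : Submodule F (V8 F)), D = gmap M C ∨ D = prp (Q8 F) (gmap M C) →
      finrank F D = 4 ∧ Nd (Q8 F) D ∧ ∀ b, St2 b D → St2 b (gmap M C) := by
    intro M D hD
    have k1 := (finrank_gmap M C).trans h4
    have k2 := dim_prp (gmap M C)
    rcases hD with rfl | rfl
    · exact ⟨k1, nd_gmap M hN, fun _ => id⟩
    · exact ⟨by omega, (nd_gmap M hN).nd_prp nondeg8', fun _ => (st2_prp k1).1⟩
  obtain ⟨a2, b2, c2⟩ := k _ _ h2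
  obtain ⟨a3, b3, c3⟩ := k _ _ h3
  obtain ⟨t1, t2, t3⟩ := t F C D₂ D₃ h4 a2 a3 hN b2 b3 hc
  refine g F A C h4 hN t1 t2 fun a => ?_
  obtain ⟨b, c, ht⟩ := exists_T3 a
  rw [h.core_D h4 hN hU ht]
  exact ⟨fun k => k.1, fun k => ⟨k, c2 _ (t3 a b c ht k).1, c3 _ (t3 a b c ht k).2⟩⟩

/-- **centralisers of involutions** -/
theorem good_inv (g : BoxG44) (h2 : (2 : F) ≠ 0) {z : E8 F} (hz : z * z = 1) (h4 : finrank F (Eg z (-1)) = 4)
    (hf : ∀ σ ∈ Γ, σ (z : G8 F) = z) : FP3.Good A := by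
  have h8 := Eg_dim h2 hz (one_mul (1 : F))
  have hn : ¬ ∃ d, Sc z d := by
    rintro ⟨d, hd⟩
    rcases sq_cases hd.sq with rfl | rfl
    · have : Eg z 1 = ⊤ := eq_top_iff.2 fun v _ => mem_Eg.2 (hd v)
      rw [this, finrank_top, finrank8] at h8
      omega
    · have : Eg z (-1) = ⊤ := eq_top_iff.2 fun v _ => mem_Eg.2 (hd v)
      rw [this, finrank_top, finrank8] at h4
      omega
  obtain ⟨b, c, ht⟩ := exists_T3 z
  obtain ⟨hb, hc⟩ := Z2 h2 ht hz h4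
  have hp : prp (Q8 F) (Eg z 1) = Eg z (-1) := by
    have := dim_prp (Eg z 1)
    exact (Submodule.eq_of_le_of_finrank_eq (fun v hv => mem_prp.2 fun w hw =>
      (polar_comm _ _ _).trans (Eg_orth h2 (one_mul 1) hw hv)) (by omega)).symm
  have hA : Subgroup.centralizer {(z : G8 F)} = A := by
    have := simple8 (F := F)
    refine N2.mi_eq h.mi (fun σ hσ x hx => ?_) (fun x hx => ?_) fun e => hn (mk_eq_one_iff.1 (conj_inj8 ?_))
    · rw [Subgroup.mem_centralizer_singleton_iff] at hx ⊢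
      simpa [hf σ hσ] using congrArg σ hx
    · rw [Subgroup.mem_centralizer_singleton_iff, ← mul_inv_eq_iff_eq_mul]
      exact hf _ ((h.mi.conj x).2 hx)
    · ext y
      have h1 : y ∈ Subgroup.centralizer {(z : G8 F)} := e ▸ Subgroup.mem_top y
      simp [← Subgroup.mem_centralizer_singleton_iff.1 h1]
  refine g F A (Eg z 1) (by omega) (Eg_nd h2 hz (one_mul 1)) (Z1_ts h2 ht hz hb hc hn (one_mul 1))
    (hp ▸ Z1_ts h2 ht hz hb hc hn (by ring)) fun a => ?_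
  rw [← hA, Subgroup.mem_centralizer_singleton_iff, ← QuotientGroup.mk_mul, ← QuotientGroup.mk_mul, mk_eq_iff, St2, hp]
  constructor
  · rintro ⟨e, he, k⟩
    rcases sq_cases he with rfl | rfl
    · exact Or.inl fun v hv => mem_Eg.2 (by rw [← e8_mul, k, e8_mul, mem_Eg.1 hv, one_smul, one_smul, one_smul])
    · exact Or.inr fun v hv => mem_Eg.2 (by rw [← e8_mul, k, e8_mul, mem_Eg.1 hv, one_smul])
  · have k0 := dim_prp (Eg z 1)
    rintro (k | k)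
    · refine ⟨1, one_mul 1, fun x => ?_⟩
      obtain ⟨y, hy, w, hw, rfl⟩ := Eg_split h2 hz (one_mul 1) (U := ⊤) (fun _ _ => trivial) (v := x) trivial
      have k1 := hp.le (k.prp w (hp.ge hw.2))
      rw [one_smul, e8_mul, e8_mul, map_add, map_add, map_add, map_add, mem_Eg.1 (k y hy.2), mem_Eg.1 k1, mem_Eg.1 hy.2,
        mem_Eg.1 hw.2, map_smul, map_smul]
    · refine ⟨-1, by ring, fun x => ?_⟩
      obtain ⟨y, hy, w, hw, rfl⟩ := Eg_split h2 hz (one_mul 1) (U := ⊤) (fun _ _ => trivial) (v := x) trivial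
      have k2 := gam_prp (og a) k (by omega) (hp.ge hw.2)
      rw [← hp, prp_prp nondeg8'] at k2
      have k1 : a.1 w ∈ Eg z 1 := k2
      rw [e8_mul, e8_mul, map_add, map_add, map_add, map_add, mem_Eg.1 (k y hy.2), mem_Eg.1 k1, mem_Eg.1 hy.2,
        mem_Eg.1 hw.2, map_smul, map_smul]
      module

end Cx

/-! ### perfect groups -/

theorem perf_hom {G C : Type*} [Group G] [CommGroup C] {L : Subgroup G} (hL : ⁅L, L⁆ = L) (f : L →* C) (a : L) :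
    f a = 1 := by
  have h1 : L ≤ f.ker.map L.subtype := by
    conv_lhs => rw [← hL]
    refine Subgroup.commutator_le.2 fun x hx y hy => ⟨⁅(⟨x, hx⟩ : L), (⟨y, hy⟩ : L)⁆, ?_, rfl⟩
    rw [SetLike.mem_coe, MonoidHom.mem_ker, map_commutatorElement, commutatorElement_eq_one_iff_mul_comm, mul_comm]
  obtain ⟨b, hb, e⟩ := h1 a.2
  rwa [show a = b from Subtype.ext e.symm]

/-- a multiplicative function on a perfect group -/
theorem perf_mul {G : Type*} [Group G] {L : Subgroup G} (hL : ⁅L, L⁆ = L) {R : G → F → Prop}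
    (ex : ∀ a ∈ L, ∃ l, R a l) (un : ∀ a l l', R a l → R a l' → l = l') (one : R 1 1)
    (mul : ∀ a b l l', R a l → R b l' → R (a * b) (l * l')) : ∀ a ∈ L, R a 1 := by
  choose f hf using ex
  let φ : L →* F :=
    { toFun := fun a => f a a.2
      map_one' := un _ _ _ (hf 1 _) one
      map_mul' := fun a b => un _ _ _ (hf _ _) (mul _ _ _ _ (hf a a.2) (hf b b.2)) }
  intro a ha
  have h1 : f a ha = 1 := congrArg Units.val (perf_hom hL φ.toHomUnits ⟨a, ha⟩)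
  exact h1 ▸ hf a ha

/-- an additive function on a perfect group -/
theorem perf_add {G : Type*} [Group G] {L : Subgroup G} (hL : ⁅L, L⁆ = L) {R : G → F → Prop}
    (ex : ∀ a ∈ L, ∃ l, R a l) (un : ∀ a l l', R a l → R a l' → l = l') (one : R 1 0)
    (mul : ∀ a b l l', R a l → R b l' → R (a * b) (l + l')) : ∀ a ∈ L, R a 0 := by
  choose f hf using ex
  let φ : L →* Multiplicative F :=
    { toFun := fun a => Multiplicative.ofAdd (f a a.2)
      map_one' := un _ _ _ (hf 1 _) one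
      map_mul' := fun a b => un _ _ _ (hf _ _) (mul _ _ _ _ (hf a a.2) (hf b b.2)) }
  intro a ha
  have h1 : f a ha = 0 := perf_hom hL φ ⟨a, ha⟩
  exact h1 ▸ hf a ha

theorem fix_of_fp {L : Subgroup (E8 F)} (hL : ⁅L, L⁆ = L) {v : V8 F} (h : ∀ a ∈ L, Fp a v) : ∀ a ∈ L, a.1 v = v := by
  by_cases h0 : v = 0
  · exact fun a _ => by rw [h0, map_zero]
  intro a ha
  simpa using perf_mul hL (R := fun a l => a.1 v = l • v) h
    (fun a l l' k k' => smul_left_injective F h0 (k.symm.trans k')) (one_smul F v).symm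
    (fun a b l l' k k' => by rw [e8_mul, k', map_smul, k, smul_smul, mul_comm]) a ha

/-- a linear map which commutes with `L` up to scalars commutes with `L` -/
theorem comm_of_smul {L : Subgroup (E8 F)} (hL : ⁅L, L⁆ = L) {g : GL8 F}
    (h : ∀ a ∈ L, ∃ l : F, ∀ x, a.1 (g x) = l • g (a.1 x)) : ∀ a ∈ L, ∀ x, a.1 (g x) = g (a.1 x) := by
  intro a ha
  simpa using perf_mul hL (R := fun a l => ∀ x, a.1 (g x) = l • g (a.1 x)) h
    (fun a l l' k k' => smul_left_injective F (g.map_ne_zero_iff.2 (a.1.map_ne_zero_iff.2 e8_ne))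
      ((k _).symm.trans (k' _))) (fun x => (one_smul F _).symm)
    (fun a b l l' k k' x => by rw [e8_mul, k', map_smul, k, smul_smul, mul_comm, e8_mul]) a ha

theorem comm_of_add {L : Subgroup (E8 F)} (hL : ⁅L, L⁆ = L) {g : Module.End F (V8 F)}
    (h : ∀ a ∈ L, ∃ l : F, ∀ x, a.1 (g x) = g (a.1 x) + l • a.1 x) : ∀ a ∈ L, ∀ x, a.1 (g x) = g (a.1 x) := by
  intro a ha
  simpa using perf_add hL (R := fun a l => ∀ x, a.1 (g x) = g (a.1 x) + l • a.1 x) h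
    (fun a l l' k k' => smul_left_injective F (a.1.map_ne_zero_iff.2 e8_ne)
      (add_left_cancel ((k _).symm.trans (k' _)))) (fun x => by simp)
    (fun a b l l' k k' x => by rw [e8_mul, k', map_add, map_smul, k, e8_mul, add_smul, add_assoc]) a ha

theorem lf_le {N : Subgroup (G8 F)} {a : E8 F} (ha : a ∈ lf N) : (a : G8 F) ∈ N :=
  Subgroup.commutator_le_self (N.comap (QuotientGroup.mk' _)) ha

theorem lf_map {N : Subgroup (G8 F)} (hN : ⁅N, N⁆ = N) : (lf N).map (QuotientGroup.mk' _) = N := by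
  rw [lf, Subgroup.map_commutator, Subgroup.map_comap_eq_self_of_surjective (QuotientGroup.mk'_surjective _), hN]

theorem lf_onto {N : Subgroup (G8 F)} (hN : ⁅N, N⁆ = N) {n : G8 F} (hn : n ∈ N) : ∃ a ∈ lf N, (a : G8 F) = n :=
  (lf_map hN).ge hn

theorem lf_perfect {N : Subgroup (G8 F)} (hN : ⁅N, N⁆ = N) : ⁅lf N, lf N⁆ = lf N := by
  refine le_antisymm (Subgroup.commutator_le_self _) (Subgroup.commutator_le.2 fun x hx y hy => ?_)
  obtain ⟨a, ha, e⟩ := lf_onto hN hx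
  obtain ⟨b, hb, e'⟩ := lf_onto hN hy
  have k1 := Subgroup.mem_center_iff.1 (QuotientGroup.eq.1 e)
  have k2 := Subgroup.mem_center_iff.1 (QuotientGroup.eq.1 e')
  have k3 : ⁅x, y⁆ = ⁅a, b⁆ := by
    rw [← mul_inv_cancel_left a x, ← mul_inv_cancel_left b y]
    generalize a⁻¹ * x = u at k1
    generalize b⁻¹ * y = w at k2
    simp only [commutatorElement_def, mul_inv_rev]
    calc a * u * (b * w) * (u⁻¹ * a⁻¹) * (w⁻¹ * b⁻¹) = a * (u * (b * w) * u⁻¹) * a⁻¹ * (w⁻¹ * b⁻¹) := by group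
      _ = a * b * (w * a⁻¹ * w⁻¹) * b⁻¹ := by rw [← k1, mul_inv_cancel_right]; group
      _ = _ := by rw [← k2, mul_inv_cancel_right]
  exact k3 ▸ Subgroup.commutator_mem_commutator ha hb

theorem lf_mono {N N' : Subgroup (G8 F)} (h : N ≤ N') : lf N ≤ lf N' :=
  Subgroup.commutator_mono (Subgroup.comap_mono h) (Subgroup.comap_mono h)

theorem lf_conj {N N' : Subgroup (G8 F)} {M : Gam (Q8 F)} (h : ∀ n ∈ N, Psi (Q8 F) M n ∈ N') {a : E8 F} (ha : a ∈ lf N) :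
    conjE (Q8 F) M a ∈ lf N' := by
  have h1 : lf N ≤ (lf N').comap (conjE (Q8 F) M).toMonoidHom := Subgroup.commutator_le.2 fun x hx y hy => by
    rw [Subgroup.mem_comap, map_commutatorElement]
    exact Subgroup.commutator_mem_commutator (h _ hx) (h _ hy)
  exact h1 ha

theorem T3.cm {a b c a' b' c' : E8 F} (h : T3 a b c) (h' : T3 a' b' c') : T3 ⁅a, a'⁆ ⁅b, b'⁆ ⁅c, c'⁆ :=
  ((h.mul h').mul h.inv).mul h'.inv

/-- triples of perfect lifts -/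
theorem tri_lf {N₁ N₂ N₃ : Subgroup (G8 F)} (h : ∀ a b c : E8 F, T3 a b c → (a : G8 F) ∈ N₁ → (b : G8 F) ∈ N₂ ∧ (c : G8 F) ∈ N₃)
    {a : E8 F} (ha : a ∈ lf N₁) : ∃ b ∈ lf N₂, ∃ c ∈ lf N₃, T3 a b c := by
  let H : Subgroup (E8 F) :=
    { carrier := {a | ∃ b ∈ lf N₂, ∃ c ∈ lf N₃, T3 a b c}
      mul_mem' := fun ⟨_, hb, _, hc, t⟩ ⟨_, hb', _, hc', t'⟩ => ⟨_, mul_mem hb hb', _, mul_mem hc hc', t.mul t'⟩
      one_mem' := ⟨1, one_mem _, 1, one_mem _, T3.one⟩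
      inv_mem' := fun ⟨_, hb, _, hc, t⟩ => ⟨_, inv_mem hb, _, inv_mem hc, t.inv⟩ }
  have h1 : lf N₁ ≤ H := Subgroup.commutator_le.2 fun x hx y hy => by
    obtain ⟨b, c, t⟩ := exists_T3 x
    obtain ⟨b', c', t'⟩ := exists_T3 y
    exact ⟨_, Subgroup.commutator_mem_commutator (h _ _ _ t hx).1 (h _ _ _ t' hy).1, _,
      Subgroup.commutator_mem_commutator (h _ _ _ t hx).2 (h _ _ _ t' hy).2, T3.cm t t'⟩
  exact h1 ha

/-- the conjugate `M⁻¹ L M` -/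
def cL (M : Gam (Q8 F)) (L : Subgroup (E8 F)) : Subgroup (E8 F) := L.comap (conjE (Q8 F) M).toMonoidHom

theorem mem_cL {M : Gam (Q8 F)} {L : Subgroup (E8 F)} {b : E8 F} : b ∈ cL M L ↔ conjE (Q8 F) M b ∈ L := Iff.rfl

theorem cL_lf (M : Gam (Q8 F)) (N : Subgroup (G8 F)) : cL M (lf N) = lf (N.comap (Psi (Q8 F) M).toMonoidHom) := by
  refine le_antisymm (fun b hb => ?_) fun b hb => lf_conj (fun _ => id) hb
  rw [← conjE_inv_conjE M b]
  refine lf_conj (fun n hn => ?_) hb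
  rwa [Subgroup.mem_comap, map_inv, MulEquiv.coe_toMonoidHom, MulAut.apply_inv_self]

theorem cL_perfect (M : Gam (Q8 F)) {L : Subgroup (E8 F)} (hL : ⁅L, L⁆ = L) : ⁅cL M L, cL M L⁆ = cL M L := by
  rw [cL, Subgroup.comap_equiv_eq_map_symm', ← Subgroup.map_commutator, hL]

theorem Iv.cL {L : Subgroup (E8 F)} {U : Submodule F (V8 F)} (M : Gam (Q8 F)) : Iv (cL M L) (gmap M⁻¹ U) ↔ Iv L U :=
  ⟨fun h a ha => by
    rw [← conjE_conjE_inv M a]
    exact kp_conj.2 (h _ (by rwa [mem_cL, conjE_conjE_inv])), fun h _ ha => kp_conj.1 (h _ ha)⟩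

theorem gmap_inv_gmap (M : Gam (Q8 F)) (U : Submodule F (V8 F)) : gmap M⁻¹ (gmap M U) = U :=
  Submodule.ext fun v => by rw [mem_gmap, inv_inv, apply_mem_gmap]

theorem NoFix.cL {L : Subgroup (E8 F)} (h : NoFix L) (M : Gam (Q8 F)) : NoFix (cL M L) := fun v hv => by
  have h1 := h (M.1 v) fun a ha => by
    rw [← conjE_conjE_inv M a, conjE_apply, hv _ (by rwa [mem_cL, conjE_conjE_inv])]
  exact by_contra fun h0 => gam_ne M h0 h1

theorem Rd.cL {L : Subgroup (E8 F)} (h : Rd L) (M : Gam (Q8 F)) : Rd (cL M L) := fun U hU => by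
  rw [← gmap_inv_gmap M U] at hU ⊢
  have h1 := h _ ((Iv.cL M).1 hU)
  rw [finrank_gmap]
  exact ⟨nd_gmap _ h1.1, h1.2⟩

theorem Iv.prp {L : Subgroup (E8 F)} {U : Submodule F (V8 F)} (h : Iv L U) : Iv L (prp (Q8 F) U) :=
  fun a ha => (h a ha).prp

namespace Cb

variable {A : Subgroup (G8 F)} {Γ : Subgroup (MulAut (G8 F))} {M₁ M₂ : Gam (Q8 F)} {N : Subgroup (G8 F)}
  {𝓣 : Set (Subgroup (G8 F))} (h : Cb A Γ M₁ M₂ N 𝓣)
include h

theorem perf_mem {S : Subgroup (G8 F)} (hS : S ∈ 𝓣) : ⁅S, S⁆ = S := by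
  obtain ⟨h1, h2⟩ := h.simple S hS
  rcases (inferInstance : (commutator S).Normal).eq_bot_or_eq_top with k | k
  · exact (h2 ⟨⟨fun a b => by
      have := Subgroup.commutator_eq_bot_iff_le_centralizer.1 k (Subgroup.mem_top b)
      exact this a (Subgroup.mem_top a)⟩⟩).elim
  · have := congrArg (Subgroup.map S.subtype) k
    rwa [commutator_def, Subgroup.map_commutator, ← MonoidHom.range_eq_map, Subgroup.range_subtype] at this

theorem le_N {S : Subgroup (G8 F)} (hS : S ∈ 𝓣) : S ≤ N := h.sup ▸ le_sSup hS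

theorem perfN : ⁅N, N⁆ = N := by
  refine le_antisymm (Subgroup.commutator_le_self _) ?_
  conv_lhs => rw [← h.sup]
  exact sSup_le fun S hS => (h.perf_mem hS).ge.trans (Subgroup.commutator_mono (h.le_N hS) (h.le_N hS))

theorem perf : ⁅lf N, lf N⁆ = lf N := lf_perfect h.perfN

theorem conj_lf {M : Gam (Q8 F)} (hM : M ∈ LL Γ) {a : E8 F} (ha : a ∈ lf N) : conjE (Q8 F) M a ∈ lf N :=
  lf_conj (h.inv _ hM) ha

theorem tri {a : E8 F} (ha : a ∈ lf N) : ∃ b ∈ cL M₁ (lf N), ∃ c ∈ cL M₂ (lf N), T3 a b c := by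
  rw [cL_lf, cL_lf]
  exact tri_lf (fun a b c t k => ⟨(h.toCx.sym1 h.inv t).1 k, (h.toCx.sym2 h.inv t).1 k⟩) ha

theorem tri₁ {b : E8 F} (hb : b ∈ cL M₁ (lf N)) : ∃ a ∈ lf N, ∃ c ∈ cL M₂ (lf N), T3 a b c := by
  rw [cL_lf] at hb ⊢
  obtain ⟨c, hc, a, ha, t⟩ := tri_lf (N₂ := N.comap (Psi (Q8 F) M₂).toMonoidHom) (N₃ := N) (fun b c a t k =>
    have k1 := (h.toCx.sym1 h.inv t.rot.rot).2 k
    ⟨(h.toCx.sym2 h.inv t.rot.rot).1 k1, k1⟩) hb
  exact ⟨a, ha, c, hc, t.rot.rot⟩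

theorem tri₂ {c : E8 F} (hc : c ∈ cL M₂ (lf N)) : ∃ a ∈ lf N, ∃ b ∈ cL M₁ (lf N), T3 a b c := by
  rw [cL_lf] at hc ⊢
  obtain ⟨a, ha, b, hb, t⟩ := tri_lf (N₂ := N) (N₃ := N.comap (Psi (Q8 F) M₁).toMonoidHom) (fun c a b t k =>
    have k1 := (h.toCx.sym2 h.inv t.rot).2 k
    ⟨k1, (h.toCx.sym1 h.inv t.rot).1 k1⟩) hc
  exact ⟨a, ha, b, hb, t.rot⟩

/-- elements of `Ω` which commute with a conjugate of `L` are scalars -/
theorem sc_of_comm (M : Gam (Q8 F)) {g : E8 F} (hg : ∀ l ∈ cL M (lf N), l * g = g * l) : ∃ d, Sc g d := by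
  obtain ⟨d, hd⟩ := mk_eq_one_iff.1 (h.cen ((conjE (Q8 F) M g : E8 F) : G8 F) fun n hn => by
    obtain ⟨a, ha, rfl⟩ := lf_onto h.perfN hn
    rw [← QuotientGroup.mk_mul, ← QuotientGroup.mk_mul, ← conjE_conjE_inv M a, ← map_mul, ← map_mul,
      hg _ (by rwa [mem_cL, conjE_conjE_inv])])
  exact ⟨d, conjE_inv_conjE M g ▸ hd.conj M⁻¹⟩

omit h in
theorem cL_one (L : Subgroup (E8 F)) : cL 1 L = L := Subgroup.ext fun b => by
  rw [mem_cL, map_one]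
  rfl

theorem sc_of_comm' {g : E8 F} (hg : ∀ l ∈ lf N, l * g = g * l) : ∃ d, Sc g d :=
  h.sc_of_comm 1 (by rwa [cL_one])

/-- **CI**: isometries which commute with a conjugate of `L` are involutions -/
theorem ci (je : BoxJE) (M : Gam (Q8 F)) {g : GL8 F} (hg : g ∈ O (Q8 F))
    (hc : ∀ l ∈ cL M (lf N), ∀ x, l.1 (g x) = g (l.1 x)) (x : V8 F) : g (g x) = x := by
  obtain ⟨d, hd⟩ := h.sc_of_comm M (g := ⟨g * g, H206.OrthBal.sq_mem_E good8 hg⟩) fun l hl => e8_ext fun v => by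
    change l.1 (g (g v)) = g (g (l.1 v))
    rw [hc l hl, hc l hl]
  have h1 : ∀ v, g (g v) = d • v := hd
  by_cases h2 : d = 1
  · rw [h1, h2, one_smul]
  have h3 : d = -1 := (sq_cases hd.sq).resolve_left h2
  obtain ⟨e, he⟩ := h.sc_of_comm M (g := ⟨g, je F g (fun k => h2 (by rw [h3]; linear_combination -k)) hg
    fun v => by rw [h1, h3, neg_one_smul]⟩) fun l hl => e8_ext (hc l hl)
  have h4 : ∀ v, g v = e • v := he
  rw [h4, h4, smul_smul, he.sq, one_smul]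

/-- the partners of a map which commutes with `L` -/
theorem tr_comm {s g k : GL8 F} (t : Tr s g k) (hc : ∀ l ∈ lf N, ∀ x, l.1 (s x) = s (l.1 x)) :
    (∀ l ∈ cL M₁ (lf N), ∀ x, l.1 (g x) = g (l.1 x)) ∧ ∀ l ∈ cL M₂ (lf N), ∀ x, l.1 (k x) = k (l.1 x) := by
  have key : ∀ a ∈ lf N, ∀ b c : E8 F, T3 a b c → ∃ e : F, (∀ x, b.1 (g x) = e • g (b.1 x)) ∧
      ∀ x, c.1 (k x) = e⁻¹ • k (c.1 x) := fun a ha b c t' => by
    have h1 : a.1 * s = s * a.1 := LinearEquiv.ext (hc a ha)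
    obtain ⟨e, -, k1, k2⟩ := Tr.unique (t.mul t') (h1 ▸ Tr.mul t' t)
    exact ⟨e, k1, k2⟩
  refine ⟨comm_of_smul (cL_perfect _ h.perf) fun b hb => ?_, comm_of_smul (cL_perfect _ h.perf) fun c hc => ?_⟩
  · obtain ⟨a, ha, c, -, t'⟩ := h.tri₁ hb
    exact (key a ha b c t').imp fun _ k => k.1
  · obtain ⟨a, ha, b, -, t'⟩ := h.tri₂ hc
    obtain ⟨e, -, k⟩ := key a ha b c t'
    exact ⟨_, k⟩

theorem li_comm (lie : BoxLie) {s g k : Module.End F (V8 F)} (t : Li s g k)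
    (hc : ∀ l ∈ lf N, ∀ x, l.1 (s x) = s (l.1 x)) :
    (∀ l ∈ cL M₁ (lf N), ∀ x, l.1 (g x) = g (l.1 x)) ∧ ∀ l ∈ cL M₂ (lf N), ∀ x, l.1 (k x) = k (l.1 x) := by
  have key : ∀ a ∈ lf N, ∀ b c : E8 F, T3 a b c → ∃ e : F, (∀ x, b.1 (g x) = g (b.1 x) + e • b.1 x) ∧
      ∀ x, c.1 (k x) = k (c.1 x) + -e • c.1 x := fun a ha b c t' => by
    obtain ⟨e, k1, k2⟩ := (lie F).2.1 s g k (b.1.toLinearMap ∘ₗ g ∘ₗ b.1.symm.toLinearMap)
      (c.1.toLinearMap ∘ₗ k ∘ₗ c.1.symm.toLinearMap) t fun x y => by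
        obtain ⟨x, rfl⟩ := b.1.surjective x
        obtain ⟨y, rfl⟩ := c.1.surjective y
        simp only [LinearMap.comp_apply, LinearEquiv.coe_coe, LinearEquiv.symm_apply_apply]
        rw [← t', ← t', ← t', ← hc a ha, t, map_add]
    refine ⟨e, fun x => ?_, fun x => ?_⟩
    · simpa using LinearMap.congr_fun k1 (b.1 x)
    · simpa [sub_eq_add_neg] using LinearMap.congr_fun k2 (c.1 x)
  refine ⟨comm_of_add (cL_perfect _ h.perf) fun b hb => ?_, comm_of_add (cL_perfect _ h.perf) fun c hc => ?_⟩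
  · obtain ⟨a, ha, c, -, t'⟩ := h.tri₁ hb
    exact (key a ha b c t').imp fun _ k => k.1
  · obtain ⟨a, ha, b, -, t'⟩ := h.tri₂ hc
    obtain ⟨e, -, k⟩ := key a ha b c t'
    exact ⟨_, k⟩

end Cb

end Cfsg.Agent.N2C.D4
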