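import Cfsg.Agent.N2.Cl.D4.Pl
import Cfsg.Agent.SB.D4.K2

/-!
# N2 (S3519), `PΩ₈⁺(q)` with triality: minimal invariant elementary abelian subgroups, odd order (helper61)

The lemmas of `SB/D4` (helper97) for a group of automorphisms which need not be solvable.
-/

set_option autoImplicit false
set_option linter.unusedSectionVars false

namespace Cfsg.Agent.N2C.D4

open QuadraticMap Module Cfsg.Agent.LieClassical.QuadForms Cfsg.Agent.LieClassical.OrthCore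
  Cfsg.Agent.LieClassical.OrthTrans Cfsg.Agent.ClassicalGeometry.OrthSemi Cfsg.Agent.ClassicalGeometry.OrthAut1
  Cfsg.Agent.ClassicalGeometry.TrialityOct Cfsg.Agent.ClassicalGeometry.Triality
  Cfsg.Agent.H989.OutOrth.Basic Cfsg.Agent.H989.OutOrth.Tri Cfsg.Agent.H786.FC Cfsg.Agent.SB.D4

variable {F : Type} [Field F] [Fintype F]

/-- `S` involves triality, `X` is a minimal `S`-invariant subgroup of exponent `r` -/
structure Cy (S : Subgroup (MulAut (G8 F))) (X : Subgroup (G8 F)) (r : ℕ) : Prop where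
  mx : ∀ H : Subgroup (G8 F), H ≠ ⊤ → (∀ s ∈ S, ∀ y ∈ H, s y ∈ H) → ∀ g ∈ H, MulAut.conj g ∈ S
  t1 : ∃ α ∈ S, ∃ M, Ty1 α M
  t2 : ∃ α ∈ S, ∃ M, Ty2 α M
  ne : X ≠ ⊥
  inv : ∀ s ∈ S, ∀ x ∈ X, s x ∈ X
  min : ∀ Y ≤ X, (∀ s ∈ S, ∀ y ∈ Y, s y ∈ Y) → Y = ⊥ ∨ Y = X
  comm : ∀ x ∈ X, ∀ y ∈ X, x * y = y * x
  prime : r.Prime
  pow : ∀ x ∈ X, x ^ r = 1
  char : (r : F) ≠ 0

namespace Cy

variable {S : Subgroup (MulAut (G8 F))} {X : Subgroup (G8 F)} {r : ℕ} (h : Cy S X r)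
include h

theorem le_of_inv {H : Subgroup (G8 F)} (hH : H ≠ ⊤) (hinv : ∀ s ∈ S, ∀ y ∈ H, s y ∈ H) {g : G8 F} (hg : g ∈ H) :
    MulAut.conj g ∈ S := h.mx H hH hinv g hg

theorem cent {g : G8 F} (hg : ∀ x ∈ X, x * g = g * x) : MulAut.conj g ∈ S := by
  refine h.le_of_inv (H := Subgroup.centralizer (X : Set (G8 F))) (fun e => h.ne ?_) (fun s hs y hy x hx => ?_) hg
  · have := simple8 (F := F)
    rw [eq_bot_iff]
    intro x hx
    apply conj_inj8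
    ext y
    have h1 : y ∈ Subgroup.centralizer (X : Set (G8 F)) := e ▸ Subgroup.mem_top y
    simp [h1 x hx]
  · have h1 := congrArg s (hy _ (h.inv s⁻¹ (inv_mem hs) x hx))
    simpa using h1

theorem norm {g : G8 F} (hg : MulAut.conj g ∈ S) {x : G8 F} (hx : x ∈ X) : g * x * g⁻¹ ∈ X := h.inv _ hg x hx

theorem conjE_mem {M : Gam (Q8 F)} (hM : M ∈ LL S) {a : E8 F} (ha : (a : G8 F) ∈ X) :
    ((conjE (Q8 F) M a : E8 F) : G8 F) ∈ X := h.inv _ hM _ ha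

theorem og_mem {y : E8 F} (hy : ∀ x ∈ X, ∃ a : E8 F, (a : G8 F) = x ∧ a * y = y * a) : og y ∈ LL S := by
  rw [Subgroup.mem_comap, Psi_og]
  refine h.cent fun x hx => ?_
  obtain ⟨a, rfl, ha⟩ := hy x hx
  exact congrArg (QuotientGroup.mk : E8 F → G8 F) ha

theorem rot_mem {u v : V8 F} (hu : Q8 F u ≠ 0) (hv : Q8 F v = Q8 F u) (hy : ∀ x ∈ X, ∃ a : E8 F, (a : G8 F) = x ∧
    rr (Q8 F) (a.1 u) * rr (Q8 F) (a.1 v) = rr (Q8 F) u * rr (Q8 F) v) : rr (Q8 F) u * rr (Q8 F) v ∈ LL S := by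
  obtain ⟨y, hy'⟩ := exists_rot hu hv
  rw [← hy', Subgroup.mem_comap, Psi_og]
  refine h.cent fun x hx => ?_
  obtain ⟨a, rfl, ha⟩ := hy x hx
  apply conj_inj8
  rw [map_mul, map_mul, ← Psi_og, ← Psi_og, ← map_mul (Psi (Q8 F)), ← map_mul (Psi (Q8 F)), hy']
  congr 1
  rw [← og_apply, ← og_apply, ← conj_rr _ hu, ← conj_rr _ (hv ▸ hu)] at ha
  rw [← mul_inv_eq_iff_eq_mul]
  refine Eq.trans ?_ ha
  group

theorem sg_mem {e e' : V8 F} (he : Q8 F e = 0) (he' : Q8 F e' = 0)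
    (hy : ∀ x ∈ X, ∃ a : E8 F, (a : G8 F) = x ∧ wd (Q8 F) (a.1 e) (a.1 e') = wd (Q8 F) e e') (c : F)
    (hc : polar (Q8 F) e (c • e') = 0) :
    ((⟨siegel (Q8 F) e (c • e') he hc, siegel_mem_E he hc⟩ : E8 F) : G8 F) ∈
      Subgroup.centralizer (X : Set (G8 F)) := by
  intro x hx
  obtain ⟨a, rfl, ha⟩ := hy x hx
  refine congrArg (QuotientGroup.mk : E8 F → G8 F) (Subtype.ext (LinearEquiv.ext fun v => ?_))
  have hO := E_le_O a.2
  have h1 := congrFun ha (a.1 v)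
  rw [wd, wd, polar_map hO, polar_map hO] at h1
  show a.1 (siegel (Q8 F) e (c • e') he hc v) = siegel (Q8 F) e (c • e') he hc (a.1 v)
  simp only [siegel_apply, QuadraticMap.map_smul, he', smul_eq_mul, mul_zero, zero_mul, zero_smul, sub_zero, map_add,
    map_sub, map_smul, polar_smul_left]
  linear_combination (norm := module) c • h1

theorem mem_iff {s : MulAut (G8 F)} (hs : s ∈ S) {x : G8 F} : s x ∈ X ↔ x ∈ X :=
  ⟨fun hx => by simpa using h.inv s⁻¹ (inv_mem hs) _ hx, h.inv s hs x⟩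

theorem sym1 : ∃ M : Gam (Q8 F), ∀ a b c : E8 F, T3 a b c →
    ((a : G8 F) ∈ X ↔ ((conjE (Q8 F) M b : E8 F) : G8 F) ∈ X) := by
  obtain ⟨α, hα, M, hM⟩ := h.t1
  exact ⟨M, fun a b c ht => by rw [← hM a b c ht, h.mem_iff hα]⟩

theorem sym2 : ∃ M : Gam (Q8 F), ∀ a b c : E8 F, T3 a b c →
    ((a : G8 F) ∈ X ↔ ((conjE (Q8 F) M c : E8 F) : G8 F) ∈ X) := by
  obtain ⟨α, hα, M, hM⟩ := h.t2
  exact ⟨M, fun a b c ht => by rw [← hM a b c ht, h.mem_iff hα]⟩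

/-- a fixed singular point gives an invariant totally singular solid -/
theorem tf1 {e : V8 F} (he : Q8 F e = 0) (he0 : e ≠ 0)
    (hfix : ∀ x ∈ X, ∃ a : E8 F, (a : G8 F) = x ∧ ∃ l : F, a.1 e = l • e) :
    ∃ U : Submodule F (V8 F), finrank F U = 4 ∧ (∀ u ∈ U, Q8 F u = 0) ∧
      ∀ a : E8 F, (a : G8 F) ∈ X → ∀ u ∈ U, a.1 u ∈ U := by
  obtain ⟨M, hM⟩ := h.sym2
  refine ⟨LinearMap.range (pr (M⁻¹.1 e)), finrank_pr (gam_sing _ he) (gam_ne _ he0), ?_, fun a ha => ?_⟩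
  · rintro _ ⟨t, rfl⟩
    rw [pr_apply, norm_pm, gam_sing _ he, mul_zero]
  rintro _ ⟨t, rfl⟩
  obtain ⟨b, c, ht⟩ := exists_T3 a
  obtain ⟨a', ha', l, hl⟩ := hfix _ ((hM a b c ht).1 ha)
  obtain ⟨d, -, hd⟩ := mk_eq_iff.1 ha'
  have h1 : (conjE (Q8 F) M c).1 e = (d * l) • e := by rw [hd, hl, smul_smul]
  obtain ⟨l', hl'⟩ := conjE_eig (M := M⁻¹) h1
  rw [conjE_inv_conjE] at hl'
  refine ⟨l' • b.1 t, ?_⟩
  rw [pr_apply, pr_apply, ht, hl', smul_pm, pm_smul]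

/-- an invariant totally singular solid gives a fixed singular point -/
theorem tf2 {U : Submodule F (V8 F)} (h4 : finrank F U = 4) (hs : ∀ u ∈ U, Q8 F u = 0)
    (hinv : ∀ x ∈ X, ∃ a : E8 F, (a : G8 F) = x ∧ ∀ u ∈ U, a.1 u ∈ U) :
    ∃ e : V8 F, Q8 F e = 0 ∧ e ≠ 0 ∧ ∀ a : E8 F, (a : G8 F) ∈ X → ∃ l : F, a.1 e = l • e := by
  have hinv' : ∀ a : E8 F, (a : G8 F) ∈ X → ∀ u ∈ U, a.1 u ∈ U := fun a ha u hu => by
    obtain ⟨a', ha', h1⟩ := hinv _ ha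
    obtain ⟨d, -, hd⟩ := mk_eq_iff.1 ha'
    rw [hd]
    exact U.smul_mem _ (h1 u hu)
  obtain ⟨x, hx, hx0, hU⟩ := ClassicalGeometry.TrialitySpaces.isOct_of_singular hs h4
  have hy : Q8 F (oconj x) = 0 := by rwa [norm_oconj]
  have hy0 := ClassicalGeometry.TrialitySpaces.oconj_ne_zero hx0
  rw [← oconj_oconj x, ← range_pl, ← range_pr] at hU
  set y := oconj x
  rcases hU with rfl | rfl
  · obtain ⟨M, hM⟩ := h.sym1
    refine ⟨M.1 y, gam_sing _ hy, gam_ne _ hy0, fun a' ha' => ?_⟩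
    rw [← conjE_conjE_inv M a'] at ha' ⊢
    obtain ⟨a, c, ht⟩ := exists_T3₁ (conjE (Q8 F) M⁻¹ a')
    set b := conjE (Q8 F) M⁻¹ a'
    obtain ⟨l, hl⟩ := pl_line hy hy0 ((mem_O.1 (E_le_O b.2) y).trans hy) (b.1.map_ne_zero_iff.2 hy0) fun t => by
      obtain ⟨t, rfl⟩ := c.1.surjective t
      rw [← ht]
      exact hinv' a ((hM a b c ht).2 ha') _ ⟨t, rfl⟩
    exact conjE_eig hl
  · obtain ⟨M, hM⟩ := h.sym2
    refine ⟨M.1 y, gam_sing _ hy, gam_ne _ hy0, fun a' ha' => ?_⟩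
    rw [← conjE_conjE_inv M a'] at ha' ⊢
    obtain ⟨a, b, ht⟩ := exists_T3₂ (conjE (Q8 F) M⁻¹ a')
    set c := conjE (Q8 F) M⁻¹ a'
    obtain ⟨l, hl⟩ := pr_line hy hy0 ((mem_O.1 (E_le_O c.2) y).trans hy) (c.1.map_ne_zero_iff.2 hy0) fun t => by
      obtain ⟨t, rfl⟩ := b.1.surjective t
      rw [← ht]
      exact hinv' a ((hM a b c ht).2 ha') _ ⟨t, rfl⟩
    exact conjE_eig hl

end Cy

namespace Cy

variable {S : Subgroup (MulAut (G8 F))} {X : Subgroup (G8 F)} {r : ℕ} (h : Cy S X r) (ho : Odd r)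
include h

/-- the order of `q` modulo `r` -/
theorem order_cases : orderOf (Nat.card F : ZMod r) ∣ 4 ∨ orderOf (Nat.card F : ZMod r) ∣ 6 := by
  have : Fact r.Prime := ⟨h.prime⟩
  obtain ⟨⟨x, hx⟩, hx1⟩ := Subgroup.ne_bot_iff_exists_ne_one.1 h.ne
  have h1 : r ∣ Nat.card (G8 F) := by
    rw [← orderOf_eq_prime (h.pow x hx) fun e => hx1 (Subtype.ext e)]
    exact orderOf_dvd_natCard x
  have h2 := S0293.result (F := F) rfl 4 le_rfl
  rw [Cfsg.Agent.H989.OutOrth.Forms.card_P good8, coe_plusForm] at h1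
  have h3 := h2 ▸ h1.mul_left (Nat.gcd 4 (Fintype.card F ^ 4 - 1))
  have hq := card_ne_zero_zmod h.prime h.char
  have hq1 : 0 < Fintype.card F := Fintype.card_pos
  rw [Nat.card_eq_fintype_card] at hq ⊢
  have key : ∀ n, r ∣ Fintype.card F ^ n - 1 → orderOf (Fintype.card F : ZMod r) ∣ n := fun n hn => by
    refine orderOf_dvd_of_pow_eq_one ?_
    rw [← ZMod.natCast_eq_zero_iff, Nat.cast_sub (Nat.one_le_pow _ _ hq1), Nat.cast_pow, Nat.cast_one] at hn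
    exact sub_eq_zero.1 hn
  simp only [Finset.prod_range_succ, Finset.prod_range_zero, one_mul, h.prime.dvd_mul, Nat.reduceSub] at h3
  rcases h3 with (h3 | h3) | (h3 | h3) | h3
  · exact (hq ((ZMod.natCast_eq_zero_iff _ _).2 (h.prime.dvd_of_dvd_pow h3))).elim
  · exact Or.inl (key _ h3)
  · exact Or.inl ((key _ h3).trans (by norm_num))
  · exact Or.inl (key _ h3)
  · exact Or.inr (key _ h3)

include ho

theorem comm_odd {a b : E8 F} (ha : (a : G8 F) ∈ X) (hb : (b : G8 F) ∈ X) (hbr : b ^ r = 1) : a * b = b * a := by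
  have h1 : ((a * b * a⁻¹ * b⁻¹ : E8 F) : G8 F) = 1 := by
    rw [QuotientGroup.mk_mul, QuotientGroup.mk_mul, QuotientGroup.mk_mul, h.comm _ ha _ hb]
    simp
  have h2 := Subgroup.mem_center_iff.1 ((QuotientGroup.eq_one_iff _).1 h1)
  obtain ⟨e, he⟩ := mk_eq_one_iff.1 h1
  have h3 := odd_sc ho he (by
    have h4 : Commute (a * b * a⁻¹ * b⁻¹) b := (h2 b).symm
    have h5 := h4.mul_pow r
    rwa [inv_mul_cancel_right, conj_pow, hbr, mul_one, mul_one, mul_inv_cancel, eq_comm] at h5)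
  rwa [mul_inv_eq_one, mul_inv_eq_iff_eq_mul] at h3

/-- the lifts of odd order -/
def Y : Subgroup (GL8 F) where
  carrier := {g | ∃ a : E8 F, a.1 = g ∧ (a : G8 F) ∈ X ∧ a ^ r = 1}
  mul_mem' := by
    rintro _ _ ⟨a, rfl, ha, ha'⟩ ⟨b, rfl, hb, hb'⟩
    refine ⟨a * b, rfl, mul_mem ha hb, ?_⟩
    rw [Commute.mul_pow (h.comm_odd ho ha hb hb'), ha', hb', one_mul]
  one_mem' := ⟨1, rfl, one_mem X, one_pow r⟩
  inv_mem' := by
    rintro _ ⟨a, rfl, ha, ha'⟩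
    exact ⟨a⁻¹, rfl, inv_mem ha, by rw [inv_pow, ha', inv_one]⟩

theorem mem_Y {g : GL8 F} : g ∈ h.Y ho ↔ ∃ a : E8 F, a.1 = g ∧ (a : G8 F) ∈ X ∧ a ^ r = 1 := Iff.rfl

theorem coe_mem_Y {a : E8 F} : a.1 ∈ h.Y ho ↔ (a : G8 F) ∈ X ∧ a ^ r = 1 :=
  ⟨fun ⟨_, e, h1⟩ => Subtype.ext e ▸ h1, fun h1 => ⟨a, rfl, h1⟩⟩

theorem lift (x : G8 F) (hx : x ∈ X) : ∃ a : E8 F, (a : G8 F) = x ∧ a.1 ∈ h.Y ho := by
  obtain ⟨a, rfl⟩ := QuotientGroup.mk_surjective x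
  have h1 : ((a ^ (r + 1) : E8 F) : G8 F) = a := by rw [QuotientGroup.mk_pow, pow_succ, h.pow _ hx, one_mul]
  obtain ⟨e, he⟩ := mk_eq_one_iff.1 (show ((a ^ r : E8 F) : G8 F) = 1 from h.pow _ hx)
  exact ⟨_, h1, (h.coe_mem_Y ho).2 ⟨h1 ▸ hx, odd_lift ho he⟩⟩

theorem Y_le : h.Y ho ≤ O (Q8 F) := by
  rintro _ ⟨a, rfl, -⟩
  exact E_le_O a.2

theorem Y_pow : ∀ g ∈ h.Y ho, g ^ r = 1 := by
  rintro _ ⟨a, rfl, -, ha⟩
  exact congrArg Subtype.val ha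

theorem Y_comm : ∀ g ∈ h.Y ho, ∀ g' ∈ h.Y ho, g * g' = g' * g := by
  rintro _ ⟨a, rfl, ha, -⟩ _ ⟨b, rfl, hb, hb'⟩
  exact congrArg Subtype.val (h.comm_odd ho ha hb hb')

theorem Y_conj : ∀ M ∈ LL S, ∀ g ∈ h.Y ho, conjLin M g ∈ h.Y ho := by
  rintro M hM _ ⟨a, rfl, ha, ha'⟩
  exact ⟨conjE (Q8 F) M a, rfl, h.conjE_mem hM ha, by rw [← map_pow, ha', map_one]⟩

theorem Y_ne : ∃ g ∈ h.Y ho, g ≠ 1 := by
  obtain ⟨⟨x, hx⟩, hx1⟩ := Subgroup.ne_bot_iff_exists_ne_one.1 h.ne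
  obtain ⟨a, rfl, ha⟩ := h.lift ho x hx
  exact ⟨_, ha, fun e => hx1 (Subtype.ext (congrArg (QuotientGroup.mk : E8 F → G8 F) (Subtype.ext e : a = 1)))⟩

theorem Fx_ne_top : Fx (h.Y ho) ≠ ⊤ := fun e => by
  obtain ⟨g, hg, hg1⟩ := h.Y_ne ho
  exact hg1 (LinearEquiv.ext fun v => mem_Fx.1 (e ▸ Submodule.mem_top) g hg)

theorem nd_FxY : Nd (Q8 F) (Fx (h.Y ho)) :=
  have := finite_sub (h.Y ho)
  nd_Fx nondeg8' h.prime h.char (h.Y_le ho) (h.Y_pow ho)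

theorem conjE_mem_Y {M : Gam (Q8 F)} {a b : E8 F} (ha : a ^ r = 1) (hb : b ^ r = 1)
    (hM : (a : G8 F) ∈ X ↔ ((conjE (Q8 F) M b : E8 F) : G8 F) ∈ X) : a.1 ∈ h.Y ho ↔ conjLin M b.1 ∈ h.Y ho := by
  rw [h.coe_mem_Y ho, ← coe_conjE, h.coe_mem_Y ho, ← map_pow, hb, map_one, hM, ha]

theorem tf1Y {e : V8 F} (he : Q8 F e = 0) (he0 : e ≠ 0) (hfix : e ∈ Fx (h.Y ho)) :
    ∃ U : Submodule F (V8 F), finrank F U = 4 ∧ (∀ u ∈ U, Q8 F u = 0) ∧ ∀ g ∈ h.Y ho, ∀ u ∈ U, g u ∈ U := by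
  obtain ⟨U, h1, h2, h3⟩ := h.tf1 he he0 fun x hx => (h.lift ho x hx).imp fun a ha =>
    ⟨ha.1, 1, by rw [mem_Fx.1 hfix _ ha.2, one_smul]⟩
  refine ⟨U, h1, h2, ?_⟩
  rintro _ ⟨a, rfl, ha, -⟩
  exact h3 a ha

theorem tf2Y {U : Submodule F (V8 F)} (h4 : finrank F U = 4) (hs : ∀ u ∈ U, Q8 F u = 0)
    (hinv : ∀ g ∈ h.Y ho, ∀ u ∈ U, g u ∈ U) :
    ∃ e : V8 F, Q8 F e = 0 ∧ e ≠ 0 ∧ ∀ g ∈ h.Y ho, ∃ l : F, g e = l • e := by
  obtain ⟨e, h1, h2, h3⟩ := h.tf2 h4 hs fun x hx => (h.lift ho x hx).imp fun a ha => ⟨ha.1, hinv _ ha.2⟩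
  refine ⟨e, h1, h2, ?_⟩
  rintro _ ⟨a, rfl, ha, -⟩
  exact h3 a ha

theorem rot_memY {u v : V8 F} (hu : Q8 F u ≠ 0) (hv : Q8 F v = Q8 F u) (hy : ∀ g ∈ h.Y ho,
    rr (Q8 F) (g u) * rr (Q8 F) (g v) = rr (Q8 F) u * rr (Q8 F) v) : rr (Q8 F) u * rr (Q8 F) v ∈ LL S :=
  h.rot_mem hu hv fun x hx => (h.lift ho x hx).imp fun _ ha => ⟨ha.1, hy _ ha.2⟩

end Cy

namespace Cy

variable {S : Subgroup (MulAut (G8 F))} {X : Subgroup (G8 F)} {r : ℕ} (h : Cy S X r) (ho : Odd r)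
include h

theorem core {H : Subgroup (G8 F)} (hH : H ≠ ⊤) {g : G8 F} (hg : ∀ s ∈ S, s g ∈ H) : MulAut.conj g ∈ S := by
  have hm : ∀ y, y ∈ (⨅ s : S, H.comap s.1.toMonoidHom) ↔ ∀ s ∈ S, s y ∈ H := fun y => by
    simp [Subgroup.mem_iInf]
  refine h.le_of_inv (H := ⨅ s : S, H.comap s.1.toMonoidHom) (fun e => hH (eq_top_iff.2 fun y _ => ?_))
    (fun s hs y hy => (hm _).2 fun s' hs' => (hm y).1 hy (s' * s) (mul_mem hs' hs)) ((hm g).2 hg)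
  exact (hm y).1 (e ▸ Subgroup.mem_top y) 1 (one_mem S)

include ho

theorem fx_dim {x : GL8 F} (hx : x ∈ h.Y ho) (hx1 : x ≠ 1) : ∃ m, finrank F (Fx (Subgroup.zpowers x)) + m = 8 ∧
    Even m ∧ m ≠ 0 ∧ orderOf (Nat.card F : ZMod r) ∣ m := by
  have := finite_sub (Subgroup.zpowers x)
  have hle := (Subgroup.zpowers_le (H := h.Y ho)).2 hx
  have hN := nd_Fx nondeg8' h.prime h.char (hle.trans (h.Y_le ho)) fun a ha => h.Y_pow ho a (hle ha)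
  obtain ⟨m, hm, hk⟩ := order_dvd_one h.prime h.char (h.Y_pow ho x hx) (U := ⊤) fun _ _ => trivial
  rw [top_inf_eq, finrank_top, finrank8] at hm
  have h1 := finrank_prp nondeg8' (Fx (Subgroup.zpowers x))
  have h2 := even_of_fpf h.prime ho (h.Y_le ho hx) (h.Y_pow ho x hx) (hN.nd_prp nondeg8')
    (fun v hv => prp_inv (h.Y_le ho hx) (fun w hw => by rwa [mem_Fx_zpowers.1 hw]) hv)
    fun v hv hv' => hN v (mem_Fx_zpowers.2 hv') (mem_prp.1 hv)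
  rw [finrank8] at h1
  refine ⟨m, hm.symm, by rwa [show m = finrank F (prp (Q8 F) (Fx (Subgroup.zpowers x))) by omega], ?_, hk⟩
  rintro rfl
  have h3 : Fx (Subgroup.zpowers x) = ⊤ := Submodule.eq_top_of_finrank_eq (by rw [finrank8]; omega)
  exact hx1 (LinearEquiv.ext fun v => mem_Fx_zpowers.1 (h3 ▸ Submodule.mem_top))

theorem fx_inv {x g : GL8 F} (hx : x ∈ h.Y ho) (hg : g ∈ h.Y ho) {v : V8 F} (hv : v ∈ Fx (Subgroup.zpowers x)) :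
    g v ∈ Fx (Subgroup.zpowers x) := by
  rw [mem_Fx_zpowers] at hv ⊢
  rw [comm_apply (h.Y_comm ho) hx hg, hv]

theorem ty1_fx {s : MulAut (G8 F)} (hs : s ∈ S) {M : Gam (Q8 F)} (hM : Ty1 s M) {v : V8 F} :
    M.1 v ∈ Fx (h.Y ho) ↔ ∀ a b c : E8 F, T3 a b c → a.1 ∈ h.Y ho → b ^ r = 1 → b.1 v = v := by
  have key : ∀ a b c : E8 F, T3 a b c → a ^ r = 1 → b ^ r = 1 → (a.1 ∈ h.Y ho ↔ conjLin M b.1 ∈ h.Y ho) :=
    fun a b c ht ha hb => h.conjE_mem_Y ho ha hb (by rw [← hM a b c ht, h.mem_iff hs])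
  refine ⟨fun hv a b c ht ha hb => M.1.injective ?_, fun hv => mem_Fx.2 ?_⟩
  · rw [← conjLin_apply', mem_Fx.1 hv _ ((key a b c ht ((h.coe_mem_Y ho).1 ha).2 hb).1 ha)]
  · rintro _ ⟨a', rfl, ha', hr⟩
    have h1 : conjE (Q8 F) M⁻¹ a' ^ r = 1 := by rw [← map_pow, hr, map_one]
    obtain ⟨c, a, ht, -, ha⟩ := exists_T3_odd ho h1
    have h2 := hv a _ c ht.rot.rot ((key a _ c ht.rot.rot ha h1).2 (by
      rw [← coe_conjE, conjE_conjE_inv]; exact ⟨a', rfl, ha', hr⟩)) h1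
    rw [← conjE_conjE_inv M a', conjE_apply, h2]

theorem ty2_fx {s : MulAut (G8 F)} (hs : s ∈ S) {M : Gam (Q8 F)} (hM : Ty2 s M) {v : V8 F} :
    M.1 v ∈ Fx (h.Y ho) ↔ ∀ a b c : E8 F, T3 a b c → a.1 ∈ h.Y ho → c ^ r = 1 → c.1 v = v := by
  have key : ∀ a b c : E8 F, T3 a b c → a ^ r = 1 → c ^ r = 1 → (a.1 ∈ h.Y ho ↔ conjLin M c.1 ∈ h.Y ho) :=
    fun a b c ht ha hb => h.conjE_mem_Y ho ha hb (by rw [← hM a b c ht, h.mem_iff hs])
  refine ⟨fun hv a b c ht ha hb => M.1.injective ?_, fun hv => mem_Fx.2 ?_⟩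
  · rw [← conjLin_apply', mem_Fx.1 hv _ ((key a b c ht ((h.coe_mem_Y ho).1 ha).2 hb).1 ha)]
  · rintro _ ⟨a', rfl, ha', hr⟩
    have h1 : conjE (Q8 F) M⁻¹ a' ^ r = 1 := by rw [← map_pow, hr, map_one]
    obtain ⟨a, b, ht, ha, -⟩ := exists_T3_odd ho h1
    have h2 := hv a b _ ht.rot ((key a b _ ht.rot ha h1).2 (by
      rw [← coe_conjE, conjE_conjE_inv]; exact ⟨a', rfl, ha', hr⟩)) h1
    rw [← conjE_conjE_inv M a', conjE_apply, h2]

theorem L_fx {M : Gam (Q8 F)} (hM : M ∈ LL S) {v : V8 F} (hv : v ∈ Fx (h.Y ho)) : M.1 v ∈ Fx (h.Y ho) :=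
  mem_Fx.2 fun g hg => by
    rw [← conjLin_inv_left M g, conjLin_apply', mem_Fx.1 hv _ (h.Y_conj ho _ (inv_mem hM) g hg)]

theorem three (h3 : 3 ∣ orderOf (Nat.card F : ZMod r)) : False := by
  have hdim : ∀ x ∈ h.Y ho, x ≠ 1 → finrank F (Fx (Subgroup.zpowers x)) = 2 := fun x hx hx1 => by
    obtain ⟨m, h1, ⟨n, rfl⟩, h2, h4⟩ := h.fx_dim ho hx hx1
    have := h3.trans h4
    omega
  obtain ⟨x, hx, hx1⟩ := h.Y_ne ho
  have hC : Fx (Subgroup.zpowers x) = Fx (h.Y ho) := by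
    obtain ⟨m, h1, h2⟩ := order_dvd h.prime h.char (h.Y_pow ho) (U := Fx (Subgroup.zpowers x))
      fun g hg v hv => h.fx_inv ho hx hg hv
    have h4 := h3.trans h2
    have h5 := hdim x hx hx1
    refine le_antisymm (inf_eq_left.1 (Submodule.eq_of_le_of_finrank_eq inf_le_left (by omega))) fun v hv => ?_
    exact mem_Fx_zpowers.2 (mem_Fx.1 hv x hx)
  have hN := h.nd_FxY ho
  have hC2 := hdim x hx hx1
  rw [hC] at hC2
  set C := Fx (h.Y ho)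
  have hW := finrank_prp nondeg8' C
  rw [finrank8] at hW
  obtain ⟨c₀, hc₀, hc₀'⟩ := hN.exists_nonsing (by rintro e; rw [e, finrank_bot] at hC2; omega)
  obtain ⟨e, heW, he0, he⟩ := LieClassical.OrthFinite.exists_sing_mem (Q := Q8 F) (prp (Q8 F) C) (by omega)
  obtain ⟨s₁, hs₁, M₁, hM₁⟩ := h.t1
  obtain ⟨s₂, hs₂, M₂, hM₂⟩ := h.t2
  have hb₀ := (h.ty1_fx ho hs₁ hM₁ (v := M₁⁻¹.1 c₀)).1 ((apply_inv M₁.1 c₀).symm ▸ hc₀)
  have hd₀ := (h.ty2_fx ho hs₂ hM₂ (v := M₂⁻¹.1 c₀)).1 ((apply_inv M₂.1 c₀).symm ▸ hc₀)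
  have hb₀' := Q_ne M₁⁻¹ hc₀'
  have hd₀' := Q_ne M₂⁻¹ hc₀'
  generalize M₁⁻¹.1 c₀ = b₀ at hb₀ hb₀'
  generalize M₂⁻¹.1 c₀ = d₀ at hd₀ hd₀'
  have hy : Q8 F (pm e b₀) = 0 := by rw [norm_pm, he, zero_mul]
  have hR := finrank_pr hy fun e0 => he0 (pr_injective hb₀' (e0.trans (map_zero _).symm))
  have hR2 := Submodule.finrank_sup_add_finrank_inf_eq (LinearMap.range (pr (pm e b₀))) (prp (Q8 F) C)
  have hR3 := (LinearMap.range (pr (pm e b₀)) ⊔ prp (Q8 F) C).finrank_le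
  rw [finrank8] at hR3
  obtain ⟨w, ⟨⟨t, ht⟩, hwW⟩, hwe⟩ := exists_indep2 (U := LinearMap.range (pr (pm e b₀)) ⊓ prp (Q8 F) C) (by omega)
    (e := e)
  have hw : Q8 F w = 0 := by rw [← ht, pr_apply, norm_pm, hy, mul_zero]
  have hyw : pm (pm e b₀) w = 0 := by rw [← ht, pr_apply, pm_pm_right, hy, zero_smul]
  have hew : polar (Q8 F) e w = 0 := by
    have h1 := polar_pm b₀ (pm e b₀) w
    rw [hyw, pm_pm_right, polar_smul_left, polar_zero_right] at h1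
    exact (smul_eq_zero.1 h1).resolve_left hb₀'
  let u : E8 F := ⟨siegel (Q8 F) e w he hew, siegel_mem_E he hew⟩
  have hu : ∀ v, u.1 v = v + polar (Q8 F) e v • w - polar (Q8 F) w v • e := fun v => by
    show siegel (Q8 F) e w he hew v = _
    rw [siegel_apply, hw, zero_mul, zero_smul, sub_zero]
  have hu0 : ∀ v, polar (Q8 F) e v = 0 → polar (Q8 F) w v = 0 → u.1 v = v := fun v h1 h2 => by
    rw [hu, h1, h2, zero_smul, zero_smul, add_zero, sub_zero]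
  have huC : ∀ v ∈ C, u.1 v = v := fun v hv => hu0 v (mem_prp.1 heW v hv) (mem_prp.1 hwW v hv)
  have hpm := siegel_pm he hw hew
  obtain ⟨b, c, hT⟩ := exists_T3 u
  obtain ⟨ε, -, hb, hc⟩ := Tr.lin hT (f := LinearMap.id + pr w ∘ₗ pl e) (g := LinearMap.id - pl e ∘ₗ pr w) hpm
  have hfix : ∀ v v', (∀ a b c : E8 F, T3 a b c → a.1 ∈ h.Y ho → b ^ r = 1 → b.1 v = v) →
      (∀ a b c : E8 F, T3 a b c → a.1 ∈ h.Y ho → c ^ r = 1 → c.1 v' = v') →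
      pm (v + pm (pm e v) w) (v' - pm e (pm v' w)) = pm v v' := fun v v' h1 h2 => by
    rw [← hpm]
    refine huC _ (mem_Fx.2 ?_)
    rintro _ ⟨a, rfl, ha, ha'⟩
    obtain ⟨b, c, ht, hb, hc⟩ := exists_T3_odd ho ha'
    rw [ht, h1 a b c ht ⟨a, rfl, ha, ha'⟩ hb, h2 a b c ht ⟨a, rfl, ha, ha'⟩ hc]
  have hg : ∀ v', (∀ a b c : E8 F, T3 a b c → a.1 ∈ h.Y ho → c ^ r = 1 → c.1 v' = v') →
      v' - pm e (pm v' w) = v' := fun v' h2 => by
    have h1 := hfix b₀ v' hb₀ h2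
    rw [hyw, add_zero] at h1
    exact pl_injective hb₀' h1
  have hf : ∀ v, (∀ a b c : E8 F, T3 a b c → a.1 ∈ h.Y ho → b ^ r = 1 → b.1 v = v) →
      v + pm (pm e v) w = v := fun v h2 => by
    have h1 := hfix v d₀ h2 hd₀
    rw [hg d₀ hd₀] at h1
    exact pr_injective hd₀' h1
  have huS : og u ∈ LL S := by
    rw [Subgroup.mem_comap, Psi_og]
    refine h.core (H := (scOn C).map (QuotientGroup.mk' _)) (fun e1 => ?_) fun s hs => ?_
    · obtain ⟨w', hw', h1⟩ := hN.exists_one hc₀ (by rintro rfl; exact hc₀' (map_zero _))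
      have h2 := mem_prp.1 heW w' hw'
      obtain ⟨a, ⟨l, hl⟩, ha⟩ : ((⟨siegel (Q8 F) e w' he h2, siegel_mem_E he h2⟩ : E8 F) : G8 F) ∈
        (scOn C).map (QuotientGroup.mk' _) := e1 ▸ Subgroup.mem_top _
      obtain ⟨d, -, hd⟩ := mk_eq_iff.1 ha
      have h4 : siegel (Q8 F) e w' he h2 c₀ = _ := hd c₀
      rw [siegel_apply, mem_prp.1 heW c₀ hc₀, polar_comm, h1, hl c₀ hc₀] at h4
      refine he0 (hN e ?_ (mem_prp.1 heW))
      rw [show e = c₀ - d • l • c₀ by rw [← h4]; simp]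
      exact sub_mem hc₀ (C.smul_mem _ (C.smul_mem _ hc₀))
    · have key : ∀ (M : Gam (Q8 F)) (z : E8 F) (l : F), (∀ v, M.1 v ∈ C → z.1 v = l • v) →
          ((conjE (Q8 F) M z : E8 F) : G8 F) ∈ (scOn C).map (QuotientGroup.mk' _) := fun M z l hz => by
        obtain ⟨σ, hσ⟩ := gam_smul M
        refine ⟨_, ⟨σ l, fun v hv => ?_⟩, rfl⟩
        obtain ⟨v, rfl⟩ := M.1.surjective v
        rw [conjE_apply, hz v hv, hσ]
      obtain ⟨M, hM | hM | hM⟩ := cosets s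
      · have hM' : M ∈ LL S := by rwa [Subgroup.mem_comap, hM]
        rw [← hM]
        refine key M u 1 fun v hv => ?_
        rw [one_smul]
        exact huC v ((inv_apply M.1 v) ▸ h.L_fx ho (inv_mem hM') hv)
      · rw [hM u b c hT]
        refine key M b ε fun v hv => ?_
        rw [hb]
        exact congrArg _ (hf v ((h.ty1_fx ho hs hM).1 hv))
      · rw [hM u b c hT]
        refine key M c ε⁻¹ fun v hv => ?_
        rw [hc]
        exact congrArg _ (hg v ((h.ty2_fx ho hs hM).1 hv))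
  have hz : u.1 * x * u.1⁻¹ * x⁻¹ ∈ h.Y ho := mul_mem (h.Y_conj ho _ huS x hx) (inv_mem hx)
  have hz1 : u.1 * x * u.1⁻¹ * x⁻¹ = 1 := by
    by_contra h1
    have h2 := finrank_prp nondeg8' (Submodule.span F (Set.range ![e, w, x e, x w]))
    have h4 : finrank F (Submodule.span F (Set.range ![e, w, x e, x w])) ≤ 4 := finrank_range_le_card _
    have h5 : prp (Q8 F) (Submodule.span F (Set.range ![e, w, x e, x w])) ≤
        Fx (Subgroup.zpowers (u.1 * x * u.1⁻¹ * x⁻¹)) := fun v hv => by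
      have h6 : ∀ i, polar (Q8 F) (![e, w, x e, x w] i) v = 0 := fun i =>
        (polar_comm _ _ _).trans (mem_prp.1 hv _ (Submodule.subset_span ⟨i, rfl⟩))
      have h7 := hu0 (x⁻¹ v) ((polar_inv (h.Y_le ho hx) e v).symm.trans (h6 2))
        ((polar_inv (h.Y_le ho hx) w v).symm.trans (h6 3))
      rw [mem_Fx_zpowers]
      show u.1 (x (u.1.symm (x⁻¹ v))) = v
      rw [u.1.symm_apply_eq.2 h7.symm]
      exact (congrArg u.1 (x.apply_symm_apply v)).trans (hu0 v (h6 0) (h6 1))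
    have h8 := Submodule.finrank_mono h5
    rw [hdim _ hz h1] at h8
    rw [finrank8] at h2
    omega
  rw [mul_inv_eq_one, mul_inv_eq_iff_eq_mul] at hz1
  have hU : LinearMap.range (u.1.toLinearMap - 1) ≤ Submodule.span F (Set.range ![e, w]) := by
    rintro _ ⟨v, rfl⟩
    show u.1 v - v ∈ _
    rw [hu, add_sub_assoc, add_sub_cancel_left]
    exact sub_mem (Submodule.smul_mem _ _ (Submodule.subset_span ⟨1, rfl⟩))
      (Submodule.smul_mem _ _ (Submodule.subset_span ⟨0, rfl⟩))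
  obtain ⟨m, h1, h2⟩ := order_dvd_one h.prime h.char (h.Y_pow ho x hx) (U := LinearMap.range (u.1.toLinearMap - 1)) (by
    rintro _ ⟨v, rfl⟩
    refine ⟨x v, ?_⟩
    show u.1 (x v) - x v = x (u.1 v - v)
    rw [map_sub]
    exact congrArg (· - x v) (LinearEquiv.congr_fun hz1 v))
  have h4 : finrank F (LinearMap.range (u.1.toLinearMap - 1)) ≤ 2 :=
    (Submodule.finrank_mono hU).trans (finrank_range_le_card _)
  have h5 := h3.trans h2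
  have h6 := inf_eq_left.1 (Submodule.eq_of_le_of_finrank_eq (inf_le_left (b := Fx (Subgroup.zpowers x)))
    (show _ = finrank F (LinearMap.range (u.1.toLinearMap - 1)) by omega))
  obtain ⟨v, hv⟩ := nondeg8'.exists_polar_eq he0 1
  have h7 : u.1 v - v ∈ C := hC ▸ h6 ⟨v, rfl⟩
  rw [hu, add_sub_assoc, add_sub_cancel_left, hv, one_smul] at h7
  exact hwe _ (sub_eq_zero.1 (hN _ h7 (mem_prp.1 (sub_mem hwW (Submodule.smul_mem _ _ heW)))))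

end Cy

namespace Cy

variable {S : Subgroup (MulAut (G8 F))} {X : Subgroup (G8 F)} {r : ℕ} (h : Cy S X r) (ho : Odd r)
  (h4 : orderOf (Nat.card F : ZMod r) = 4)
include h ho h4

theorem four_fx : Fx (h.Y ho) = ⊥ := by
  have := finite_sub (h.Y ho)
  obtain ⟨m, h1, h2⟩ := order_dvd h.prime h.char (h.Y_pow ho) (U := ⊤) fun _ _ _ _ => trivial
  rw [top_inf_eq, finrank_top, finrank8] at h1
  rw [h4] at h2
  have h3 : finrank F (Fx (h.Y ho)) ≠ 8 := fun e =>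
    h.Fx_ne_top ho (Submodule.eq_top_of_finrank_eq (e.trans finrank8.symm))
  rw [← Submodule.finrank_eq_zero]
  by_contra h0
  have hN := h.nd_FxY ho
  obtain ⟨e, heC, he0, he⟩ := LieClassical.OrthFinite.exists_sing_mem (Q := Q8 F) (Fx (h.Y ho)) (by omega)
  obtain ⟨U, k1, k2, k3⟩ := h.tf1Y ho he he0 heC
  obtain ⟨m', k4, k5⟩ := order_dvd h.prime h.char (h.Y_pow ho) k3
  rw [h4] at k5
  have k6 := hN.two_mul_le (U := U ⊓ Fx (h.Y ho)) inf_le_right fun x hx y hy => polar_of_ts k2 hx.1 hy.1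
  have k7 : U ⊓ Fx (h.Y ho) = ⊥ := Submodule.finrank_eq_zero.1 (by omega)
  have k8 := (hN.nd_prp nondeg8').two_mul_le (U := U) (fun u hu => mem_prp.2 fun c hc => (polar_comm _ _ _).trans
    (perp_of_fx h.prime h.char (h.Y_le ho) (h.Y_pow ho) k3 hc (fun w hw => by
      rw [k7] at hw; rw [(Submodule.mem_bot F).1 hw, polar_zero_right]) hu)) fun x hx y hy => polar_of_ts k2 hx hy
  have k9 := finrank_prp nondeg8' (Fx (h.Y ho))
  rw [finrank8] at k9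
  omega

theorem four_dvd {U : Submodule F (V8 F)} (hU : ∀ g ∈ h.Y ho, ∀ v ∈ U, g v ∈ U) : 4 ∣ finrank F U := by
  obtain ⟨m, h1, h2⟩ := order_dvd h.prime h.char (h.Y_pow ho) hU
  rw [h.four_fx ho h4, inf_bot_eq, finrank_bot, zero_add] at h1
  rwa [h1, ← h4]

theorem four_irr {U : Submodule F (V8 F)} (hU : finrank F U = 4) : Irr (h.Y ho) U := fun U' h1 h2 => by
  have h3 := h.four_dvd ho h4 h2
  have h5 := Submodule.finrank_mono h1
  by_cases h0 : finrank F U' = 0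
  · exact Or.inl (Submodule.finrank_eq_zero.1 h0)
  · exact Or.inr (Submodule.eq_of_le_of_finrank_eq h1 (by omega))

theorem four_ts {U : Submodule F (V8 F)} (hU : ∀ g ∈ h.Y ho, ∀ v ∈ U, g v ∈ U) (hs : ∀ u ∈ U, Q8 F u = 0) :
    U = ⊥ := by
  rw [← Submodule.finrank_eq_zero]
  by_contra h0
  have h1 := h.four_dvd ho h4 hU
  have h2 : finrank F U ≤ 4 := ClassicalGeometry.TrialitySpaces.finrank_le_four hs
  obtain ⟨e, -, he0, he⟩ := h.tf2Y ho (U := U) (by omega) hs hU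
  have h3 := h.four_dvd ho h4 (U := Submodule.span F {e}) fun g hg v hv => by
    obtain ⟨c, rfl⟩ := Submodule.mem_span_singleton.1 hv
    obtain ⟨l, hl⟩ := he g hg
    rw [map_smul, hl]
    exact Submodule.smul_mem _ _ (Submodule.smul_mem _ _ (Submodule.mem_span_singleton_self e))
  rw [finrank_span_singleton he0] at h3
  omega

theorem four_nt {U : Submodule F (V8 F)} (hU : U ≠ ⊥) : ∃ x ∈ h.Y ho, ∃ w ∈ U, x w ≠ w := by
  by_contra hc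
  push Not at hc
  exact hU (eq_bot_iff.2 fun w hw => h.four_fx ho h4 ▸ mem_Fx.2 fun a ha => hc a ha w hw)

theorem four_str {U : Submodule F (V8 F)} (hU : ∀ g ∈ h.Y ho, ∀ v ∈ U, g v ∈ U) (h0 : U ≠ ⊥) (hI : Irr (h.Y ho) U) :
    ∃ x ∈ h.Y ho, ∃ σ π : F, (∀ v ∈ U, qrt x σ π v = 0) ∧ ∀ b ∈ h.Y ho, ∃ j : ℕ, ∀ v ∈ U, b v = (x ^ j) v := by
  have : Fact r.Prime := ⟨h.prime⟩
  obtain ⟨x, hx, hx'⟩ := h.four_nt ho h4 h0
  have h1 : (Nat.card F : ZMod r) ^ 2 = -1 := by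
    refine (sq_eq_one_iff.1 ?_).resolve_left fun e => ?_
    · rw [← pow_mul, ← pow_orderOf_eq_one (Nat.card F : ZMod r), h4]
    · have h2 := orderOf_dvd_of_pow_eq_one e
      rw [h4] at h2
      omega
  obtain ⟨σ, π, h2⟩ := hI.quartic (h.Y_comm ho) hU hx (by
    rw [← pow_mul]
    exact pow_eq_inv (h.Y_pow ho x hx) (by rw [Nat.cast_mul, ← Nat.card_eq_fintype_card, ← h1, pow_two]))
  exact ⟨x, hx, σ, π, h2, fun b hb => pow_of_sr h.prime h.char (h.Y_comm ho) (h.Y_pow ho) hU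
    (hI.sr (h.Y_comm ho) hU) hx hx' hb⟩

theorem four_ex : ∃ W : Submodule F (V8 F), finrank F W = 4 ∧ ∀ g ∈ h.Y ho, ∀ v ∈ W, g v ∈ W := by
  by_cases hI : Irr (h.Y ho) ⊤
  · obtain ⟨x, hx, σ, π, h1, h2⟩ := h.four_str ho h4 (U := ⊤) (fun _ _ _ _ => trivial) top_ne_bot hI
    have h3 : ∀ g ∈ h.Y ho, ∀ v ∈ T4 x (e8 F), g v ∈ T4 x (e8 F) := fun g hg v hv => by
      obtain ⟨j, hj⟩ := h2 g hg
      rw [hj v trivial]
      exact pow_inv (T4_inv (h1 _ trivial)) j v hv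
    have h5 : finrank F (T4 x (e8 F)) ≤ 4 := finrank_range_le_card _
    rcases hI _ le_top h3 with h6 | h6
    · exact (e8_ne ((Submodule.eq_bot_iff _).1 h6 _ (Submodule.subset_span ⟨0, rfl⟩))).elim
    · rw [h6, finrank_top, finrank8] at h5
      omega
  · unfold Irr at hI
    push Not at hI
    obtain ⟨W, -, h1, h2, h3⟩ := hI
    have h5 := h.four_dvd ho h4 h1
    have h6 := Submodule.finrank_lt h3
    have h7 := mt Submodule.finrank_eq_zero.1 h2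
    rw [finrank8] at h6
    exact ⟨W, by omega, h1⟩

theorem four_nd {W : Submodule F (V8 F)} (hW : finrank F W = 4) (hU : ∀ g ∈ h.Y ho, ∀ v ∈ W, g v ∈ W) :
    Nd (Q8 F) W := by
  rcases h.four_irr ho h4 hW (W ⊓ prp (Q8 F) W) inf_le_left
    (fun g hg v hv => ⟨hU g hg v hv.1, prp_inv (h.Y_le ho hg) (hU g hg) hv.2⟩) with h1 | h1
  · exact fun x hx h2 => (Submodule.eq_bot_iff _).1 h1 x ⟨hx, mem_prp.2 h2⟩
  · let T : Submodule F (V8 F) :=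
      { carrier := {v | v ∈ W ∧ Q8 F v = 0}
        add_mem' := fun {a b} ha hb => ⟨add_mem ha.1 hb.1, by
          rw [Q_add, ha.2, hb.2, mem_prp.1 (inf_eq_left.1 h1 ha.1) b hb.1, add_zero, add_zero]⟩
        zero_mem' := ⟨zero_mem _, map_zero _⟩
        smul_mem' := fun c v hv => ⟨W.smul_mem c hv.1, by rw [QuadraticMap.map_smul, hv.2, smul_zero]⟩ }
    obtain ⟨e, heW, he0, he⟩ := LieClassical.OrthFinite.exists_sing_mem (Q := Q8 F) W (by omega)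
    exact (he0 ((Submodule.eq_bot_iff _).1 (h.four_ts ho h4 (U := T)
      (fun g hg v hv => ⟨hU g hg v hv.1, (mem_O.1 (h.Y_le ho hg) v).trans hv.2⟩) fun _ hv => hv.2) e ⟨heW, he⟩)).elim

theorem four_uniq {W U : Submodule F (V8 F)} (hW : finrank F W = 4) (hW' : ∀ g ∈ h.Y ho, ∀ v ∈ W, g v ∈ W)
    (hU : finrank F U = 4) (hU' : ∀ g ∈ h.Y ho, ∀ v ∈ U, g v ∈ U) : U = W ∨ U = prp (Q8 F) W := by
  by_contra hc
  push Not at hc
  have hN := h.four_nd ho h4 hW hW'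
  have hP := finrank_prp nondeg8' W
  rw [finrank8] at hP
  have hP' : ∀ g ∈ h.Y ho, ∀ v ∈ prp (Q8 F) W, g v ∈ prp (Q8 F) W := fun g hg v hv =>
    prp_inv (h.Y_le ho hg) (hW' g hg) hv
  have key : ∀ W' : Submodule F (V8 F), finrank F W' = 4 → (∀ g ∈ h.Y ho, ∀ v ∈ W', g v ∈ W') → U ≠ W' →
      U ⊓ W' = ⊥ := fun W' k1 k2 k3 =>
    (h.four_irr ho h4 hU _ inf_le_left fun g hg v hv => ⟨hU' g hg v hv.1, k2 g hg v hv.2⟩).resolve_right fun e =>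
      k3 (Submodule.eq_of_le_of_finrank_eq (inf_eq_left.1 e) (hU.trans k1.symm))
  have k1 := Submodule.finrank_sup_add_finrank_inf_eq U W
  rw [key W hW hW' hc.1, finrank_bot] at k1
  have k2 : U ⊔ W = ⊤ := Submodule.eq_top_of_finrank_eq (by rw [finrank8]; omega)
  have kill : ∀ φ : Module.End F (V8 F), (∀ v ∈ W, φ v = 0) → (∀ v ∈ U, φ v ∈ U) →
      (∀ v ∈ prp (Q8 F) W, φ v ∈ prp (Q8 F) W) → ∀ v, φ v = 0 := fun φ k3 k5 k6 v => by
    obtain ⟨u, hu, w, hw, rfl⟩ := Submodule.mem_sup.1 (k2 ▸ Submodule.mem_top : v ∈ U ⊔ W)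
    rw [map_add, k3 w hw, add_zero]
    obtain ⟨w, hw, w', hw', e⟩ := Submodule.mem_sup.1 (hN.sup_prp nondeg8' ▸ Submodule.mem_top : u ∈ W ⊔ prp (Q8 F) W)
    refine (Submodule.eq_bot_iff _).1 (key _ (by omega) hP' hc.2) _ ⟨k5 u hu, ?_⟩
    rw [← e, map_add, k3 w hw, zero_add]
    exact k6 w' hw'
  obtain ⟨x, hx, σ, π, h1, h2⟩ := h.four_str ho h4 hW' (by rintro rfl; simp at hW) (h.four_irr ho h4 hW)
  have hq : ∀ U : Submodule F (V8 F), (∀ v ∈ U, x v ∈ U) → ∀ v ∈ U, qrt x σ π v ∈ U := fun U k v hv =>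
    sub_mem (k _ (k _ (k _ (k v hv)))) (sub_mem (sub_mem (U.smul_mem _ (add_mem (k _ (k _ (k v hv))) (k v hv)))
      (U.smul_mem _ (k _ (k v hv)))) hv)
  have h3 := kill _ h1 (hq U (hU' x hx)) (hq _ (hP' x hx))
  obtain ⟨v, hv0, hv⟩ := H920.FP.cw ![Q8 F, LinearMap.BilinMap.toQuadraticMap ((polarBilin (Q8 F)).compl₂ x.toLinearMap),
    LinearMap.BilinMap.toQuadraticMap ((polarBilin (Q8 F)).compl₂ (x * x).toLinearMap)] (by simp)
  refine hv0 ((Submodule.eq_bot_iff _).1 (h.four_ts ho h4 (U := T4 x v) (fun g hg w hw => ?_)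
    (T4_ts (h.Y_le ho hx) (h3 _) (hv 0) (hv 1) (hv 2))) v (Submodule.subset_span ⟨0, rfl⟩))
  obtain ⟨j, hj⟩ := h2 g hg
  have h5 := kill (g.toLinearMap - (x ^ j).toLinearMap) (fun v hv => sub_eq_zero.2 (hj v hv))
    (fun v hv => sub_mem (hU' g hg v hv) (hU' _ (pow_mem hx j) v hv))
    (fun v hv => sub_mem (hP' g hg v hv) (hP' _ (pow_mem hx j) v hv)) w
  rw [show g w = (x ^ j) w from sub_eq_zero.1 h5]
  exact pow_inv (T4_inv (h3 v)) j w hw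

end Cy

namespace Cy

variable {S : Subgroup (MulAut (G8 F))} {X : Subgroup (G8 F)} {r : ℕ} (h : Cy S X r) (ho : Odd r)
include h ho

theorem ex_gen {θ : h.Y ho → F} (hθ : ¬ Bl (h.Y ho) θ ≤ Fx (h.Y ho)) : ∃ x t, Gen (h.Y ho) (Bl (h.Y ho) θ) x t :=
  exists_gen h.prime ho h.char (h.Y_comm ho) (h.Y_pow ho) hθ

variable (hk : orderOf (Nat.card F : ZMod r) ∣ 2)
include hk

theorem sym_card : ∀ a ∈ h.Y ho, sym a ^ Fintype.card F = sym a := fun a ha => by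
  have : Fact r.Prime := ⟨h.prime⟩
  rw [sym_pow_card]
  rcases sq_eq_one_iff.1 (orderOf_dvd_iff_pow_eq_one.1 hk) with e | e
  · rw [pow_eq_self (h.Y_pow ho a ha) (Nat.card_eq_fintype_card (α := F) ▸ e)]
  · rw [pow_eq_inv (h.Y_pow ho a ha) (Nat.card_eq_fintype_card (α := F) ▸ e), sym_inv]

theorem dec : Dec (Q8 F) (Bl (h.Y ho)) :=
  have := finite_sub (h.Y ho)
  dec_Bl (h.Y_le ho) (h.Y_comm ho) (h.sym_card ho hk)

theorem eq_two {θ : h.Y ho → F} (h0 : Bl (h.Y ho) θ ≠ ⊥) (hθ : Bl (h.Y ho) θ ≤ Fx (h.Y ho)) :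
    Bl (h.Y ho) θ = Fx (h.Y ho) := by
  rw [Fx_eq_Bl h.char (h.Y_pow ho)] at hθ ⊢
  by_contra h1
  exact h0 (eq_bot_iff.2 (((h.dec ho hk).nd nondeg8' _).inf_prp ▸
    le_inf hθ ((h.dec ho hk).le_prp fun e => h1 (congrArg _ e))))

theorem ex_block : ∃ θ, ¬ Bl (h.Y ho) θ ≤ Fx (h.Y ho) := by
  by_contra hc
  push Not at hc
  exact h.Fx_ne_top ho (eq_top_iff.2 ((h.dec ho hk).span ▸ iSup_le hc))

theorem bl_even (θ : h.Y ho → F) : Even (finrank F (Bl (h.Y ho) θ)) := by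
  classical
  have key : ∀ θ, ¬ Bl (h.Y ho) θ ≤ Fx (h.Y ho) → Even (finrank F (Bl (h.Y ho) θ)) := fun θ hθ => by
    obtain ⟨x, t, hG⟩ := h.ex_gen ho hθ
    exact even_of_fpf h.prime ho (h.Y_le ho hG.mem) (h.Y_pow ho x hG.mem) ((h.dec ho hk).nd nondeg8' θ) hG.inv hG.fpf
  by_contra hc
  have := finite_sub (h.Y ho)
  have := Fintype.ofFinite (h.Y ho → F)
  have h1 := (h.dec ho hk).sum_finrank nondeg8'
  have h0 : ∀ θ, ¬ Even (finrank F (Bl (h.Y ho) θ)) → Bl (h.Y ho) θ = Fx (h.Y ho) := fun θ hθ =>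
    h.eq_two ho hk (fun e => hθ (by rw [e, finrank_bot]; exact Even.zero)) (by_contra fun e => hθ (key θ e))
  rw [← Finset.add_sum_erase _ _ (Finset.mem_univ θ), finrank8] at h1
  have h2 : Even (∑ θ' ∈ Finset.univ.erase θ, finrank F (Bl (h.Y ho) θ')) := Finset.even_sum _ fun θ' hθ' => by
    by_contra h3
    have h4 := (h.dec ho hk).le_prp (Finset.ne_of_mem_erase hθ')
    rw [h0 θ' h3, ← h0 θ hc] at h4
    rw [← inf_eq_left.2 h4, ((h.dec ho hk).nd nondeg8' θ).inf_prp, finrank_bot] at hc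
    exact hc Even.zero
  obtain ⟨m, hm⟩ := h2
  exact hc ⟨4 - m, by omega⟩

theorem half {e : V8 F} (he : Q8 F e = 0) (he0 : e ≠ 0) (heC : e ∈ Fx (h.Y ho)) :
    ∃ U : Submodule F (V8 F), (∀ u ∈ U, Q8 F u = 0) ∧ (∀ g ∈ h.Y ho, ∀ u ∈ U, g u ∈ U) ∧
      ∀ θ, 2 * finrank F ↥(U ⊓ Bl (h.Y ho) θ) = finrank F (Bl (h.Y ho) θ) := by
  classical
  obtain ⟨U, h1, h2, h3⟩ := h.tf1Y ho he he0 heC
  have := finite_sub (h.Y ho)
  have := Fintype.ofFinite (h.Y ho)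
  have h4 := finrank_le_sum (h.Y_comm ho) (h.sym_card ho hk) h3
  have h5 := (h.dec ho hk).sum_finrank nondeg8'
  have h6 : ∀ θ ∈ Finset.univ, 2 * finrank F ↥(U ⊓ Bl (h.Y ho) θ) ≤ finrank F (Bl (h.Y ho) θ) := fun θ _ =>
    ((h.dec ho hk).nd nondeg8' θ).two_mul_le inf_le_right fun x hx y hy => polar_of_ts h2 hx.1 hy.1
  refine ⟨U, h2, h3, fun θ => (Finset.sum_eq_sum_iff_of_le h6).1 (le_antisymm (Finset.sum_le_sum h6) ?_) θ
    (Finset.mem_univ θ)⟩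
  rw [h5, finrank8, ← Finset.mul_sum]
  omega

theorem fx_ts (h4 : 4 ≤ finrank F (Fx (h.Y ho))) : HasTS (Q8 F) (Fx (h.Y ho)) := by
  obtain ⟨e, heC, he0, he⟩ := LieClassical.OrthFinite.exists_sing_mem (Q := Q8 F) (Fx (h.Y ho)) (by omega)
  obtain ⟨U, h1, -, h3⟩ := h.half ho hk he he0 heC
  have h5 := h3 fun _ => 2
  rw [← Fx_eq_Bl h.char (h.Y_pow ho)] at h5
  exact hasTS_of_le (U := U ⊓ Fx (h.Y ho)) inf_le_right (fun u hu => h1 u hu.1) (by omega)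

end Cy

end Cfsg.Agent.N2C.D4
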