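import Cfsg.Agent.N2.Cl.D4.Cy
import Cfsg.Agent.SB.D4.RB2

/-!
# N2 (S3519), `PΩ₈⁺(q)` with triality: minimal invariant elementary abelian `2`-subgroups (helper61)

The lemmas of `SB/D4` (helper30, helper61) for a group of automorphisms which need not be solvable.
-/

set_option autoImplicit false
set_option linter.unusedSectionVars false

namespace Cfsg.Agent.N2C.D4

open QuadraticMap Module Cfsg.Agent.LieClassical.QuadForms Cfsg.Agent.LieClassical.OrthCore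
  Cfsg.Agent.LieClassical.OrthTrans Cfsg.Agent.ClassicalGeometry.OrthSemi Cfsg.Agent.ClassicalGeometry.OrthAut1
  Cfsg.Agent.ClassicalGeometry.TrialityOct Cfsg.Agent.ClassicalGeometry.Triality
  Cfsg.Agent.H989.OutOrth.Basic Cfsg.Agent.H989.OutOrth.Tri Cfsg.Agent.H786.FC Cfsg.Agent.SB.D4

variable {F : Type} [Field F] [Fintype F]

namespace Cy

variable {S : Subgroup (MulAut (G8 F))} {X : Subgroup (G8 F)} (h : Cy S X 2)
include h

theorem two_ne : (2 : F) ≠ 0 := by simpa using h.char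

theorem sq_sc {a : E8 F} (ha : (a : G8 F) ∈ X) : ∃ e, Sc (a * a) e :=
  mk_eq_one_iff.1 (by rw [QuotientGroup.mk_mul, ← pow_two]; exact h.pow _ ha)

theorem pc {a b : E8 F} (ha : (a : G8 F) ∈ X) (hb : (b : G8 F) ∈ X) : Pc a b :=
  mk_eq_one_iff.1 (by
    rw [QuotientGroup.mk_mul, QuotientGroup.mk_inv, QuotientGroup.mk_mul, QuotientGroup.mk_mul, h.comm _ ha _ hb,
      mul_inv_cancel])

theorem zt_iff {a b c : E8 F} (ht : T3 a b c) : Zt S (a : G8 F) ↔ a * a = 1 ∧ b * b = 1 ∧ c * c = 1 := by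
  constructor
  · intro hz
    obtain ⟨α, hα, M, hM⟩ := h.t1
    have h1 := sq_mk.1 (hz 1 (one_mem _))
    have h2 := hz α hα
    rw [hM a b c ht, sq_mk, conjE_sq] at h2
    exact ⟨h1, h2, ht.sq_third h1 h2⟩
  · rintro ⟨h1, h2, h3⟩ s -
    obtain ⟨M, rfl | hM | hM⟩ := cosets s
    · rwa [Psi_mk, sq_mk, conjE_sq]
    · rwa [hM a b c ht, sq_mk, conjE_sq]
    · rwa [hM a b c ht, sq_mk, conjE_sq]

theorem types {a b c : E8 F} (ht : T3 a b c) (ha : (a : G8 F) ∈ X) (hz : ¬ Zt S (a : G8 F)) :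
    (a * a = 1 ∧ Ng b ∧ Ng c) ∨ (Ng a ∧ b * b = 1 ∧ Ng c) ∨ (Ng a ∧ Ng b ∧ c * c = 1) :=
  (ht.types (h.sq_sc ha)).resolve_left fun h1 => hz ((h.zt_iff ht).2 h1)

theorem cm_of_inv {p : G8 F → Prop} (hp : ∀ s ∈ S, ∀ x, p x → p (s x)) {z : G8 F} (hz : z ∈ X) (hz1 : z ≠ 1)
    (h0 : ∀ x ∈ X, p x → ∀ s ∈ S, s z ∈ Cm (s x)) : ∀ y ∈ X, ∀ x ∈ X, p x → ∀ s ∈ S, s y ∈ Cm (s x) := by
  let Y : Subgroup (G8 F) := X ⊓ ⨅ x ∈ X, ⨅ _ : p x, ⨅ s ∈ S, (Cm (s x)).comap s.toMonoidHom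
  have hY : ∀ y, y ∈ Y ↔ y ∈ X ∧ ∀ x ∈ X, p x → ∀ s ∈ S, s y ∈ Cm (s x) := fun y => by
    simp only [Y, Subgroup.mem_inf, Subgroup.mem_iInf, Subgroup.mem_comap]
    rfl
  rcases h.min Y inf_le_left (fun t ht y hy => (hY _).2 ⟨h.inv t ht y ((hY y).1 hy).1, fun x hx hpx s hs => by
    have h1 := ((hY y).1 hy).2 (t⁻¹ x) (h.inv _ (inv_mem ht) x hx) (hp _ (inv_mem ht) x hpx) (s * t) (mul_mem hs ht)
    simpa using h1⟩) with h1 | h1
  · have h2 := (hY z).2 ⟨hz, h0⟩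
    rw [h1, Subgroup.mem_bot] at h2
    exact (hz1 h2).elim
  · exact fun y hy => ((hY y).1 (h1 ▸ hy)).2

variable {J : E8 F} (hJ : (J : G8 F) ∈ X) (hN : Ng J)
include hJ hN

theorem not_zt : ¬ Zt S (J : G8 F) := fun h1 => not_neg h.two_ne hN (sq_mk.1 (h1 1 (one_mem _)))

theorem cm_of_not_zt {x y : G8 F} (hx : x ∈ X) (hy : y ∈ X) (hx' : ¬ Zt S x) (hy' : ¬ Zt S y) : y ∈ Cm x := by
  rintro a a' rfl rfl
  obtain ⟨b, c, ht⟩ := exists_T3 a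
  obtain ⟨b', c', ht'⟩ := exists_T3 a'
  obtain ⟨M, hM⟩ := h.sym1
  obtain ⟨N, hN'⟩ := h.sym2
  have k : ∀ (M : Gam (Q8 F)) (b : E8 F), ((conjE (Q8 F) M b : E8 F) : G8 F) ∈ X → Pc b (conjE (Q8 F) M⁻¹ J) :=
    fun M b hb => by
      have h1 := (h.pc hb hJ).conj M⁻¹
      rwa [conjE_inv_conjE] at h1
  exact comm_of_types h.two_ne ht ht' (h.types ht hx hx') (h.types ht' hy hy') (h.pc hx hy) (hN.conj M⁻¹)
    (k M b ((hM _ _ _ ht).1 hx)) (k M b' ((hM _ _ _ ht').1 hy)) (hN.conj N⁻¹) (k N c ((hN' _ _ _ ht).1 hx))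
    (k N c' ((hN' _ _ _ ht').1 hy))

theorem cm_all {x y : G8 F} (hx : x ∈ X) (hy : y ∈ X) : y ∈ Cm x := by
  have h0 : (J : G8 F) ≠ 1 := fun h1 => hN.nsc h.two_ne (mk_eq_one_iff.1 h1)
  have h1 := h.cm_of_inv (p := fun x => ¬ Zt S x) (fun s hs x hx h1 => hx (h1.of_map hs)) hJ h0
    fun x hx hz s hs => h.cm_of_not_zt hJ hN (h.inv s hs x hx) (h.inv s hs _ hJ) (fun h1 => hz (h1.of_map hs))
      fun h1 => h.not_zt hJ hN (h1.of_map hs)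
  exact h.cm_of_inv (p := fun _ => True) (fun _ _ _ _ => trivial) hJ h0
    (fun x hx _ s hs => Cm_symm (h1 x hx _ hJ (h.not_zt hJ hN) s hs)) y hy x hx trivial 1 (one_mem _)

theorem comm_two {a b : E8 F} (ha : (a : G8 F) ∈ X) (hb : (b : G8 F) ∈ X) : a * b = b * a :=
  h.cm_all hJ hN ha hb a b rfl rfl

theorem zt_triv {y : G8 F} (hy : y ∈ X) (hz : Zt S y) : y = 1 := by
  let Z : Subgroup (G8 F) :=
    { carrier := {y | y ∈ X ∧ Zt S y}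
      one_mem' := ⟨one_mem _, fun s _ => by rw [map_one]; exact (sq_mk (a := 1)).2 (one_mul 1)⟩
      mul_mem' := fun {u v} hu hv => ⟨mul_mem hu.1 hv.1, fun s hs => by
        obtain ⟨a, ha⟩ := QuotientGroup.mk_surjective (s u)
        obtain ⟨b, hb⟩ := QuotientGroup.mk_surjective (s v)
        have h1 := h.comm_two hJ hN (ha ▸ h.inv s hs u hu.1) (hb ▸ h.inv s hs v hv.1)
        rw [map_mul, ← ha, ← hb, ← QuotientGroup.mk_mul, sq_mk, mul_assoc, ← mul_assoc b, ← h1, mul_assoc,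
          hv.2 s hs b hb, mul_one, hu.2 s hs a ha]⟩
      inv_mem' := fun {u} hu => ⟨inv_mem hu.1, fun s hs a ha => by
        have h1 := hu.2 s hs a⁻¹ (by rw [QuotientGroup.mk_inv, ha, map_inv, inv_inv])
        rwa [← mul_inv_rev, inv_eq_one] at h1⟩ }
  rcases h.min Z (fun _ hu => hu.1) (fun s hs u hu => ⟨h.inv s hs u hu.1, hu.2.map hs⟩) with h1 | h1
  · have h2 : y ∈ Z := ⟨hy, hz⟩
    rwa [h1, Subgroup.mem_bot] at h2
  · have h2 : (J : G8 F) ∈ Z := h1 ▸ hJ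
    exact (h.not_zt hJ hN h2.2).elim

theorem exists_invol : ∃ a b c : E8 F, T3 a b c ∧ (a : G8 F) ∈ X ∧ a * a = 1 ∧ Ng b := by
  have k : ∀ a : E8 F, (a : G8 F) ∈ X → ¬ Zt S (a : G8 F) → a * a = 1 →
      ∃ a b c : E8 F, T3 a b c ∧ (a : G8 F) ∈ X ∧ a * a = 1 ∧ Ng b := fun a ha hz h1 => by
    obtain ⟨b, c, ht⟩ := exists_T3 a
    rcases h.types ht ha hz with h2 | h2 | h2
    · exact ⟨a, b, c, ht, ha, h1, h2.2.1⟩
    · exact (not_neg h.two_ne h2.1 h1).elim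
    · exact (not_neg h.two_ne h2.1 h1).elim
  obtain ⟨b, c, ht⟩ := exists_T3 J
  rcases h.types ht hJ (h.not_zt hJ hN) with h2 | h2 | h2
  · exact (not_neg h.two_ne hN h2.1).elim
  · obtain ⟨α, hα, M, hM⟩ := h.t1
    exact k _ (hM _ _ _ ht ▸ h.inv α hα _ hJ) (fun h1 => h.not_zt hJ hN (Zt.of_map hα (hM _ _ _ ht ▸ h1)))
      (conjE_sq.2 h2.2.1)
  · obtain ⟨α, hα, M, hM⟩ := h.t2
    exact k _ (hM _ _ _ ht ▸ h.inv α hα _ hJ) (fun h1 => h.not_zt hJ hN (Zt.of_map hα (hM _ _ _ ht ▸ h1)))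
      (conjE_sq.2 h2.2.2)

theorem invol_cases {a b c : E8 F} (ht : T3 a b c) (ha : (a : G8 F) ∈ X) (ha1 : a * a = 1) (hb : Ng b) {y : E8 F}
    (hy : (y : G8 F) ∈ X) (hy1 : y * y = 1) : (∃ d, Sc y d) ∨ ∃ d, Sc (y * a) d := by
  by_cases hz : Zt S (y : G8 F)
  · exact Or.inl (mk_eq_one_iff.1 (h.zt_triv hJ hN hy hz))
  obtain ⟨y₁, y₂, hty⟩ := exists_T3 y
  have h1 : Ng y₁ := by
    rcases h.types hty hy hz with h2 | h2 | h2
    · exact h2.2.1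
    · exact (not_neg h.two_ne h2.1 hy1).elim
    · exact h2.2.1
  obtain ⟨M, hM⟩ := h.sym1
  have h2 := h.comm_two hJ hN ((hM _ _ _ hty).1 hy) ((hM _ _ _ ht).1 ha)
  rw [← map_mul, ← map_mul] at h2
  have h3 := h1.mul hb ((conjE (Q8 F) M).injective h2)
  have h4 : y * a * (y * a) = 1 := by
    rw [mul_assoc, ← mul_assoc a, ← h.comm_two hJ hN hy ha, mul_assoc, ha1, mul_one, hy1]
  exact Or.inr (mk_eq_one_iff.1 (h.zt_triv hJ hN (mul_mem hy ha)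
    ((h.zt_iff (hty.mul ht)).2 ⟨h4, h3, (hty.mul ht).sq_third h4 h3⟩)))

end Cy

namespace Rb

open RB hiding Eg mem_Eg exists_eig

variable {S : Subgroup (MulAut (G8 F))} {X : Subgroup (G8 F)}

section

variable (h : Cy S X 2) (hx : ∀ a : E8 F, (a : G8 F) ∈ X → a * a = 1)
include h hx

omit hx in
theorem two_ne : (2 : F) ≠ 0 := by simpa using h.char

theorem mem_Bl2 {θ : Y2 X → F} {v : V8 F} : v ∈ Bl (Y2 X) θ ↔ ∀ a : Y2 X, a.1 v = (θ a / 2) • v := by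
  have h2 := two_ne h
  rw [mem_Bl]
  refine forall_congr' fun a => ?_
  rw [Y2_inv hx a.2, ← two_smul F]
  constructor
  · intro h1
    rw [div_eq_inv_mul, mul_smul, ← h1, smul_smul, inv_mul_cancel₀ h2, one_smul]
  · intro h1
    rw [h1, smul_smul, mul_div_cancel₀ _ h2]

theorem dec2 : Dec (Q8 F) (Bl (Y2 X)) := by
  have : Finite (Y2 X) :=
    Finite.of_injective (fun a : Y2 X => (a.1 : V8 F → V8 F)) fun _ _ h => Subtype.ext (DFunLike.coe_injective h)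
  refine dec_Bl ?_ (Y2_comm hx) fun g hg => ?_
  · rintro _ ⟨a, -, rfl⟩
    exact E_le_O a.2
  · have h1 : sym g = (2 : F) • g.toLinearMap := by rw [sym, Y2_inv hx hg, two_smul]
    have h3 : g.toLinearMap * g.toLinearMap = 1 := by
      obtain ⟨a, ha, rfl⟩ := hg
      exact LinearMap.ext (aa (hx a ha))
    obtain ⟨k, hk⟩ : Odd (Fintype.card F) := by
      rw [← Nat.not_even_iff_odd]
      intro he
      have h4 : ringChar F = 2 := FiniteField.even_card_iff_char_two.2 (Nat.even_iff.1 he)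
      exact two_ne h (by simpa using (ringChar.spec F 2).2 (h4 ▸ dvd_rfl))
    rw [h1, smul_pow, FiniteField.pow_card, hk, pow_succ, pow_mul, pow_two, h3, one_pow, one_mul]

omit hx in
theorem prm2 : Prm (LL S) (Bl (Y2 X)) := prm_Bl (by
  rintro M hM _ ⟨a, ha, rfl⟩
  exact ⟨conjE (Q8 F) M a, h.conjE_mem hM ha, rfl⟩)

theorem eig2 {θ : Y2 X → F} {v : V8 F} (hv : v ∈ Bl (Y2 X) θ) {a : E8 F} (ha : (a : G8 F) ∈ X) :
    a.1 v = (θ ⟨a.1, a, ha, rfl⟩ / 2) • v := (mem_Bl2 h hx).1 hv ⟨a.1, a, ha, rfl⟩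

theorem eig2' {θ : Y2 X → F} {v : V8 F} (hv : v ∈ Bl (Y2 X) θ) (hv0 : v ≠ 0) {a : E8 F} (ha : (a : G8 F) ∈ X) :
    θ ⟨a.1, a, ha, rfl⟩ / 2 * (θ ⟨a.1, a, ha, rfl⟩ / 2) = 1 := by
  have h1 := aa (hx a ha) v
  rw [eig2 h hx hv ha, map_smul, eig2 h hx hv ha, smul_smul] at h1
  exact smul_left_injective F hv0 (h1.trans (one_smul F v).symm)

theorem rank_le {θ θ' : Y2 X → F} (h0 : Bl (Y2 X) θ ≠ ⊥) (h0' : Bl (Y2 X) θ' ≠ ⊥) :
    finrank F (Bl (Y2 X) θ) ≤ finrank F (Bl (Y2 X) θ') := by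
  obtain ⟨z, hz, hz'⟩ := ((dec2 h hx).nd nondeg8' θ).exists_nonsing h0
  obtain ⟨w, hw, hw'⟩ := ((dec2 h hx).nd nondeg8' θ').exists_nonsing h0'
  obtain ⟨M, hM⟩ := h.sym1
  let ι := {a : E8 F // (a : G8 F) ∈ X}
  choose b c ht using fun a : ι => exists_T3 a.1
  have hy : ∀ a : ι, ∃ y : F, (b a).1 (M⁻¹.1 z) = y • M⁻¹.1 z := fun a => by
    have h1 := conjE_eig (M := M⁻¹) (eig2 h hx hz ((hM _ _ _ (ht a)).1 a.2))
    rwa [conjE_inv_conjE] at h1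
  choose y hy using hy
  refine eq_le ht hz' hw' (Q_ne M⁻¹ hz') (fun a => eig2 h hx hz a.2) (fun a => eig2 h hx hw a.2) hy
    (fun v hv a => eig2 h hx hv a.2) fun v hv => (mem_Bl2 h hx).2 ?_
  rintro ⟨_, a, ha, rfl⟩
  exact hv ⟨a, ha⟩

theorem ts2 {a : E8 F} (ha : (a : G8 F) ∈ X) (hn : ∀ e, ¬ Sc a e) {e : F} (he : e * e = 1) :
    finrank F (Eg a e) = 4 ∧ HasTS (Q8 F) (Eg a e) := by
  obtain ⟨b, c, ht⟩ := exists_T3 a
  obtain ⟨M, hM⟩ := h.sym1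
  obtain ⟨N, hN⟩ := h.sym2
  have hb : b * b = 1 := (conjE (Q8 F) M).injective (by rw [map_mul, map_one]; exact hx _ ((hM a b c ht).1 ha))
  have hc : c * c = 1 := (conjE (Q8 F) N).injective (by rw [map_mul, map_one]; exact hx _ ((hN a b c ht).1 ha))
  exact ⟨four_Eg (two_ne h) ht (hx a ha) hb hn he, hasTS_Eg (two_ne h) ht (hx a ha) hb hc hn he⟩

omit hx in
theorem exists_nonsc : ∃ a : E8 F, (a : G8 F) ∈ X ∧ ∀ e, ¬ Sc a e := by
  obtain ⟨⟨x, hx⟩, hx1⟩ := Subgroup.ne_bot_iff_exists_ne_one.1 h.ne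
  obtain ⟨a, rfl⟩ := QuotientGroup.mk_surjective x
  exact ⟨a, hx, fun e he => hx1 (Subtype.ext (mk_eq_one_iff.2 ⟨e, he⟩))⟩

/-- a block of dimension four is an eigenspace -/
theorem ts_block {θ : Y2 X → F} (h4 : finrank F (Bl (Y2 X) θ) = 4) : HasTS (Q8 F) (Bl (Y2 X) θ) := by
  obtain ⟨a, ha, hn⟩ := exists_nonsc h
  obtain ⟨v, hv, hv0⟩ := G.exists_ne_zero (W := Bl (Y2 X) θ) (by omega)
  obtain ⟨h1, h2⟩ := ts2 h hx ha hn (eig2' h hx hv hv0 ha)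
  rwa [← Submodule.eq_of_le_of_finrank_eq (fun w hw => mem_Eg.2 (eig2 h hx hw ha)) (h4.trans h1.symm)] at h2

theorem block_le {θ : Y2 X → F} (h0 : Bl (Y2 X) θ ≠ ⊥) : finrank F (Bl (Y2 X) θ) ≤ 4 := by
  obtain ⟨a, ha, hn⟩ := exists_nonsc h
  obtain ⟨v, hv, hv0⟩ := (Submodule.ne_bot_iff _).1 h0
  exact (Submodule.finrank_mono fun w hw => mem_Eg.2 (eig2 h hx hw ha)).trans
    (ts2 h hx ha hn (eig2' h hx hv hv0 ha)).1.le

theorem exists_blocks : ∃ (n d : ℕ) (f : Fin (n + 1) → (Y2 X → F)), (n + 1) * d = 8 ∧ d ≤ 4 ∧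
    (∀ k, finrank F (Bl (Y2 X) (f k)) = d) ∧ Dec (Q8 F) (Bl (Y2 X) ∘ f) ∧ Prm (LL S) (Bl (Y2 X) ∘ f) := by
  classical
  have : Finite (Y2 X) :=
    Finite.of_injective (fun a : Y2 X => (a.1 : V8 F → V8 F)) fun _ _ h => Subtype.ext (DFunLike.coe_injective h)
  have := Fintype.ofFinite (Y2 X → F)
  set s : Finset (Y2 X → F) := Finset.univ.filter fun θ => Bl (Y2 X) θ ≠ ⊥ with hs
  have hm : ∀ θ, θ ∈ s ↔ Bl (Y2 X) θ ≠ ⊥ := fun θ => by simp [hs]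
  obtain ⟨θ, hθ⟩ : ∃ θ, Bl (Y2 X) θ ≠ ⊥ := by
    by_contra hc
    push Not at hc
    have h1 := (dec2 h hx).sum_finrank nondeg8'
    rw [Finset.sum_eq_zero fun θ _ => by rw [hc θ, finrank_bot], finrank8] at h1
    omega
  obtain ⟨n, hn⟩ : ∃ n, s.card = n + 1 := Nat.exists_eq_succ_of_ne_zero (Finset.card_ne_zero.2 ⟨θ, (hm θ).2 hθ⟩)
  obtain ⟨f, f1, f2, f3, -⟩ := exists_enum s hn ((hm θ).2 hθ)
  have hd : ∀ k, finrank F (Bl (Y2 X) (f k)) = finrank F (Bl (Y2 X) θ) := fun k =>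
    le_antisymm (rank_le h hx ((hm _).1 (f2 k)) hθ) (rank_le h hx hθ ((hm _).1 (f2 k)))
  have hD := (dec2 h hx).reindex f f1 fun i hi => f3 i ((hm i).2 hi)
  refine ⟨n, _, f, ?_, block_le h hx hθ, hd, hD, (prm2 h).reindex f fun i hi => f3 i ((hm i).2 hi)⟩
  have h1 := hD.sum_finrank nondeg8'
  have h2 : ∑ i, finrank F ((Bl (Y2 X) ∘ f) i) = ∑ _i : Fin (n + 1), finrank F (Bl (Y2 X) θ) :=
    Finset.sum_congr rfl fun k _ => hd k
  rw [finrank8, h2] at h1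
  simpa using h1

omit hx in
theorem three_le : 3 ≤ Nat.card F := by
  by_contra hc
  have h1 : (Nat.card F : F) = 0 := by rw [Nat.card_eq_fintype_card]; exact FiniteField.cast_card_eq_zero F
  have h4 : 1 < Nat.card F := Finite.one_lt_card
  rw [show Nat.card F = 2 by omega] at h1
  exact h.char h1

end

end Rb

end Cfsg.Agent.N2C.D4
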