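import Cfsg.Agent.N2.Cl.Defs
import Cfsg.Agent.SB.D4.RA1
import Cfsg.Agent.SB.D4.Odd

/-!
# N2 (S3519), `PΩ₈⁺(q)` with triality: interface (helper61)

`T3 a b c` means `a (x · y) = b x · c y` for the para-octonion product `pm`.  See `notes/N2/d4.md`.
-/

set_option autoImplicit false
set_option linter.unusedSectionVars false

namespace Cfsg.Agent.N2C.D4

open QuadraticMap Module Cfsg.Agent.LieClassical.QuadForms Cfsg.Agent.LieClassical.OrthCore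
  Cfsg.Agent.LieClassical.OrthTrans Cfsg.Agent.ClassicalGeometry.OrthSemi Cfsg.Agent.ClassicalGeometry.OrthAut1
  Cfsg.Agent.ClassicalGeometry.TrialityOct Cfsg.Agent.ClassicalGeometry.Triality
  Cfsg.Agent.H989.OutOrth.Basic Cfsg.Agent.H989.OutOrth.Tri Cfsg.Agent.SB.D4
open Cfsg.Agent.FP3 (MI)
open Cfsg.Agent.N2 (Cf)

section defs

variable {F : Type} [Field F]

/-- `a` maps `U` into `W` -/
def Kp (a : E8 F) (U W : Submodule F (V8 F)) : Prop := ∀ v ∈ U, a.1 v ∈ W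

/-- `a` preserves the pair `U`, `U^⊥` -/
def St2 (a : E8 F) (U : Submodule F (V8 F)) : Prop := Kp a U U ∨ Kp a U (prp (Q8 F) U)

/-- `a` fixes the point -/
def Fp (a : E8 F) (v : V8 F) : Prop := ∃ c : F, a.1 v = c • v

/-- prime order `r`, the order of `q` modulo `r` is divisible by three -/
def Rp (a : E8 F) : Prop := a ≠ 1 ∧ ∃ r : ℕ, r.Prime ∧ (r : F) ≠ 0 ∧ 3 ∣ orderOf (Nat.card F : ZMod r) ∧ a ^ r = 1

/-- elements with at most one invariant plane -/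
def Rg (a : E8 F) : Prop := Rp a ∨ (Nat.card F = 2 ∧ a ^ 9 = 1 ∧ a ^ 3 ≠ 1)

/-- quadratic elements -/
def Qd (a : E8 F) : Prop := ∃ t d : F, ∀ x, a.1 (a.1 x) = t • a.1 x - d • x

/-- a group of `2 × 2` matrices -/
def Q2 (S : Subgroup (E8 F)) : Prop := (∀ a ∈ S, Qd a) ∧
  ∀ a ∈ S, (¬ ∃ d, Sc a d) → ∀ b ∈ S, ∀ c ∈ S, a * b = b * a → a * c = c * a → b * c = c * b

/-- absolutely irreducible -/
def Spn (L : Subgroup (E8 F)) : Prop := Submodule.span F ((fun a : E8 F => a.1.toLinearMap) '' L) = ⊤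

/-- triples in the Lie algebra -/
def Li (f g h : Module.End F (V8 F)) : Prop := ∀ x y, f (pm x y) = pm (g x) y + pm x (h y)

/-- the perfect lift -/
def lf (N : Subgroup (G8 F)) : Subgroup (E8 F) := ⁅N.comap (QuotientGroup.mk' _), N.comap (QuotientGroup.mk' _)⁆

/-- invariant subspaces -/
def Iv (L : Subgroup (E8 F)) (U : Submodule F (V8 F)) : Prop := ∀ a ∈ L, Kp a U U

def NoFix (L : Subgroup (E8 F)) : Prop := ∀ v, (∀ a ∈ L, a.1 v = v) → v = 0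

/-- all invariant subspaces are non-degenerate and not small -/
def Rd (L : Subgroup (E8 F)) : Prop := ∀ U, Iv L U → Nd (Q8 F) U ∧ finrank F U ≠ 1 ∧ finrank F U ≠ 2

/-- no inner-diagonal automorphism centralises `L` -/
def C0 (L : Subgroup (E8 F)) : Prop := ∀ a b c : GL8 F, Tr a b c → (∃ m : F, ∀ x, Q8 F (a x) = m * Q8 F x) →
  (∀ l ∈ L, ∀ x, a (l.1 x) = l.1 (a x)) → ∃ e : F, ∀ x, a x = e • x

/-- the fixed points of an automorphism -/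
def fxs (φ : MulAut (G8 F)) : Subgroup (G8 F) := φ.toMonoidHom.eqLocus (MonoidHom.id _)

theorem mem_fxs {φ : MulAut (G8 F)} {g : G8 F} : g ∈ fxs φ ↔ φ g = g := Iff.rfl

/-- a non-trivial semilinear automorphism centralises `N` -/
def HasC (N : Subgroup (G8 F)) : Prop := ∃ M : Gam (Q8 F), Psi (Q8 F) M ≠ 1 ∧ ∀ n ∈ N, Psi (Q8 F) M n = n

variable [Fintype F]

/-- `Γ` involves triality, parabolic subgroups are excluded -/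
structure Cx (A : Subgroup (G8 F)) (Γ : Subgroup (MulAut (G8 F))) (M₁ M₂ : Gam (Q8 F)) : Prop where
  mi : MI A Γ
  e1 : ∃ α ∈ Γ, Ty1 α M₁
  e2 : ∃ β ∈ Γ, Ty2 β M₂
  np : ∀ P ≤ A, (∀ a ∈ A, ∀ x ∈ P, a * x * a⁻¹ ∈ P) → IsPGroup (ringChar F) P → P = ⊥

/-- the non-local case: `N` is the product of the simple groups in `𝓣` -/
structure Cb (A : Subgroup (G8 F)) (Γ : Subgroup (MulAut (G8 F))) (M₁ M₂ : Gam (Q8 F)) (N : Subgroup (G8 F))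
    (𝓣 : Set (Subgroup (G8 F))) : Prop extends Cx A Γ M₁ M₂ where
  inv : N2.Inv Γ N
  le : N ≤ A
  ne : N ≠ ⊥
  cen : ∀ g, (∀ n ∈ N, n * g = g * n) → g = 1
  sup : sSup 𝓣 = N
  simple : ∀ S ∈ 𝓣, IsSimpleGroup S ∧ ¬ IsMulCommutative S
  comm : ∀ S ∈ 𝓣, ∀ S' ∈ 𝓣, S ≠ S' → ∀ x ∈ S, ∀ y ∈ S', x * y = y * x
  perm : ∀ σ ∈ Γ, ∀ S ∈ 𝓣, S.map σ.toMonoidHom ∈ 𝓣

end defs

/-! ### boxes without context -/

/-- [G44] `O₄⁺ ≀ S₂` -/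
def BoxG44 : Prop := ∀ (F : Type) [Field F] [Fintype F] (A : Subgroup (G8 F)) (U : Submodule F (V8 F)),
  finrank F U = 4 → Nd (Q8 F) U → HasTS (Q8 F) U → HasTS (Q8 F) (prp (Q8 F) U) →
  (∀ a : E8 F, (a : G8 F) ∈ A ↔ St2 a U) → FP3.Good A

/-- [T44] gradings -/
def BoxT44 : Prop := ∀ (F : Type) [Field F] [Fintype F] (C₁ C₂ C₃ : Submodule F (V8 F)),
  finrank F C₁ = 4 → finrank F C₂ = 4 → finrank F C₃ = 4 → Nd (Q8 F) C₁ → Nd (Q8 F) C₂ → Nd (Q8 F) C₃ →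
  (∀ x ∈ C₂, ∀ y ∈ C₃, pm x y ∈ C₁) → HasTS (Q8 F) C₁ ∧ HasTS (Q8 F) (prp (Q8 F) C₁) ∧
    ∀ a b c : E8 F, T3 a b c → St2 a C₁ → St2 b C₂ ∧ St2 c C₃

/-- [Sg] the partners of two opposite long root elements -/
def BoxSg : Prop := ∀ (F : Type) [Field F] [Fintype F] (e e' f f' : V8 F) (he : Q8 F e = 0) (hf : Q8 F f = 0)
  (h₁ : polar (Q8 F) e e' = 0) (h₂ : polar (Q8 F) f f' = 0) (b c b' c' : E8 F) (C₂ C₃ : Submodule F (V8 F)),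
  Q8 F e' = 0 → Q8 F f' = 0 →
  polar (Q8 F) e f * polar (Q8 F) e' f' - polar (Q8 F) e f' * polar (Q8 F) e' f ≠ 0 →
  T3 ⟨siegel (Q8 F) e e' he h₁, siegel_mem_E he h₁⟩ b c → T3 ⟨siegel (Q8 F) f f' hf h₂, siegel_mem_E hf h₂⟩ b' c' →
  finrank F C₂ = 4 → finrank F C₃ = 4 → Nd (Q8 F) C₂ → Nd (Q8 F) C₃ → Kp b C₂ C₂ → Kp b' C₂ C₂ → Kp c C₃ C₃ →
  Kp c' C₃ C₃ → ∃ D₂ D₃, (D₂ = C₂ ∨ D₂ = prp (Q8 F) C₂) ∧ (D₃ = C₃ ∨ D₃ = prp (Q8 F) C₃) ∧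
    ∀ x ∈ D₂, ∀ y ∈ D₃, pm x y ∈ prp (Q8 F) (Submodule.span F {e, e', f, f'})

/-- [Ex3] a Singer element of `SL₃(q)` -/
def BoxEx3 : Prop := ∀ (F : Type) [Field F] [Fintype F] (e f y : V8 F), Q8 F e = 0 → Q8 F f = 0 →
  polar (Q8 F) e f ≠ 0 → Q8 F y ≠ 0 →
  ∃ a b c : E8 F, T3 a b c ∧ Rp a ∧ Rp b ∧ Rp c ∧ b.1 e = e ∧ b.1 f = f ∧ c.1 y = y

/-- [Ex6] a Singer element of `GL₃(q)` or `GU₃(q)` -/
def BoxEx6 : Prop := ∀ (F : Type) [Field F] [Fintype F] (W : Submodule F (V8 F)) (J : GL8 F) (t : F),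
  finrank F W = 6 → Nd (Q8 F) W → J ∈ O (Q8 F) → (∀ x ∈ W, J x ∈ W) → (∀ x ∈ W, J (J x) = t • J x - x) → t ^ 2 ≠ 4 →
  ∃ s : E8 F, Rg s ∧ (∀ v ∈ prp (Q8 F) W, s.1 v = v) ∧ ∀ w ∈ W, s.1 (J w) = J (s.1 w)

/-- [G2] `G₂(q)` -/
def BoxG2 : Prop := BoxEx3 → ∀ (F : Type) [Field F] [Fintype F] (A : Subgroup (G8 F)) (x y : V8 F), Q8 F x ≠ 0 →
  Q8 F y ≠ 0 → (∀ a b c : E8 F, T3 a b c → ((a : G8 F) ∈ A ↔ Fp b x ∧ Fp c y)) → FP3.Good A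

/-- [JE] -/
def BoxJE : Prop := ∀ (F : Type) [Field F] [Fintype F] (J : GL8 F), (2 : F) ≠ 0 → J ∈ O (Q8 F) →
  (∀ x, J (J x) = -x) → J ∈ E (Q8 F)

/-- [P2] isometries of planes -/
def BoxP2 : Prop := ∀ (F : Type) [Field F] [Fintype F] (P : Submodule F (V8 F)), finrank F P = 2 → Nd (Q8 F) P →
  (∀ g h : GL8 F, g ∈ O (Q8 F) → h ∈ O (Q8 F) → Odd (orderOf g) → Odd (orderOf h) → (∀ x ∈ P, g x ∈ P) →
    (∀ x ∈ P, h x ∈ P) → ∀ x ∈ P, g (h x) = h (g x)) ∧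
  ∀ L : Subgroup (E8 F), ⁅L, L⁆ = L → Iv L P → ∀ a ∈ L, ∀ x ∈ P, a.1 x = x

/-- [P2K] planes over the quadratic extension -/
def BoxP2K : Prop := ∀ (F : Type) [Field F] [Fintype F] (W : Submodule F (V8 F)) (j : Module.End F (V8 F)) (t d : F)
  (L : Subgroup (E8 F)), finrank F W = 4 → Nd (Q8 F) W → (∀ x ∈ W, j x ∈ W) → (∀ x ∈ W, j (j x) = t • j x + d • x) →
  (∀ c : F, c * c ≠ t * c + d) → (∀ x ∈ W, ∀ y ∈ W, polar (Q8 F) (j x) y = polar (Q8 F) x (j y)) →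
  ((2 : F) = 0 → ∀ x ∈ W, polar (Q8 F) (j x) x = 0) → ⁅L, L⁆ = L → Iv L W →
  (∀ a ∈ L, ∀ x ∈ W, a.1 (j x) = j (a.1 x)) → ∀ a ∈ L, ∀ x ∈ W, a.1 x = x

/-- [GI2] four planes -/
def BoxGI2 : Prop := BoxJE → ∀ (F : Type) [Field F] [Fintype F] (A : Subgroup (G8 F)) (P : Fin 4 → Submodule F (V8 F)),
  Dec (Q8 F) P → (∀ i, finrank F (P i) = 2) →
  ((∀ i, Aniso (Q8 F) (P i)) ∨ (4 ≤ Nat.card F ∧ ∀ i, ¬ Aniso (Q8 F) (P i))) →
  (∀ a : E8 F, (a : G8 F) ∈ A ↔ ∀ i, ∃ j, Kp a (P i) (P j)) → FP3.Good A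

/-- [GN3] the torus `(q² + 1)²` -/
def BoxGN3 : Prop := ∀ (F : Type) [Field F] [Fintype F] (A : Subgroup (G8 F)) (W : Submodule F (V8 F)) (a₁ a₂ : E8 F)
  (r : ℕ), r.Prime → (r : F) ≠ 0 → orderOf (Nat.card F : ZMod r) = 4 → finrank F W = 4 → Nd (Q8 F) W → a₁ ≠ 1 →
  a₂ ≠ 1 → a₁ ^ r = 1 → a₂ ^ r = 1 → (∀ v ∈ prp (Q8 F) W, a₁.1 v = v) → (∀ v ∈ W, a₂.1 v = v) →
  A = Subgroup.normalizer (Subgroup.closure ({(a₁ : G8 F), (a₂ : G8 F)} : Set (G8 F)) : Set (G8 F)) → FP3.Good A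

/-- [GN4] eight lines and the Hamming code -/
def BoxGN4 : Prop := ∀ (F : Type) [Field F] [Fintype F] (A X : Subgroup (G8 F)) (e : Fin 8 → V8 F), (2 : F) ≠ 0 →
  Q8 F (e 0) ≠ 0 → (∀ i, Q8 F (e i) = Q8 F (e 0)) → (∀ i j, i ≠ j → polar (Q8 F) (e i) (e j) = 0) →
  (∀ a : E8 F, (a : G8 F) ∈ X → (∀ i, a.1 (e i) = e i ∨ a.1 (e i) = -e i) ∧ ((∃ d, Sc a d) ∨ finrank F (Eg a 1) = 4)) →
  (∀ i j, i ≠ j → ∃ a : E8 F, (a : G8 F) ∈ X ∧ ∃ c : F, a.1 (e i) = c • e i ∧ a.1 (e j) = -c • e j) →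
  A = Subgroup.normalizer (X : Set (G8 F)) → FP3.Good A

/-- [LQ] -/
def BoxLQ : Prop := ∀ (F : Type) [Field F] [Fintype F] (a b c : E8 F) (r : ℕ), r.Prime → Odd r → (r : F) ≠ 0 →
  T3 a b c → a ^ r = 1 → b ^ r = 1 → c ^ r = 1 → Qd a → Qd b → Qd c → a = 1

/-- [QA] tensor factors -/
def BoxQA : Prop := ∀ (F : Type) [Field F] [Fintype F] (S S' : Subgroup (E8 F)), (∀ a ∈ S, ∀ b ∈ S', a * b = b * a) →
  ¬ IsMulCommutative S → ¬ IsMulCommutative S' → Spn (S ⊔ S') → Q2 S ∨ Q2 S'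

/-- [Lie] local triality -/
def BoxLie : Prop := ∀ (F : Type) [Field F] [Fintype F],
  (∀ f : Module.End F (V8 F), (∀ x, polar (Q8 F) (f x) x = 0) → ∃ g h, Li f g h) ∧
  (∀ f g h g' h' : Module.End F (V8 F), Li f g h → Li f g' h' → ∃ l : F, g' = g + l • 1 ∧ h' = h - l • 1) ∧
  (∀ (f g h : Module.End F (V8 F)) (l : F), Li f g h → g = l • 1 ∨ h = l • 1 → ∃ m : F, f = m • 1) ∧
  ∀ f g h : Module.End F (V8 F), Li f g h → (∀ x, polar (Q8 F) (f x) x = 0) →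
    ∃ c : F, (∀ x, polar (Q8 F) (g x) x = c * Q8 F x) ∧ ∀ x, polar (Q8 F) (h x) x = -c * Q8 F x

/-- [Psi] a graph automorphism of order three inverted by an involution which centralises its fixed points -/
def BoxPsi : Prop := ∀ (F : Type) [Field F] [Fintype F] (x y : MulAut (G8 F)), x ^ 3 = 1 → x ∉ (Psi (Q8 F)).range →
  y ≠ 1 → y * x * y⁻¹ = x⁻¹ → (∀ g, x g = g → y g = g) →
  ∃ (β : MulAut (G8 F)) (v : V8 F), v ≠ 0 ∧ ∀ (g : G8 F) (a : E8 F), x g = g → β g = a → Fp a v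

/-- [SubW] subfield subgroups -/
def BoxSubW : Prop := ∀ (F : Type) [Field F] [Fintype F] (M : Gam (Q8 F)), (orderOf (Psi (Q8 F) M)).Prime →
  (¬ ∀ (c : F) (v : V8 F), M.1 (c • v) = c • M.1 v) → FP3.Good (fxs (Psi (Q8 F) M))

/-- the boxes without context -/
structure Lm : Prop where
  g44 : BoxG44
  t44 : BoxT44
  sg : BoxSg
  ex3 : BoxEx3
  ex6 : BoxEx6
  g2 : BoxG2
  je : BoxJE
  p2 : BoxP2
  p2k : BoxP2K
  gi2 : BoxGI2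
  gn3 : BoxGN3
  gn4 : BoxGN4
  lq : BoxLQ
  qa : BoxQA
  lie : BoxLie
  psi : BoxPsi
  subw : BoxSubW

/-! ### boxes with context -/

/-- [Sig] eight lines with different norms -/
def BoxSig : Prop := ∀ (F : Type) [Field F] [Fintype F] (A : Subgroup (G8 F)) (Γ : Subgroup (MulAut (G8 F)))
  (M₁ M₂ : Gam (Q8 F)) (e : Fin 8 → V8 F), Cx A Γ M₁ M₂ → (2 : F) ≠ 0 → (∀ i, Q8 F (e i) ≠ 0) →
  (∀ i j, i ≠ j → polar (Q8 F) (e i) (e j) = 0) → (∀ M ∈ LL Γ, ∀ i, ∃ (j : Fin 8) (c : F), M.1 (e i) = c • e j) →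
  (∀ i j, ∃ (k : Fin 8) (c : F), pm (M₁⁻¹.1 (e i)) (M₂⁻¹.1 (e j)) = c • e k) →
  (∃ i j, ¬ IsSquare (Q8 F (e i) * Q8 F (e j))) →
  ∃ z : E8 F, z * z = 1 ∧ finrank F (Eg z (-1)) = 4 ∧ ∀ σ ∈ Γ, σ (z : G8 F) = z

/-- a statement about the non-local case -/
def OnB (X : ∀ (F : Type) [Field F], Subgroup (G8 F) → Subgroup (G8 F) → Prop) : Prop :=
  ∀ (F : Type) [Field F] [Fintype F] (A : Subgroup (G8 F)) (Γ : Subgroup (MulAut (G8 F))) (M₁ M₂ : Gam (Q8 F))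
    (N : Subgroup (G8 F)) (𝓣 : Set (Subgroup (G8 F))), Cb A Γ M₁ M₂ N 𝓣 → X F A N

/-- [Loc] the local case -/
def BoxLoc : Prop := Lm → BoxSig → ∀ (F : Type) [Field F] [Fintype F] (A : Subgroup (G8 F))
  (Γ : Subgroup (MulAut (G8 F))) (M₁ M₂ : Gam (Q8 F)) (X : Subgroup (G8 F)), Cx A Γ M₁ M₂ → X ≠ ⊥ → N2.Inv Γ X →
  (∀ x ∈ X, ∀ y ∈ X, x * y = y * x) → FP3.Good A

/-- [Fix] -/
def BoxFix : Prop := Lm → OnB fun _ _ A N => ¬ NoFix (lf N) → FP3.Good A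
/-- [Irr] -/
def BoxIrr : Prop := Lm → OnB fun _ _ _ N => NoFix (lf N) → Rd (lf N)
/-- [35] -/
def Box35 : Prop := Lm → OnB fun F _ _ N => Rd (lf N) → ∀ U, Iv (lf N) U → finrank F U = 3 → C0 (lf N) ∧ HasC N
/-- [44] -/
def Box44 : Prop := Lm → OnB fun F _ A N => NoFix (lf N) → Rd (lf N) → ∀ U, Iv (lf N) U → finrank F U = 4 → FP3.Good A
/-- [K] -/
def BoxK : Prop := Lm → OnB fun _ _ _ N => (∀ U, Iv (lf N) U → U = ⊥ ∨ U = ⊤) → Spn (lf N)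
/-- [Q] -/
def BoxQ : Prop := Lm → OnB fun _ _ _ N => Spn (lf N) → IsSimpleGroup N
/-- [Cen] -/
def BoxCen : Prop := Lm → OnB fun _ _ A N => NoFix (lf N) → C0 (lf N) → HasC N → FP3.Good A

section ring

open Cfsg.Agent.DS.Cl Cfsg.Agent.DS.Cl.Fwd

/-- `Ctx` without maximality -/
structure Cw {A : Type} [Ring A] [StarRing A] (F : FR A) (H : Subgroup (RingAut A)) (p : ℕ) : Prop where
  cf : Cf
  ss : SS A
  span : F.Span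
  simple : IsSimpleGroup F.S
  noncomm : ¬ IsMulCommutative F.S
  le : H ≤ F.Aut
  prime : p.Prime
  char : (p : A) = 0
  not_le : ¬ F.S ≤ H

/-- [WRes] class S without maximality -/
def WRes : Prop := ∀ (K V : Type) [Field K] [Fintype K] [AddCommGroup V] [Module K V] [Finite V] (h : HF K V)
  (F : FR h.EB) (Q : QuadraticForm K V) (H N : Subgroup (RingAut h.EB)) (p : ℕ), TH.Cl.KO h F Q → Cw F H p →
  Res F H N → Gd F H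

end ring

/-- [Res] -/
def BoxRes : Prop := Cf → WRes → OnB fun _ _ A N => Spn (lf N) → IsSimpleGroup N → FP3.Good A ∨ HasC N

/-- the boxes with context -/
structure Bx : Prop where
  sig : BoxSig
  loc : BoxLoc
  fix : BoxFix
  irr : BoxIrr
  b35 : Box35
  b44 : Box44
  k : BoxK
  q : BoxQ
  cen : BoxCen
  res : BoxRes

end Cfsg.Agent.N2C.D4
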