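import Mathlib

/-!
# N2 (S3519), `PΩ₈⁺(q)`, box GN4: counting and the Hamming code (helper14)

* `card_sol_le`, `card_sol_three` : the vectors `f` with `B(f, aᵏ f) = 2 c δ` for the seven-cycle `a`;
* `exists_ham` : a binary code of length eight with weights `0, 4, 8` which separates the coordinates;
* `num` : the numerical inequality.
-/

set_option autoImplicit false

namespace Cfsg.Agent.N2C.D4.GN4

open Module

/-! ### the equations -/

/-- the four equations -/
def Eqs {R : Type} [CommRing R] (a b c d e f g h : R) : Prop :=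
  a * a + b * b + c * c + d * d + e * e + f * f + g * g + h * h = 1 ∧
  a * a + b * c + c * d + d * e + e * f + f * g + g * h + h * b = 0 ∧
  a * a + b * d + c * e + d * f + e * g + f * h + g * b + h * c = 0 ∧
  a * a + b * e + c * f + d * g + e * h + f * b + g * c + h * d = 0

/-- the solutions -/
def Sol (R : Type) [CommRing R] : Type := {x : Fin 8 → R // Eqs (x 0) (x 1) (x 2) (x 3) (x 4) (x 5) (x 6) (x 7)}

theorem exists_sgn (F : Type) [Field F] [Fintype F] : ∃ s : F → Bool, ∀ t u, t * t = u * u → s t = s u → t = u := by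
  refine ⟨fun t => decide (Fintype.equivFin F t < Fintype.equivFin F (-t)), fun t u h k => ?_⟩
  rcases mul_self_eq_mul_self_iff.1 h with h | h
  · exact h
  · subst h
    simp only [neg_neg, decide_eq_decide] at k
    exact (Fintype.equivFin F).injective (le_antisymm (not_lt.1 fun e => lt_asymm e (k.2 e))
      (not_lt.1 fun e => lt_asymm e (k.1 e)))

theorem Eqs.sq {R : Type} [CommRing R] {a b c d e f g h : R} (k : Eqs a b c d e f g h) :
    (b + c + d + e + f + g + h) * (b + c + d + e + f + g + h) = 1 - 7 * (a * a) := by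
  obtain ⟨h0, h1, h2, h3⟩ := k
  linear_combination h0 + 2 * h1 + 2 * h2 + 2 * h3

theorem card_sol_le (F : Type) [Field F] [Fintype F] (h2 : (2 : F) ≠ 0) :
    Nat.card (Sol F) ≤ 2 * Fintype.card F ^ 6 + 4 * Fintype.card F ^ 4 := by
  classical
  obtain ⟨s, hs⟩ := exists_sgn F
  let φ : Sol F → ((F × F × F × F × F × F) × Bool) ⊕ ((F × F × F × F) × Bool × Bool) := fun x =>
    if x.1 4 = x.1 6 ∧ x.1 3 = x.1 7 then
      .inr ((x.1 0, x.1 3, x.1 4, x.1 5), s (x.1 1 + x.1 2 + x.1 3 + x.1 4 + x.1 5 + x.1 6 + x.1 7), s (x.1 1 - x.1 2))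
    else .inl ((x.1 0, x.1 3, x.1 4, x.1 5, x.1 6, x.1 7), s (x.1 1 + x.1 2 + x.1 3 + x.1 4 + x.1 5 + x.1 6 + x.1 7))
  have key : ∀ x y : Sol F, x.1 0 = y.1 0 → x.1 1 = y.1 1 → x.1 2 = y.1 2 → x.1 3 = y.1 3 → x.1 4 = y.1 4 →
      x.1 5 = y.1 5 → x.1 6 = y.1 6 → x.1 7 = y.1 7 → x = y := fun x y e0 e1 e2 e3 e4 e5 e6 e7 =>
    Subtype.ext (funext fun i => by fin_cases i <;> assumption)
  have hφ : Function.Injective φ := fun x y h => by
    have hx := x.2
    have hy := y.2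
    by_cases c1 : x.1 4 = x.1 6 ∧ x.1 3 = x.1 7 <;> by_cases c2 : y.1 4 = y.1 6 ∧ y.1 3 = y.1 7
    all_goals first | rw [show φ x = _ from if_pos c1] at h | rw [show φ x = _ from if_neg c1] at h
    all_goals first | rw [show φ y = _ from if_pos c2] at h | rw [show φ y = _ from if_neg c2] at h
    all_goals simp only [reduceCtorEq, Sum.inr.injEq, Sum.inl.injEq, Prod.mk.injEq] at h
    · obtain ⟨⟨e0, e3, e4, e5⟩, e8, e9⟩ := h
      have e6 : x.1 6 = y.1 6 := c1.1.symm.trans (e4.trans c2.1)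
      have e7 : x.1 7 = y.1 7 := c1.2.symm.trans (e3.trans c2.2)
      have k1 := hs _ _ (by rw [hx.sq, hy.sq, e0]) e8
      have k2 : x.1 1 + x.1 2 = y.1 1 + y.1 2 := by linear_combination k1 - e3 - e4 - e5 - e6 - e7
      have k3 := hs _ _ (by
        have := hx.1.trans hy.1.symm
        rw [e0, e3, e4, e5, e6, e7] at this
        linear_combination 2 * this - (x.1 1 + x.1 2 + y.1 1 + y.1 2) * k2) e9
      refine key x y e0 (mul_left_cancel₀ h2 ?_) (mul_left_cancel₀ h2 ?_) e3 e4 e5 e6 e7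
      · linear_combination k2 + k3
      · linear_combination k2 - k3
    · obtain ⟨⟨e0, e3, e4, e5, e6, e7⟩, e8⟩ := h
      have k1 := hs _ _ (by rw [hx.sq, hy.sq, e0]) e8
      have k2 : x.1 1 + x.1 2 = y.1 1 + y.1 2 := by linear_combination k1 - e3 - e4 - e5 - e6 - e7
      have k3 : x.1 1 = y.1 1 := by
        by_contra k
        obtain ⟨-, -, a2, a3⟩ := hx
        obtain ⟨-, -, b2, b3⟩ := hy
        rw [← e0, ← e3, ← e4, ← e5, ← e6, ← e7] at b2 b3
        have k4 : x.1 4 = x.1 6 := mul_left_cancel₀ (sub_ne_zero.2 k) (by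
          linear_combination a3 - b3 - (x.1 5 + x.1 6) * k2)
        exact c1 ⟨k4, mul_left_cancel₀ (sub_ne_zero.2 k) (by
          linear_combination a2 - b2 - (x.1 4 + x.1 7) * k2 + (x.1 1 - y.1 1) * k4)⟩
      exact key x y e0 k3 (by linear_combination k2 - k3) e3 e4 e5 e6 e7
  refine (Nat.card_le_card_of_injective φ hφ).trans (le_of_eq ?_)
  simp only [Nat.card_eq_fintype_card, Fintype.card_sum, Fintype.card_prod, Fintype.card_bool]
  ring

/-- the equations are decidable -/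
@[reducible] def decEqs (a b c d e f g h : ZMod 3) : Decidable (Eqs a b c d e f g h) := by
  unfold Eqs
  infer_instance

theorem cnt3 : ((Finset.univ : Finset (ZMod 3 × ZMod 3 × ZMod 3 × ZMod 3 × ZMod 3 × ZMod 3 × ZMod 3 × ZMod 3)).filter
    (fun x => @decide _ (decEqs x.1 x.2.1 x.2.2.1 x.2.2.2.1 x.2.2.2.2.1 x.2.2.2.2.2.1 x.2.2.2.2.2.2.1
      x.2.2.2.2.2.2.2) = true)).card = 112 := by
  decide +kernel

theorem card_sol_three (F : Type) [Field F] [Fintype F] (h3 : Fintype.card F = 3) : Nat.card (Sol F) ≤ 112 := by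
  let r := (ZMod.ringEquivOfPrime F Nat.prime_three h3).symm
  rw [← cnt3, ← Fintype.card_coe, ← Nat.card_eq_fintype_card]
  refine Nat.card_le_card_of_injective (fun x : Sol F => ⟨(r (x.1 0), r (x.1 1), r (x.1 2), r (x.1 3), r (x.1 4), r (x.1 5),
    r (x.1 6), r (x.1 7)), ?_⟩) fun x y h => ?_
  · obtain ⟨h0, h1, h2, h3⟩ := x.2
    refine Finset.mem_filter.2 ⟨Finset.mem_univ _, @decide_eq_true _ (decEqs ..) ⟨?_, ?_, ?_, ?_⟩⟩
    · simpa using congrArg r h0
    · simpa using congrArg r h1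
    · simpa using congrArg r h2
    · simpa using congrArg r h3
  · simp only [Subtype.mk.injEq, Prod.mk.injEq, EmbeddingLike.apply_eq_iff_eq] at h
    obtain ⟨e0, e1, e2, e3, e4, e5, e6, e7⟩ := h
    exact Subtype.ext (funext fun i => by fin_cases i <;> assumption)

/-! ### numbers -/

theorem num {q n : ℕ} (hq : 5 ≤ q)
    (h : 4 * n = q ^ 12 * (q ^ 4 - 1) * ((q ^ 2 - 1) * (q ^ 4 - 1) * (q ^ 6 - 1))) :
    (2 * q ^ 6 + 4 * q ^ 4) ^ 3 * 430080 ≤ n * 2 := by
  obtain ⟨u, hu⟩ : ∃ u, q ^ 2 = u + 25 := Nat.exists_eq_add_of_le' (Nat.pow_le_pow_left hq 2)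
  have e4 : q ^ 4 = (u + 25) ^ 2 := by rw [← hu]; ring
  have e6 : q ^ 6 = (u + 25) ^ 3 := by rw [← hu]; ring
  have e12 : q ^ 12 = (u + 25) ^ 6 := by rw [← hu]; ring
  have k2 : 24 ≤ q ^ 2 - 1 := by omega
  have k4 : 624 ≤ q ^ 4 - 1 := by
    have := Nat.pow_le_pow_left hq 4
    omega
  have k6 : q ^ 6 - 1 = u ^ 3 + 75 * u ^ 2 + 1875 * u + 15624 := by
    rw [e6]
    exact Nat.sub_eq_of_eq_add (by ring)
  have k : q ^ 12 * 624 * (24 * 624 * (q ^ 6 - 1)) ≤ 4 * n := by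
    rw [h]
    gcongr
  have k' : (2 * q ^ 6 + 4 * q ^ 4) ^ 3 * 430080 * 2 = q ^ 12 * (6881280 * (u + 27) ^ 3) := by
    rw [e4, e6, e12]
    ring
  have k'' : 6881280 * (u + 27) ^ 3 ≤ 624 * (24 * 624 * (q ^ 6 - 1)) := by
    rw [k6]
    have : 624 * (24 * 624 * (u ^ 3 + 75 * u ^ 2 + 1875 * u + 15624)) = 6881280 * (u + 27) ^ 3 +
      (2463744 * u ^ 3 + 143493120 * u ^ 2 + 2472560640 * u + 10562420736) := by ring
    omega
  have := Nat.mul_le_mul_left (q ^ 12) k''
  rw [← k', ← mul_assoc] at this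
  omega

/-! ### the code -/

/-- the sign -/
def sg (R : Type) [Ring R] (a : ZMod 2) : R := if a = 0 then 1 else -1

theorem sg_zero {R : Type} [Ring R] : sg R 0 = 1 := if_pos rfl

theorem sg_one {R : Type} [Ring R] : sg R 1 = -1 := if_neg (by decide)

theorem z2 (a : ZMod 2) : a = 0 ∨ a = 1 := by revert a; decide

theorem sg_add {R : Type} [Ring R] (a b : ZMod 2) : sg R (a + b) = sg R a * sg R b := by
  rcases z2 a with rfl | rfl <;> rcases z2 b with rfl | rfl
  · simp [sg_zero]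
  · simp [sg_zero]
  · simp [sg_zero]
  · rw [show (1 + 1 : ZMod 2) = 0 from rfl, sg_zero, sg_one, neg_mul_neg, one_mul]

theorem sg_sq {R : Type} [Ring R] (a : ZMod 2) : sg R a * sg R a = 1 := by
  rw [← sg_add, show a + a = 0 by revert a; decide, sg_zero]

theorem sg_inj {R : Type} [Ring R] (h2 : (2 : R) ≠ 0) {a b : ZMod 2} (h : sg R a = sg R b) : a = b := by
  have k : (1 : R) ≠ -1 := fun e => h2 (by rw [← one_add_one_eq_two]; exact add_eq_zero_iff_eq_neg.2 e)
  rcases z2 a with rfl | rfl <;> rcases z2 b with rfl | rfl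
  · rfl
  · exact absurd (sg_zero.symm.trans (h.trans sg_one)) k
  · exact absurd (sg_zero.symm.trans (h.symm.trans sg_one)) k
  · rfl

theorem exists_sg {F : Type} [Field F] {c : F} (h : c * c = 1) : ∃ a, c = sg F a := by
  rcases mul_self_eq_one_iff.1 h with h | h
  exacts [⟨0, h.trans sg_zero.symm⟩, ⟨1, h.trans sg_one.symm⟩]

/-- the extended Hamming code -/
def Ham (w : Fin 8 → ZMod 2) : Prop :=
  w 4 = w 0 + w 1 + w 2 ∧ w 5 = w 0 + w 2 + w 3 ∧ w 6 = w 1 + w 2 + w 3 ∧ w 7 = w 0 + w 1 + w 3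

/-- the points of the affine space -/
def lam : Fin 8 → Fin 3 → ZMod 2 :=
  ![![0, 0, 0], ![1, 0, 0], ![0, 1, 0], ![0, 0, 1], ![1, 1, 0], ![0, 1, 1], ![1, 1, 1], ![1, 0, 1]]

theorem lam_inj : Function.Injective lam := by decide

theorem ham_lam (c : ZMod 2) (u : Fin 3 → ZMod 2) : Ham fun i => c + ∑ k, u k * lam i k := by
  unfold Ham
  revert c u
  decide

theorem Ham.ext {w w' : Fin 8 → ZMod 2} (h : Ham w) (h' : Ham w') (e : ∀ k : Fin 4, w (k.castLE (by decide)) = w' (k.castLE (by decide))) :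
    w = w' := by
  have e0 : w 0 = w' 0 := e 0
  have e1 : w 1 = w' 1 := e 1
  have e2 : w 2 = w' 2 := e 2
  have e3 : w 3 = w' 3 := e 3
  obtain ⟨a4, a5, a6, a7⟩ := h
  obtain ⟨b4, b5, b6, b7⟩ := h'
  rw [e0, e1, e2, ← b4] at a4
  rw [e0, e2, e3, ← b5] at a5
  rw [e1, e2, e3, ← b6] at a6
  rw [e0, e1, e3, ← b7] at a7
  exact funext fun i => by fin_cases i <;> assumption

theorem ham_sep {i j : Fin 8} (h : ∀ w, Ham w → w i = w j) : i = j := by
  refine lam_inj (funext fun k => ?_)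
  simpa [Pi.single_apply] using h _ (ham_lam 0 (Pi.single k 1))

/-- the seven-cycle -/
def cy : Equiv.Perm (Fin 8) := ⟨![0, 2, 3, 4, 5, 6, 7, 1], ![0, 7, 1, 2, 3, 4, 5, 6], by decide, by decide⟩

theorem cy_pow : cy ^ 7 = 1 := by decide

theorem Ham.cy {w : Fin 8 → ZMod 2} (h : Ham w) : Ham (w ∘ cy.symm) := by
  unfold Ham at h ⊢
  revert w
  decide +kernel

theorem sum_sg (w : Fin 8 → ZMod 2) (h : Fintype.card {i // w i = 0} = 4) : ∑ i, sg ℤ (w i) = 0 := by
  revert w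
  decide +kernel

/-- **the code is the Hamming code** -/
theorem exists_ham (C : Submodule (ZMod 2) (Fin 8 → ZMod 2)) (h1 : (fun _ => 1) ∈ C)
    (hw : ∀ w ∈ C, (∀ i, w i = w 0) ∨ Fintype.card {i // w i = 0} = 4) (hs : ∀ i j, i ≠ j → ∃ w ∈ C, w i ≠ w j) :
    ∃ σ : Equiv.Perm (Fin 8), ∀ w, w ∈ C ↔ Ham (w ∘ σ) := by
  classical
  let C0 : Submodule (ZMod 2) (Fin 8 → ZMod 2) := C ⊓ LinearMap.ker (LinearMap.proj 0)
  have m0 : ∀ w ∈ C, w - w 0 • (fun _ => 1) ∈ C0 := fun w hw => ⟨C.sub_mem hw (C.smul_mem _ h1), by simp⟩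
  have hs0 : ∀ i j, i ≠ j → ∃ w : C0, w.1 i ≠ w.1 j := fun i j h => by
    obtain ⟨w, hw, e⟩ := hs i j h
    exact ⟨⟨_, m0 w hw⟩, by simpa using e⟩
  have z0 : ∀ w : C0, w.1 0 = 0 := fun w => w.2.2
  have := Fintype.ofFinite C0
  have hc : Fintype.card C0 = 8 := by
    have a1 : ∑ w : C0, ∑ i, sg ℤ (w.1 i) = 8 := by
      rw [Finset.sum_eq_single 0 (fun w _ h => ?_) (by simp)]
      · simp [sg_zero]
      · refine sum_sg _ ((hw _ w.2.1).resolve_left fun k => h (Subtype.ext (funext fun i => (k i).trans (z0 w))))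
    rw [Finset.sum_comm, Finset.sum_eq_single 0 (fun i _ h => ?_) (by simp)] at a1
    · simp only [z0, sg_zero, Finset.sum_const, Finset.card_univ, nsmul_eq_mul, mul_one] at a1
      exact_mod_cast a1
    · obtain ⟨v, hv⟩ := hs0 i 0 h
      have a2 : v.1 i = 1 := (z2 _).resolve_left (z0 v ▸ hv)
      have a3 := Equiv.sum_comp (Equiv.addRight v) fun w : C0 => sg ℤ (w.1 i)
      simp only [Equiv.coe_addRight, Submodule.coe_add, Pi.add_apply, sg_add, a2, sg_one, mul_neg, mul_one,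
        Finset.sum_neg_distrib] at a3
      omega
  have hd : finrank (ZMod 2) C0 = 3 := by
    have := Module.card_eq_pow_finrank (K := ZMod 2) (V := C0)
    rw [hc, ZMod.card] at this
    exact Nat.pow_right_injective le_rfl this.symm
  let β := finBasisOfFinrankEq (ZMod 2) C0 hd
  let μ : Fin 8 → Fin 3 → ZMod 2 := fun i k => (β k).1 i
  have hβ : ∀ (u : Fin 3 → ZMod 2) (i : Fin 8), (∑ k, u k • β k : C0).1 i = ∑ k, u k * μ i k := fun u i => by
    simp [μ, Finset.sum_apply]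
  have hμ : Function.Bijective μ := by
    refine (Fintype.bijective_iff_injective_and_card μ).2 ⟨fun i j h => by_contra fun k => ?_, by simp⟩
    obtain ⟨w, hw⟩ := hs0 i j k
    rw [← β.sum_repr w, hβ, hβ, h] at hw
    exact hw rfl
  have hl : Function.Bijective lam := (Fintype.bijective_iff_injective_and_card lam).2 ⟨lam_inj, by simp⟩
  let σ : Equiv.Perm (Fin 8) := (Equiv.ofBijective lam hl).trans (Equiv.ofBijective μ hμ).symm
  have hσ : ∀ i, μ (σ i) = lam i := fun i => (Equiv.ofBijective μ hμ).apply_symm_apply (lam i)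
  have k : ∀ (c : ZMod 2) (u : Fin 3 → ZMod 2), (c • (fun _ => 1) + (∑ k, u k • β k : C0).1 : Fin 8 → ZMod 2) ∘ σ =
      fun i => c + ∑ k, u k * lam i k := fun c u => funext fun i => by
    rw [Function.comp_apply, Pi.add_apply, hβ, hσ, Pi.smul_apply, smul_eq_mul, mul_one]
  refine ⟨σ, fun w => ⟨fun h => ?_, fun h => ?_⟩⟩
  · have := ham_lam (w 0) (β.repr ⟨_, m0 w h⟩)
    rwa [← k, β.sum_repr, add_sub_cancel] at this
  · have e := h.ext (ham_lam (w (σ 0)) ![w (σ 1) - w (σ 0), w (σ 2) - w (σ 0), w (σ 3) - w (σ 0)]) fun j => by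
      fin_cases j <;> simp [lam, Fin.sum_univ_three]
    rw [← k] at e
    rw [σ.surjective.injective_comp_right e]
    exact C.add_mem (C.smul_mem _ h1) (Subtype.property (p := (· ∈ C0)) _).1

end Cfsg.Agent.N2C.D4.GN4
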