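import Cfsg.Agent.N2.Cl.D4.Defs
import Cfsg.Agent.N2.Cl.D4.GN4A
import Cfsg.Agent.H10.Co3.Om

/-!
# N2 (S3519), `PΩ₈⁺(q)`, box GN4: eight lines and the Hamming code (helper14)

The normaliser `A` of the code consists of monomial matrices, `|A~| ≤ 1680 · 256`; the seven-cycle `a` lies in `A` and
`|C(a)| ≤ 2 q⁶ + 4 q⁴`, `≤ 112` for `q = 3`.
-/

set_option autoImplicit false
set_option linter.unusedSectionVars false
set_option linter.unusedSimpArgs false

namespace Cfsg.Agent.N2C.D4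

open QuadraticMap Module Cfsg.Agent.LieClassical.QuadForms Cfsg.Agent.LieClassical.OrthCore
  Cfsg.Agent.LieClassical.OrthTrans Cfsg.Agent.ClassicalGeometry.OrthSemi Cfsg.Agent.ClassicalGeometry.OrthAut1
  Cfsg.Agent.ClassicalGeometry.TrialityOct Cfsg.Agent.ClassicalGeometry.Triality
  Cfsg.Agent.H989.OutOrth.Basic Cfsg.Agent.H989.OutOrth.Tri Cfsg.Agent.SB.D4

namespace GN4

variable {F : Type} [Field F] [Fintype F] {b : Basis (Fin 8) F (V8 F)} {c : F}

/-- an orthogonal basis of vectors of norm `c` -/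
structure Fr (b : Basis (Fin 8) F (V8 F)) (c : F) : Prop where
  h2 : (2 : F) ≠ 0
  hc : c ≠ 0
  q : ∀ i, Q8 F (b i) = c
  o : ∀ i j, i ≠ j → polar (Q8 F) (b i) (b j) = 0

theorem repr_mono {x : V8 F →ₗ[F] V8 F} {d : Fin 8 → F} {π : Equiv.Perm (Fin 8)} (hx : ∀ i, x (b i) = d i • b (π i))
    (v : V8 F) (j : Fin 8) : b.repr (x v) (π j) = d j * b.repr v j := by
  have : (b.coord (π j)).comp x = d j • b.coord j := b.ext fun i => by
    by_cases e : i = j
    · subst e
      simp [hx]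
    · simp [hx, Finsupp.single_apply, e]
  exact LinearMap.congr_fun this v

theorem det_diag {x : V8 F →ₗ[F] V8 F} {d : Fin 8 → F} (hx : ∀ i, x (b i) = d i • b i) : LinearMap.det x = ∏ i, d i := by
  rw [← LinearMap.det_toMatrix b, ← Matrix.det_diagonal]
  congr 1
  ext i j
  by_cases e : i = j
  · subst e
    simp [LinearMap.toMatrix_apply, hx]
  · simp [LinearMap.toMatrix_apply, hx, Finsupp.single_apply, e, Ne.symm e]

theorem ext_b {x y : E8 F} (h : ∀ i, x.1 (b i) = y.1 (b i)) : x = y := Subtype.ext (b.ext' h)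

theorem rank_Eg (h2 : (2 : F) ≠ 0) {x : E8 F} {w : Fin 8 → ZMod 2} (hx : ∀ i, x.1 (b i) = sg F (w i) • b i) :
    finrank F (Eg x 1) = Fintype.card {i // w i = 0} := by
  have e : Eg x 1 = Submodule.span F (b '' {i | w i = 0}) := by
    ext v
    rw [mem_Eg, one_smul, b.mem_span_image, b.ext_elem_iff]
    refine forall_congr' fun j => ?_
    have k : b.repr (x.1 v) j = sg F (w j) * b.repr v j := repr_mono (x := x.1.toLinearMap) (π := 1) hx v j
    rw [k, Finset.mem_coe, Finsupp.mem_support_iff, Set.mem_ofPred_eq]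
    refine ⟨fun h h0 => sg_inj h2 ((mul_eq_right₀ h0).1 h |>.trans sg_zero.symm), fun h => ?_⟩
    by_cases h0 : b.repr v j = 0
    · rw [h0, mul_zero]
    · rw [h h0, sg_zero, one_mul]
  rw [e, Set.image_eq_range]
  exact finrank_span_eq_card (b.linearIndependent.comp _ Subtype.val_injective)

/-- the seven-cycle -/
noncomputable def pa (b : Basis (Fin 8) F (V8 F)) : GL8 F := b.equiv b cy

theorem pa_b (i : Fin 8) : pa b (b i) = b (cy i) := b.equiv_apply ..

theorem repr_pa (v : V8 F) (j : Fin 8) : b.repr (pa b v) j = b.repr v (cy.symm j) := by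
  have := repr_mono (x := (pa b).toLinearMap) (d := fun _ => 1) (π := cy) (fun i => (pa_b i).trans (one_smul F _).symm) v
    (cy.symm j)
  rwa [Equiv.apply_symm_apply, one_mul] at this

theorem pa_pow : pa b ^ 7 = 1 := by
  have k : ∀ (n : ℕ) (i : Fin 8), (pa b ^ n) (b i) = b ((cy ^ n) i) := fun n => by
    induction n with
    | zero => exact fun _ => rfl
    | succ n ih => exact fun i => by rw [pow_succ, pow_succ, LinearEquiv.mul_apply, pa_b, ih, Equiv.Perm.mul_apply]
  exact b.ext' fun i => by rw [k, cy_pow]; rfl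

namespace Fr

variable (h : Fr b c)
include h

theorem c2 : 2 * c ≠ 0 := mul_ne_zero h.h2 h.hc

theorem polar_b (v : V8 F) (j : Fin 8) : polar (Q8 F) v (b j) = 2 * c * b.repr v j := by
  have : (polarBilin (Q8 F)).flip (b j) = (2 * c) • b.coord j := b.ext fun i => by
    change polar (Q8 F) (b i) (b j) = _
    by_cases e : i = j
    · subst e
      simp [polar_self', h.q]
    · simp [h.o i j e, Finsupp.single_apply, e]
  exact LinearMap.congr_fun this v

theorem polar_eq (v w : V8 F) : polar (Q8 F) v w = 2 * c * ∑ j, b.repr v j * b.repr w j := by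
  conv_lhs => rw [← b.sum_repr w]
  refine (map_sum (polarBilin (Q8 F) v) _ _).trans ?_
  rw [Finset.mul_sum]
  refine Finset.sum_congr rfl fun j _ => ?_
  rw [map_smul, smul_eq_mul]
  exact (congrArg _ (h.polar_b v j)).trans (by ring)

theorem pa_mem : pa b ∈ E (Q8 F) := by
  refine H10.Co3.Om.mem_of_odd good8 (fun v => mul_left_cancel₀ h.h2 ?_) (by decide : Odd 7) pa_pow
  rw [← polar_self', ← polar_self', h.polar_eq, h.polar_eq]
  simp only [repr_pa]
  exact congrArg _ (Equiv.sum_comp cy.symm fun j => b.repr v j * b.repr v j)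

theorem exists_neg : ∃ n : E8 F, Sc n (-1) :=
  ⟨⟨LinearEquiv.neg F, H10.Co3.Om.invol_mem good8 h.h2 h.hc h.q h.o (by decide) (fun _ => rfl) fun v hv => by
    have : v = 0 := b.ext_elem fun i => (mul_eq_zero.1 ((h.polar_b v i).symm.trans
      ((polar_comm _ _ _).trans (hv i)))).resolve_left h.c2 |>.trans (by simp)
    rw [this, map_zero]⟩, fun x => (neg_one_smul F x).symm⟩

/-- no reflections -/
theorem eq_one {g : E8 F} (hg : ∀ i, i ≠ 0 → g.1 (b i) = b i) : g = 1 := by
  let d : Fin 8 → F := fun i => if i = 0 then b.repr (g.1 (b 0)) 0 else 1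
  have k : ∀ i, g.1 (b i) = d i • b i := fun i => by
    by_cases e : i = 0
    · subst e
      refine b.ext_elem fun j => ?_
      by_cases e : j = 0
      · subst e
        simp [d]
      · have k := h.polar_b (g.1 (b 0)) j
        rw [← hg j e, polar_map (E_le_O g.2), h.o 0 j (Ne.symm e)] at k
        rw [(mul_eq_zero.1 k.symm).resolve_left h.c2]
        simp [Finsupp.single_apply, Ne.symm e]
    · rw [hg i e, show d i = 1 from if_neg e, one_smul]
  have k1 := (det_diag (x := g.1.toLinearMap) k).symm.trans (H10.Co3.Om.det_eq_one good8 g.2)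
  rw [Finset.prod_eq_single 0 (fun i _ e => if_neg e) (by simp)] at k1
  refine ext_b (b := b) fun i => ?_
  by_cases e : i = 0
  · rw [k, e, show d 0 = 1 from k1, one_smul]
    rfl
  · exact hg i e

/-- the centraliser of the seven-cycle -/
theorem cn_le : N2.cn (⟨pa b, h.pa_mem⟩ : E8 F) ≤ Nat.card (Sol F) := by
  have : Finite (Sol F) := Subtype.finite
  have cm : ∀ g ∈ Subgroup.centralizer ({⟨pa b, h.pa_mem⟩} : Set (E8 F)), ∀ i, g.1 (b (cy i)) = pa b (g.1 (b i)) :=
    fun g hg i => by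
      rw [← pa_b]
      exact e8_comm (Subgroup.mem_centralizer_singleton_iff.1 hg) (b i)
  refine Nat.card_le_card_of_injective (fun g => (⟨b.repr (g.1.1 (b 1)), ?_⟩ : Sol F)) fun g g' e => ?_
  · have p : ∀ j, ∑ i, b.repr (g.1.1 (b 1)) i * b.repr (g.1.1 (b j)) i = b.repr (b 1) j := fun j =>
      mul_left_cancel₀ h.c2 (by rw [← h.polar_eq, polar_map (E_le_O g.1.2), h.polar_b])
    have p1 := p 1
    have p2 := p (cy 1)
    have p3 := p (cy (cy 1))
    have p4 := p (cy (cy (cy 1)))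
    simp only [cm g.1 g.2, repr_pa] at p2 p3 p4
    generalize b.repr (g.1.1 (b 1)) = x at p1 p2 p3 p4
    rw [b.repr_self, Fin.sum_univ_eight] at p1 p2 p3 p4
    rw [Finsupp.single_eq_same] at p1
    rw [Finsupp.single_eq_of_ne (by decide)] at p2 p3 p4
    change x 0 * x 0 + x 1 * x 7 + x 2 * x 1 + x 3 * x 2 + x 4 * x 3 + x 5 * x 4 + x 6 * x 5 + x 7 * x 6 = 0 at p2
    change x 0 * x 0 + x 1 * x 6 + x 2 * x 7 + x 3 * x 1 + x 4 * x 2 + x 5 * x 3 + x 6 * x 4 + x 7 * x 5 = 0 at p3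
    change x 0 * x 0 + x 1 * x 5 + x 2 * x 6 + x 3 * x 7 + x 4 * x 1 + x 5 * x 2 + x 6 * x 3 + x 7 * x 4 = 0 at p4
    exact ⟨p1, by linear_combination p2, by linear_combination p3, by linear_combination p4⟩
  · have e1 : g.1.1 (b 1) = g'.1.1 (b 1) := b.repr.injective (DFunLike.coe_injective (congrArg Subtype.val e))
    have st : ∀ i, g.1.1 (b i) = g'.1.1 (b i) → g.1.1 (b (cy i)) = g'.1.1 (b (cy i)) := fun i k => by
      rw [cm g.1 g.2, cm g'.1 g'.2, k]
    have e2 := st 1 e1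
    have e3 := st 2 e2
    have e4 := st 3 e3
    have e5 := st 4 e4
    have e6 := st 5 e5
    have e7 := st 6 e6
    refine Subtype.ext (inv_mul_eq_one.1 (h.eq_one fun i hi => ?_)).symm
    change g'.1.1.symm (g.1.1 (b i)) = b i
    rw [LinearEquiv.symm_apply_eq]
    fin_cases i
    exacts [absurd rfl hi, e1, e2, e3, e4, e5, e6, e7]

theorem card_E : Nat.card (G8 F) * 2 ≤ Nat.card (E8 F) := by
  obtain ⟨n, hn⟩ := h.exists_neg
  have := finite_E8 (F := F)
  rw [Subgroup.card_eq_card_quotient_mul_card_subgroup (Subgroup.center (E8 F))]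
  refine Nat.mul_le_mul_left _ ((Subgroup.one_lt_card_iff_ne_bot _).2 fun k => not_neg h.h2 hn ?_)
  exact Subgroup.mem_bot.1 (k ▸ mem_center_of_scalar hn)

variable {X : Subgroup (G8 F)} (h1 : ∀ x : E8 F, (x : G8 F) ∈ X → ∃ w, Ham w ∧ ∀ i, x.1 (b i) = sg F (w i) • b i)
  (h2 : ∀ w, Ham w → ∃ x : E8 F, (x : G8 F) ∈ X ∧ ∀ i, x.1 (b i) = sg F (w i) • b i)
include h1 h2

/-- the elements of the normaliser are monomial -/
theorem mono {g : E8 F} (hg : (g : G8 F) ∈ Subgroup.normalizer (X : Set (G8 F))) :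
    ∃ (p : Fin 8 ↪ Fin 8) (s : Fin 8 → ZMod 2), (∀ i, g.1 (b i) = sg F (s i) • b (p i)) ∧ ∀ w, Ham w → Ham (w ∘ p) := by
  have k : ∀ w, Ham w → ∃ w', Ham w' ∧ ∀ i j, b.repr (g.1 (b i)) j ≠ 0 → w j = w' i := fun w hw => by
    obtain ⟨x, hx, e⟩ := h2 w hw
    obtain ⟨w', hw', e'⟩ := h1 (g⁻¹ * x * g) ((Subgroup.mem_normalizer_iff''.1 hg _).1 hx)
    refine ⟨w', hw', fun i j h0 => sg_inj h.h2 (mul_right_cancel₀ h0 ?_)⟩
    have k1 : x.1 (g.1 (b i)) = sg F (w' i) • g.1 (b i) := by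
      rw [← map_smul, ← e']
      exact (g.1.apply_symm_apply _).symm
    have k2 : b.repr (x.1 (g.1 (b i))) j = _ := repr_mono (x := x.1.toLinearMap) (π := 1) e (g.1 (b i)) j
    rw [k1, map_smul, Finsupp.smul_apply, smul_eq_mul] at k2
    exact k2.symm
  have k0 : ∀ i, ∃ j, b.repr (g.1 (b i)) j ≠ 0 := fun i => by
    by_contra! k0
    exact b.ne_zero i (g.1.map_eq_zero_iff.1 (b.ext_elem fun j => (k0 j).trans (by simp)))
  choose p hp using k0
  have k1 : ∀ i, g.1 (b i) = b.repr (g.1 (b i)) (p i) • b (p i) := fun i => b.ext_elem fun j => by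
    by_cases e : p i = j
    · subst e
      simp
    · rw [map_smul, b.repr_self, Finsupp.smul_apply, Finsupp.single_eq_of_ne (Ne.symm e), smul_zero]
      by_contra h0
      refine e (ham_sep fun w hw => ?_)
      obtain ⟨w', -, e'⟩ := k w hw
      exact (e' i _ (hp i)).trans (e' i _ h0).symm
  have k2 : ∀ i, ∃ s, b.repr (g.1 (b i)) (p i) = sg F s := fun i => exists_sg (mul_right_cancel₀ h.hc (by
    have := mem_O.1 (E_le_O g.2) (b i)
    rwa [k1, QuadraticMap.map_smul, h.q, h.q, smul_eq_mul, ← one_mul c, ← mul_assoc, mul_one] at this))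
  choose s hs using k2
  refine ⟨⟨p, fun i j e => by_contra fun hij => ?_⟩, s, fun i => by rw [← hs]; exact k1 i, fun w hw => ?_⟩
  · have := polar_map (E_le_O g.2) (b i) (b j)
    rw [h.o i j hij, k1 j, polar_smul_right, h.polar_b, ← e, smul_eq_mul] at this
    exact mul_ne_zero (e ▸ hp j) (mul_ne_zero h.c2 (hp i)) this
  · obtain ⟨w', hw', e'⟩ := k w hw
    exact (funext fun i => (e' i _ (hp i)).symm : w' = w ∘ p) ▸ hw'

theorem card_A : Nat.card ((Subgroup.normalizer (X : Set (G8 F))).comap (QuotientGroup.mk' _)) ≤ 430080 := by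
  choose p s hs hp using fun g : (Subgroup.normalizer (X : Set (G8 F))).comap (QuotientGroup.mk' _) => h.mono h1 h2 g.2
  let ι : Fin 4 ↪ Fin 8 := Fin.castLEEmb (by decide)
  refine (Nat.card_le_card_of_injective (fun g => (ι.trans (p g), s g)) fun g g' e => ?_).trans (le_of_eq ?_)
  · obtain ⟨e1, e2⟩ := Prod.mk.inj e
    refine Subtype.ext (ext_b (b := b) fun i => ?_)
    rw [hs, hs, e2, ham_sep fun w hw => congrFun ((hp g w hw).ext (hp g' w hw) fun k =>
      congrArg w (DFunLike.congr_fun e1 k)) i]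
  · simp [Nat.card_eq_fintype_card, Nat.descFactorial]

theorem pa_norm : ((⟨pa b, h.pa_mem⟩ : E8 F) : G8 F) ∈ Subgroup.normalizer (X : Set (G8 F)) := by
  have := finite8 (F := F)
  refine Subgroup.mem_normalizer_fintype fun n hn => ?_
  induction n using QuotientGroup.induction_on with
  | H x =>
  obtain ⟨w, hw, e⟩ := h1 x hn
  obtain ⟨y, hy, e'⟩ := h2 _ hw.cy
  have k : y * ⟨pa b, h.pa_mem⟩ = ⟨pa b, h.pa_mem⟩ * x := ext_b (b := b) fun i => by
    change y.1 (pa b (b i)) = pa b (x.1 (b i))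
    rw [e, map_smul, pa_b, e', Function.comp_apply, Equiv.symm_apply_apply]
  rw [← QuotientGroup.mk_mul, ← k, QuotientGroup.mk_mul, mul_inv_cancel_right]
  exact hy

theorem good : FP3.Good (Subgroup.normalizer (X : Set (G8 F))) := by
  have := finite_E8 (F := F)
  rw [← N2.good_comap (QuotientGroup.mk' _) (QuotientGroup.mk'_surjective _)]
  have k1 := S0293.result (F := F) rfl 4 le_rfl
  rw [← coe_plusForm, ← Cfsg.Agent.H989.OutOrth.Forms.card_P good8] at k1
  have ho := FiniteField.odd_card_of_char_ne_two (F := F) fun k => h.h2 (by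
    exact_mod_cast (ringChar.spec F 2).2 (k ▸ dvd_rfl))
  have hq : 2 ≤ Fintype.card F := Fintype.one_lt_card
  have k2 : Nat.gcd 4 (Fintype.card F ^ 4 - 1) = 4 := by
    refine Nat.gcd_eq_left ((Nat.modEq_iff_dvd' (Nat.one_le_pow _ _ (by omega))).1 ?_)
    rcases (by omega : Fintype.card F % 4 = 1 ∨ Fintype.card F % 4 = 3) with k | k <;>
      simp [Nat.ModEq, Nat.pow_mod, k]
  rw [k2, Finset.prod_range_succ, Finset.prod_range_succ, Finset.prod_range_one] at k1
  have k3 := h.card_E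
  have k4 := h.card_A h1 h2
  by_cases h3 : Fintype.card F = 3
  · refine N2.good_of_cn (h.pa_norm h1 h2) (h.cn_le.trans (card_sol_three F h3)) ((Nat.mul_le_mul_left _ k4).trans ?_)
    rw [h3] at k1
    change 4 * Nat.card (G8 F) = _ at k1
    exact le_trans (by omega) k3
  · exact N2.good_of_cn (h.pa_norm h1 h2) (h.cn_le.trans (card_sol_le F h.h2))
      ((Nat.mul_le_mul_left _ k4).trans ((num (by omega) k1).trans k3))

end Fr

end GN4

open GN4 in
/-- **[GN4]** -/
theorem boxGN4 : BoxGN4 := by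
  intro F _ _ A X e h2 hc hq ho hX hs hA
  have li : LinearIndependent F e := LinearMap.BilinForm.linearIndependent_of_iIsOrtho (B := polarBilin (Q8 F))
    (LinearMap.BilinForm.iIsOrtho_def.2 ho) fun i => by
      change polar (Q8 F) (e i) (e i) ≠ 0
      rw [polar_self', hq]
      exact mul_ne_zero h2 hc
  obtain ⟨b, rfl⟩ : ∃ b : Basis (Fin 8) F (V8 F), ⇑b = e :=
    ⟨_, coe_basisOfLinearIndependentOfCardEqFinrank li (by simp)⟩
  have h : Fr b (Q8 F (b 0)) := ⟨h2, hc, hq, ho⟩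
  let C : AddSubgroup (Fin 8 → ZMod 2) :=
    { carrier := {w | ∃ x : E8 F, (x : G8 F) ∈ X ∧ ∀ i, x.1 (b i) = sg F (w i) • b i}
      zero_mem' := ⟨1, X.one_mem, fun i => by rw [Pi.zero_apply, sg_zero, one_smul]; rfl⟩
      add_mem' := fun ⟨x, hx, e⟩ ⟨y, hy, e'⟩ => ⟨x * y, X.mul_mem hx hy, fun i => by
        rw [e8_mul, e', map_smul, e, smul_smul, Pi.add_apply, sg_add, mul_comm]⟩
      neg_mem' := fun {w} k => by rwa [show -w = w from funext fun i => ZMod.neg_eq_self_mod_two _] }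
  have hw : ∀ x : E8 F, (x : G8 F) ∈ X → ∃ w : Fin 8 → ZMod 2, ∀ i, x.1 (b i) = sg F (w i) • b i := fun x hx => by
    have k : ∀ i, ∃ a, x.1 (b i) = sg F a • b i := fun i => ((hX x hx).1 i).elim
      (fun k => ⟨0, by rw [k, sg_zero, one_smul]⟩) fun k => ⟨1, by rw [k, sg_one, neg_one_smul]⟩
    choose w k using k
    exact ⟨w, k⟩
  have inj : ∀ {i : Fin 8} {s t : F}, s • b i = t • b i → s = t := fun k => smul_left_injective F (b.ne_zero _) k
  obtain ⟨σ, hσ⟩ := exists_ham (AddSubgroup.toZModSubmodule 2 C) (by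
      obtain ⟨n, hn⟩ := h.exists_neg
      exact ⟨n, mk_eq_one_iff.2 ⟨_, hn⟩ ▸ X.one_mem, fun i => by rw [sg_one]; exact hn _⟩)
    (fun w ⟨x, hx, e⟩ => (hX x hx).2.imp (fun ⟨d, hd⟩ i => sg_inj h2 ((inj ((e i).symm.trans (hd _))).trans
      (inj ((e 0).symm.trans (hd _))).symm)) fun k => (rank_Eg h2 e).symm.trans k)
    fun i j hij => by
      obtain ⟨x, hx, c, e1, e2⟩ := hs i j hij
      obtain ⟨w, e⟩ := hw x hx
      refine ⟨w, ⟨x, hx, e⟩, fun k => h2 ?_⟩
      have k1 := inj ((e i).symm.trans e1)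
      have k2 := inj ((e j).symm.trans e2)
      have k3 := sg_sq (R := F) (w i)
      rw [← k, k1] at k2
      rw [k1] at k3
      linear_combination c * k2 - 2 * k3
  have hb : ∀ i, b.reindex σ.symm i = b (σ i) := fun i => b.reindex_apply ..
  have h' : Fr (b.reindex σ.symm) (Q8 F (b 0)) :=
    ⟨h2, hc, fun i => by rw [hb, hq], fun i j k => by rw [hb, hb, ho _ _ (σ.injective.ne k)]⟩
  rw [hA]
  refine h'.good (fun x hx => ?_) fun w k => ?_
  · obtain ⟨w, e⟩ := hw x hx
    exact ⟨w ∘ σ, (hσ w).1 ⟨x, hx, e⟩, fun i => by rw [hb, e]; rfl⟩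
  · obtain ⟨x, hx, e⟩ := (hσ (w ∘ σ.symm)).2 (by rwa [Function.comp_assoc, σ.symm_comp_self, Function.comp_id])
    exact ⟨x, hx, fun i => by rw [hb, e, Function.comp_apply, σ.symm_apply_apply]⟩

end Cfsg.Agent.N2C.D4
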