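import Cfsg.Agent.N2.Cl.D4.IrrA

/-!
# N2 (S3519), `PΩ₈⁺(q)` with triality: the case `3 + 5` (helper46)
-/

set_option autoImplicit false
set_option linter.unusedSectionVars false

namespace Cfsg.Agent.N2C.D4

open QuadraticMap Module Cfsg.Agent.LieClassical.QuadForms Cfsg.Agent.LieClassical.OrthCore
  Cfsg.Agent.LieClassical.OrthTrans Cfsg.Agent.ClassicalGeometry.OrthSemi Cfsg.Agent.ClassicalGeometry.OrthAut1
  Cfsg.Agent.ClassicalGeometry.TrialityOct Cfsg.Agent.ClassicalGeometry.Triality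
  Cfsg.Agent.H989.OutOrth.Basic Cfsg.Agent.H989.OutOrth.Tri Cfsg.Agent.SB.D4

namespace Irr

variable {F : Type} [Field F] [Fintype F]

theorem no_swap {b c : GL8 F} {f g : V8 F → V8 F} (h : ∀ x y, pm (b x) (c y) = pm (f y) (g x))
    (hf : Q8 F (f (one8 F)) ≠ 0) (hg : ∀ x, g x = 0 → x = 0) : False := by
  obtain ⟨x, hx⟩ := b.surjective (e8 F)
  have hz0 : g x ≠ 0 := fun e => e8_ne (by rw [← hx, hg x e, map_zero])
  have hz : Q8 F (g x) = 0 := by
    have h1 := congrArg (Q8 F) (h x (one8 F))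
    rw [norm_pm, norm_pm, hx, norm_e8, zero_mul] at h1
    exact (mul_eq_zero.1 h1.symm).resolve_left hf
  have h1 : LinearMap.range (pl (e8 F)) = LinearMap.range (pr (g x)) := by
    refine Submodule.eq_of_le_of_finrank_eq ?_ ?_
    · rintro _ ⟨t, rfl⟩
      obtain ⟨y, rfl⟩ := c.surjective t
      exact ⟨f y, by rw [pr_apply, pl_apply, ← h, hx]⟩
    · rw [finrank_pr hz hz0, range_pl]
      exact ClassicalGeometry.TrialitySpaces.finrank_leftSp (by rw [norm_oconj, norm_e8])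
        (ClassicalGeometry.TrialitySpaces.oconj_ne_zero e8_ne)
  rw [range_pl, range_pr] at h1
  exact ClassicalGeometry.TrialitySpaces.leftSp_ne_rightSp (by rw [norm_oconj, norm_e8])
    (ClassicalGeometry.TrialitySpaces.oconj_ne_zero e8_ne) (by rwa [norm_oconj])
    (ClassicalGeometry.TrialitySpaces.oconj_ne_zero hz0) h1

theorem dec {U : Submodule F (V8 F)} (hN : Nd (Q8 F) U) (v : V8 F) : ∃ y ∈ U, ∃ z ∈ prp (Q8 F) U, y + z = v :=
  Submodule.mem_sup.1 (hN.sup_prp nondeg8' ▸ Submodule.mem_top)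

/-- the product of three reflections -/
theorem exists_s (h2 : (2 : F) ≠ 0) {U : Submodule F (V8 F)} (hN : Nd (Q8 F) U) (h3 : finrank F U = 3) :
    ∃ s : GL8 F, (∀ y ∈ U, s y = -y) ∧ (∀ z ∈ prp (Q8 F) U, s z = z) ∧ ¬ ∃ b c, Tr s b c := by
  obtain ⟨u, hu, hQ, ho, hs⟩ := hN.exists_orth h2 h3
  obtain ⟨D, hD⟩ : ∃ D, D = Q8 F (u 0) * Q8 F (u 1) * Q8 F (u 2) := ⟨_, rfl⟩
  have hD0 : D ≠ 0 := hD ▸ mul_ne_zero (mul_ne_zero (hQ 0) (hQ 1)) (hQ 2)
  let f : V8 F →ₗ[F] V8 F := (-D⁻¹) • (srf (u 0) ∘ₗ srf (u 1) ∘ₗ srf (u 2))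
  have hf : ∀ v, f v = (-D⁻¹) • srf (u 0) (srf (u 1) (srf (u 2) v)) := fun _ => rfl
  have h4 : ∀ y ∈ U, f y = -y := fun y hy => by
    obtain ⟨t, rfl⟩ := hs y hy
    have h5 : ∀ i j, i ≠ j → srf (u i) (u j) = - Q8 F (u i) • u j := fun i j hij => srf_perp (ho i j hij)
    rw [hf, Fin.sum_univ_three]
    simp only [map_add, map_smul, srf_self, h5 0 1 (by decide), h5 0 2 (by decide), h5 1 0 (by decide),
      h5 1 2 (by decide), h5 2 0 (by decide), h5 2 1 (by decide)]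
    match_scalars <;> field_simp <;> rw [hD] <;> ring
  have h5 : ∀ z ∈ prp (Q8 F) U, f z = z := fun z hz => by
    have h6 : ∀ i, srf (u i) z = - Q8 F (u i) • z := fun i =>
      srf_perp ((polar_comm _ _ _).trans (mem_prp.1 hz _ (hu i)))
    rw [hf]
    simp only [map_smul, h6]
    match_scalars
    field_simp
    rw [hD]
    ring
  obtain ⟨s, hs'⟩ := exists_gl (f := f) (Function.LeftInverse.injective (g := f) fun v => by
    obtain ⟨y, hy, z, hz, rfl⟩ := dec hN v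
    rw [map_add, h4 y hy, h5 z hz, map_add, map_neg, h4 y hy, h5 z hz, neg_neg])
  refine ⟨s, fun y hy => (hs' y).trans (h4 y hy), fun z hz => (hs' z).trans (h5 z hz), fun ⟨b, c, ht⟩ => ?_⟩
  refine no_swap (b := b) (c := c) (f := fun y => (-D⁻¹) • pm (pm (u 1) (pm y (u 2))) (u 0))
    (g := fun x => pm (u 0) (pm (pm (u 2) x) (u 1))) (fun x y => ?_) ?_ fun x hx => ?_
  · rw [← ht, hs', hf, srf_pm, srf_pm, srf_pm, smul_pm]
  · rw [QuadraticMap.map_smul, norm_pm, norm_pm, norm_pm, norm_one8]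
    have h6 := neg_ne_zero.2 (inv_ne_zero hD0)
    exact mul_ne_zero (mul_ne_zero h6 h6) (mul_ne_zero (mul_ne_zero (hQ 1) (mul_ne_zero one_ne_zero (hQ 2))) (hQ 0))
  · exact ((pl_injective (hQ 0)).comp ((pr_injective (hQ 1)).comp (pl_injective (hQ 2))))
      (hx.trans (by simp : (0 : V8 F) = pl (u 0) (pr (u 1) (pl (u 2) 0))))

/-- the multiplier of a similitude preserving a non-degenerate `3`-space is a square -/
theorem mult_sq (h2 : (2 : F) ≠ 0) {U : Submodule F (V8 F)} (hN : Nd (Q8 F) U) (h3 : finrank F U = 3) {a : GL8 F}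
    {m : F} (hm : ∀ x, Q8 F (a x) = m * Q8 F x) (hm0 : m ≠ 0) (ha : ∀ y ∈ U, a y ∈ U) : ∃ μ : F, μ * μ = m := by
  obtain ⟨u, hu, hQ, ho, hs⟩ := hN.exists_orth h2 h3
  choose C hC using fun i => hs _ (ha _ (hu i))
  have hp : ∀ x y, polar (Q8 F) (a x) (a y) = m * polar (Q8 F) x y := fun x y => by
    simp only [polar, ← map_add, hm]
    ring
  have hG : ∀ i j, polar (Q8 F) (u i) (u j) = Matrix.diagonal (fun i => 2 * Q8 F (u i)) i j := fun i j => by
    by_cases hij : i = j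
    · rw [hij, Matrix.diagonal_apply_eq, polar_self']
    · rw [Matrix.diagonal_apply_ne _ hij, ho i j hij]
  have hG0 : (Matrix.diagonal fun i => 2 * Q8 F (u i)).det ≠ 0 := by
    rw [Matrix.det_diagonal]
    exact Finset.prod_ne_zero_iff.2 fun i _ => mul_ne_zero h2 (hQ i)
  generalize (Matrix.diagonal fun i => 2 * Q8 F (u i)) = G at hG hG0
  have h1 : Matrix.of C * G * (Matrix.of C).transpose = m • G := by
    ext i j
    rw [Matrix.smul_apply, ← hG, smul_eq_mul, ← hp, hC i, hC j]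
    simp only [Matrix.mul_apply, Fin.sum_univ_three, Matrix.transpose_apply, Matrix.of_apply, polar_add_left,
      polar_add_right, polar_smul_left, polar_smul_right, hG, smul_eq_mul]
    ring
  have h4 := congrArg Matrix.det h1
  rw [Matrix.det_mul, Matrix.det_mul, Matrix.det_transpose, Matrix.det_smul, Fintype.card_fin] at h4
  refine ⟨(Matrix.of C).det / m, ?_⟩
  field_simp
  exact mul_right_cancel₀ hG0 (by linear_combination h4)

theorem sign {L : Subgroup (E8 F)} (hR : Rd L) {g : GL8 F} (hc : ∀ l ∈ L, ∀ x, g (l.1 x) = l.1 (g x))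
    (hg : ∀ x, g (g x) = x) {W : Submodule F (V8 F)} (hW : Iv L W) (hgW : ∀ w ∈ W, g w ∈ W)
    (hd : finrank F W = 3 ∨ finrank F W = 5) : ∃ e : F, (e = 1 ∨ e = -1) ∧ ∀ w ∈ W, g w = e • w := by
  let φ : V8 F →ₗ[F] V8 F := g.toLinearMap - LinearMap.id
  have hφ : ∀ x, φ x = g x - x := fun _ => rfl
  have h0 : ∀ l ∈ L, ∀ x, φ (l.1 x) = l.1 (φ x) := fun l hl x => by rw [hφ, hφ, hc l hl, map_sub]
  have h1 := (φ.domRestrict W).finrank_range_add_finrank_ker
  rw [LinearMap.range_domRestrict, LinearMap.ker_domRestrict, ← Submodule.finrank_map_subtype_eq,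
    Submodule.map_comap_subtype] at h1
  have h3 := (hR _ (iv_map hW h0)).2
  have h4 := (hR _ (iv_inf hW (iv_ker h0))).2
  by_cases h5 : finrank F (W.map φ) = 0
  · refine ⟨1, Or.inl rfl, fun w hw => ?_⟩
    have h6 : φ w ∈ W.map φ := ⟨w, hw, rfl⟩
    rwa [Submodule.finrank_eq_zero.1 h5, Submodule.mem_bot, hφ, sub_eq_zero, ← one_smul F w, map_smul, one_smul] at h6
  · refine ⟨-1, Or.inr rfl, fun w hw => ?_⟩
    have h6 : g w + w ∈ W ⊓ LinearMap.ker φ :=
      ⟨add_mem (hgW w hw) hw, by rw [SetLike.mem_coe, LinearMap.mem_ker, hφ, map_add, hg, add_comm, sub_self]⟩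
    rw [Submodule.finrank_eq_zero.1 (show finrank F ↥(W ⊓ LinearMap.ker φ) = 0 by omega), Submodule.mem_bot] at h6
    rw [neg_one_smul]
    exact eq_neg_of_add_eq_zero_left h6

theorem uniq3 {L : Subgroup (E8 F)} (hR : Rd L) {U U' : Submodule F (V8 F)} (hU : Iv L U) (hU' : Iv L U')
    (h3 : finrank F U = 3) (h3' : finrank F U' = 3) : U' ≤ U := by
  have h1 := Submodule.finrank_sup_add_finrank_inf_eq U U'
  have h2 := finrank_prp nondeg8' (U ⊔ U')
  have h4 := (hR _ (iv_inf hU hU')).2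
  have h5 := (hR _ (iv_prp (iv_sup hU hU'))).2
  have h6 := Submodule.finrank_mono (inf_le_right : U ⊓ U' ≤ U')
  rw [finrank8] at h2
  exact (Submodule.eq_of_le_of_finrank_eq (inf_le_right : U ⊓ U' ≤ U') (by omega)).ge.trans inf_le_left

section cb

variable {A : Subgroup (G8 F)} {Γ : Subgroup (MulAut (G8 F))} {M₁ M₂ : Gam (Q8 F)} {N : Subgroup (G8 F)}
  {𝓣 : Set (Subgroup (G8 F))} (h : Cb A Γ M₁ M₂ N 𝓣) (hR : Rd (lf N)) {U : Submodule F (V8 F)} (hU : Iv (lf N) U)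
  (h3 : finrank F U = 3)
include hR hU h3

theorem two_ne : (2 : F) ≠ 0 := fun h2 => by
  have h1 := (hR U hU).1.even (s := LinearMap.id) (fun _ hx => hx) (fun x _ => by
    rw [LinearMap.id_apply, polar_self', h2, zero_mul]) fun _ _ hx => hx
  rw [h3] at h1
  exact absurd h1 (by decide)

include h

theorem hasC : HasC N := by
  have hN := (hR U hU).1
  obtain ⟨s, h1, h4, h5⟩ := exists_s (two_ne hR hU h3) hN h3
  have hO : s ∈ O (Q8 F) := fun v => by
    obtain ⟨y, hy, z, hz, rfl⟩ := dec hN v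
    rw [map_add, h1 y hy, h4 z hz, Q_add, Q_add, QuadraticMap.map_neg, polar_neg_left, polar_comm,
      mem_prp.1 hz y hy, neg_zero]
  refine ⟨ofO (Q8 F) ⟨s, hO⟩, fun e => h5 ?_, fun n hn => ?_⟩
  · rw [← MonoidHom.mem_ker, ker_Psi good8] at e
    obtain ⟨a, ha⟩ := e
    refine ⟨LinearEquiv.smulOfNeZero F (V8 F) a.1 a.ne_zero, 1, fun x y => ?_⟩
    have h6 : (a : F) • pm x y = s (pm x y) := congrArg (fun M : Gam (Q8 F) => M.1 (pm x y)) ha
    rw [← h6]
    exact (smul_pm _ x y).symm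
  · obtain ⟨a, ha, rfl⟩ := onto h hn
    rw [Psi_mk]
    refine congrArg (QuotientGroup.mk : E8 F → G8 F) (e8_ext fun v => ?_)
    obtain ⟨v, rfl⟩ := (ofO (Q8 F) ⟨s, hO⟩).1.surjective v
    rw [conjE_apply]
    show s (a.1 v) = a.1 (s v)
    obtain ⟨y, hy, z, hz, rfl⟩ := dec hN v
    rw [map_add, map_add, map_add, map_add, h1 y hy, h4 z hz, h1 _ (hU a ha y hy), h4 _ (iv_prp hU a ha z hz), map_neg]

theorem c0 : C0 (lf N) := fun a b c ht ⟨m, hm⟩ hc => by
  have hN := (hR U hU).1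
  have h2 := two_ne hR hU h3
  have hm0 : m ≠ 0 := fun e => by
    obtain ⟨x, hx⟩ := a.surjective (one8 F)
    have h1 := hm x
    rw [hx, norm_one8, e, zero_mul] at h1
    exact one_ne_zero h1
  have haU : ∀ y ∈ U, a y ∈ U := fun y hy =>
    uniq3 hR hU (iv_map hU (f := a.toLinearMap) hc) h3 ((LinearEquiv.finrank_map_eq a U).trans h3) ⟨y, hy, rfl⟩
  obtain ⟨μ, rfl⟩ := mult_sq h2 hN h3 hm hm0 haU
  have hμ : μ ≠ 0 := left_ne_zero_of_mul hm0
  obtain ⟨g, hg⟩ : ∃ g : GL8 F, ∀ x, g x = μ⁻¹ • a x :=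
    ⟨LinearEquiv.smulOfNeZero F (V8 F) μ⁻¹ (inv_ne_zero hμ) * a, fun _ => rfl⟩
  have hag : ∀ x, a x = μ • g x := fun x => by rw [hg, smul_inv_smul₀ hμ]
  have hO : g ∈ O (Q8 F) := fun x => by
    rw [hg, QuadraticMap.map_smul, hm, smul_eq_mul]
    field_simp
  have hgc : ∀ l ∈ lf N, ∀ x, g (l.1 x) = l.1 (g x) := fun l hl x => by rw [hg, hg, hc l hl, map_smul]
  have hgU : ∀ y ∈ U, g y ∈ U := fun y hy => hg y ▸ U.smul_mem _ (haU y hy)
  obtain ⟨d, hd⟩ := cen_sc h (g := ⟨g * g, H206.OrthBal.sq_mem_E good8 hO⟩) fun l hl x => by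
    show g (g (l.1 x)) = l.1 (g (g x))
    rw [hgc l hl, hgc l hl]
  have hd' : ∀ x, g (g x) = d • x := hd
  rcases sq_cases hd.sq with rfl | rfl
  swap
  · have h1 := hN.even (s := g.toLinearMap) hgU (fun x _ => by
      have h4 := polar_map hO x (g x)
      rw [hd', polar_smul_right, polar_comm, smul_eq_mul] at h4
      exact (mul_eq_zero.1 (show 2 * polar (Q8 F) x (g x) = 0 by linear_combination -h4)).resolve_left h2)
      fun x _ hx => g.map_eq_zero_iff.1 hx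
    rw [h3] at h1
    exact absurd h1 (by decide)
  simp only [one_smul] at hd'
  have h5 := finrank_prp nondeg8' U
  rw [finrank8] at h5
  obtain ⟨e, he, k1⟩ := sign hR hgc hd' hU hgU (Or.inl h3)
  obtain ⟨e', he', k2⟩ := sign hR hgc hd' (iv_prp hU) (fun _ => prp_inv hO hgU) (Or.inr (by omega))
  by_cases hee : e = e'
  · refine ⟨μ * e, fun v => ?_⟩
    obtain ⟨y, hy, z, hz, rfl⟩ := dec hN v
    rw [hag, map_add, k1 y hy, k2 z hz, hee, ← smul_add, smul_smul]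
  obtain ⟨s, h1, h4, h6⟩ := exists_s h2 hN h3
  have h7 : e = -e' := by
    rcases he with rfl | rfl <;> rcases he' with rfl | rfl
    exacts [(hee rfl).elim, (neg_neg 1).symm, rfl, (hee rfl).elim]
  have h8 : μ * e' ≠ 0 := mul_ne_zero hμ (by rcases he' with rfl | rfl <;> simp)
  refine (h6 ⟨LinearEquiv.smulOfNeZero F (V8 F) _ (inv_ne_zero h8) * b, c, fun x y => ?_⟩).elim
  rw [LinearEquiv.mul_apply, LinearEquiv.smulOfNeZero_apply, smul_pm, ← ht, eq_inv_smul_iff₀ h8, hag]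
  obtain ⟨y, hy, z, hz, e⟩ := dec hN (pm x y)
  rw [← e, map_add, map_add, h1 y hy, h4 z hz, k1 y hy, k2 z hz, h7]
  module

end cb

end Irr

/-- [35] -/
theorem box35 : Box35 := fun _ _ _ _ _ _ _ _ _ _ h hR _ hU h3 => ⟨Irr.c0 h hR hU h3, Irr.hasC h hR hU h3⟩

end Cfsg.Agent.N2C.D4
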