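import Cfsg.Agent.N2.Cl.D4.Defs
import Cfsg.Agent.H206.OrthBal

/-!
# N2 (S3519), `PΩ₈⁺(q)` with triality: the perfect lift, invariant subspaces (helper46)
-/

set_option autoImplicit false
set_option linter.unusedSectionVars false

namespace Cfsg.Agent.N2C.D4

open QuadraticMap Module Cfsg.Agent.LieClassical.QuadForms Cfsg.Agent.LieClassical.OrthCore
  Cfsg.Agent.LieClassical.OrthTrans Cfsg.Agent.ClassicalGeometry.OrthSemi Cfsg.Agent.ClassicalGeometry.OrthAut1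
  Cfsg.Agent.ClassicalGeometry.TrialityOct Cfsg.Agent.ClassicalGeometry.Triality
  Cfsg.Agent.H989.OutOrth.Basic Cfsg.Agent.H989.OutOrth.Tri Cfsg.Agent.SB.D4
open scoped commutatorElement

namespace Irr

/-! ### group theory -/

/-- commutators of elements fixing a line fix its vectors -/
theorem fix_of_line {G W K : Type} [Group G] [Field K] [AddCommGroup W] [Module K W] (act : G → W → W)
    (h1 : ∀ w, act 1 w = w) (hm : ∀ a b w, act (a * b) w = act a (act b w))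
    (hs : ∀ a (c : K) w, act a (c • w) = c • act a w) {H : Subgroup G} {w : W}
    (h : ∀ a ∈ H, ∃ c : K, act a w = c • w) : ∀ a ∈ ⁅H, H⁆, act a w = w := by
  let S : Subgroup G :=
    { carrier := {a | act a w = w}
      mul_mem' := fun {a b} (ha : act a w = w) (hb : act b w = w) => (by rw [hm, hb, ha] : act (a * b) w = w)
      one_mem' := h1 w
      inv_mem' := fun {a} (ha : act a w = w) =>
        (by conv_lhs => rw [← ha, ← hm, inv_mul_cancel, h1] : act a⁻¹ w = w) }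
  have h2 : ⁅H, H⁆ ≤ S := Subgroup.commutator_le.2 fun a ha b hb => by
    obtain ⟨c, hc⟩ := h _ (inv_mem ha)
    obtain ⟨d, hd⟩ := h _ (inv_mem hb)
    have e : act (a⁻¹ * b⁻¹) w = act (b⁻¹ * a⁻¹) w := by rw [hm, hm, hc, hd, hs, hs, hc, hd, smul_comm]
    show act ⁅a, b⁆ w = w
    rw [commutatorElement_def, mul_assoc (a * b), hm, e, ← hm, ← mul_inv_rev, mul_inv_cancel, h1]
  exact h2

/-- index at most two -/
theorem comm_le {G : Type} [Group G] {L H : Subgroup G} (h : ∀ a ∈ L, ∀ b ∈ L, a ∉ H → b ∉ H → a⁻¹ * b ∈ H) :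
    ⁅L, L⁆ ≤ H := by
  have key : ∀ a ∈ L, ∀ b ∈ L, a * b ∈ H → b * a ∈ H := fun a ha b hb hab => by
    by_cases h1 : a ∈ H
    · exact mul_mem ((mul_mem_cancel_left h1).1 hab) h1
    · have h2 := h b⁻¹ (inv_mem hb) a ha (fun h3 => h1 ((mul_mem_cancel_right (inv_mem_iff.1 h3)).1 hab)) h1
      rwa [inv_inv] at h2
  refine Subgroup.commutator_le.2 fun a ha b hb => ?_
  rw [commutatorElement_def, mul_assoc (a * b), ← mul_inv_rev]
  by_cases h1 : a * b ∈ H
  · exact mul_mem h1 (inv_mem (key a ha b hb h1))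
  · have h2 := h _ (inv_mem (mul_mem ha hb)) _ (inv_mem (mul_mem hb ha)) (fun h3 => h1 (inv_mem_iff.1 h3))
      fun h3 => h1 (key b hb a ha (inv_mem_iff.1 h3))
    rwa [inv_inv] at h2

theorem comm_le_self {G : Type} [Group G] (N : Subgroup G) : ⁅N, N⁆ ≤ N :=
  Subgroup.commutator_le.2 fun _ ha _ hb => mul_mem (mul_mem (mul_mem ha hb) (inv_mem ha)) (inv_mem hb)

theorem le_comm_of_simple {G : Type} [Group G] {S : Subgroup G} (h : IsSimpleGroup S) (hn : ¬ IsMulCommutative S) :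
    S ≤ ⁅S, S⁆ := by
  rcases (inferInstance : (commutator S).Normal).eq_bot_or_eq_top with h1 | h1
  · rw [commutator_def, Subgroup.commutator_eq_bot_iff_le_centralizer] at h1
    exact (hn ⟨⟨fun a b => h1 (Subgroup.mem_top b) a (Subgroup.mem_top a)⟩⟩).elim
  · have h2 := congrArg (Subgroup.map S.subtype) h1
    rw [commutator_def, Subgroup.map_commutator, ← MonoidHom.range_eq_map, Subgroup.range_subtype] at h2
    exact h2.ge

/-! ### the lift -/

variable {F : Type} [Field F] [Fintype F]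

theorem mk_mem {N : Subgroup (G8 F)} {a : E8 F} (ha : a ∈ lf N) : (a : G8 F) ∈ N :=
  comm_le_self (N.comap (QuotientGroup.mk' _)) ha

theorem no_pt {N : Subgroup (G8 F)} (hf : NoFix (lf N)) {v : V8 F}
    (hv : ∀ a : E8 F, (a : G8 F) ∈ N → ∃ c : F, a.1 v = c • v) : v = 0 :=
  hf v (fix_of_line (K := F) (fun (a : E8 F) w => a.1 w) (fun _ => rfl) (fun _ _ _ => rfl)
    (fun a c w => a.1.map_smul c w) hv)

/-- the stabiliser of a subspace -/
def stb (U : Submodule F (V8 F)) : Subgroup (E8 F) where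
  carrier := {a | Kp a U U}
  mul_mem' := fun ha hb v hv => ha _ (hb v hv)
  one_mem' := fun _ hv => hv
  inv_mem' := fun {a} ha v hv => by
    obtain ⟨w, hw, rfl⟩ := exists_pre ha hv
    exact (a.1.symm_apply_apply w).symm ▸ hw

theorem iv_prp {L : Subgroup (E8 F)} {U : Submodule F (V8 F)} (h : Iv L U) : Iv L (prp (Q8 F) U) :=
  fun a ha _ hv => prp_inv (E_le_O a.2) (h a ha) hv

theorem iv_inf {L : Subgroup (E8 F)} {U W : Submodule F (V8 F)} (h : Iv L U) (h' : Iv L W) : Iv L (U ⊓ W) :=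
  fun a ha v hv => ⟨h a ha v hv.1, h' a ha v hv.2⟩

theorem iv_sup {L : Subgroup (E8 F)} {U W : Submodule F (V8 F)} (h : Iv L U) (h' : Iv L W) : Iv L (U ⊔ W) :=
  fun a ha v hv => by
    obtain ⟨y, hy, z, hz, rfl⟩ := Submodule.mem_sup.1 hv
    rw [map_add]
    exact Submodule.add_mem_sup (h a ha y hy) (h' a ha z hz)

theorem iv_map {L : Subgroup (E8 F)} {U : Submodule F (V8 F)} (h : Iv L U) {f : V8 F →ₗ[F] V8 F}
    (hf : ∀ l ∈ L, ∀ x, f (l.1 x) = l.1 (f x)) : Iv L (U.map f) := by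
  rintro a ha _ ⟨v, hv, rfl⟩
  exact ⟨_, h a ha v hv, hf a ha v⟩

theorem iv_ker {L : Subgroup (E8 F)} {f : V8 F →ₗ[F] V8 F} (hf : ∀ l ∈ L, ∀ x, f (l.1 x) = l.1 (f x)) :
    Iv L (LinearMap.ker f) := fun a ha v hv => by
  rw [LinearMap.mem_ker, hf a ha, LinearMap.mem_ker.1 hv, map_zero]

theorem prp_eq_self {S : Submodule F (V8 F)} (hs : ∀ u ∈ S, Q8 F u = 0) (h4 : finrank F S = 4) : prp (Q8 F) S = S := by
  have h1 := finrank_prp nondeg8' S
  rw [finrank8] at h1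
  exact (Submodule.eq_of_le_of_finrank_eq (fun x hx => mem_prp.2 fun y hy => polar_of_ts hs hx hy) (by omega)).symm

section cb

variable {A : Subgroup (G8 F)} {Γ : Subgroup (MulAut (G8 F))} {M₁ M₂ : Gam (Q8 F)} {N : Subgroup (G8 F)}
  {𝓣 : Set (Subgroup (G8 F))} (h : Cb A Γ M₁ M₂ N 𝓣)
include h

theorem perfN : ⁅N, N⁆ = N := le_antisymm (comm_le_self N) (by
  conv_lhs => rw [← h.sup]
  exact sSup_le fun S hS => (le_comm_of_simple (h.simple S hS).1 (h.simple S hS).2).trans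
    (Subgroup.commutator_mono (h.sup ▸ le_sSup hS) (h.sup ▸ le_sSup hS)))

theorem onto {n : G8 F} (hn : n ∈ N) : ∃ a ∈ lf N, (a : G8 F) = n := by
  have h1 : (lf N).map (QuotientGroup.mk' _) = N := by
    rw [lf, Subgroup.map_commutator, Subgroup.map_comap_eq_self_of_surjective (QuotientGroup.mk'_surjective _),
      perfN h]
  rw [← h1] at hn
  exact hn

theorem perf : ⁅lf N, lf N⁆ = lf N := by
  refine le_antisymm (comm_le_self _) (Subgroup.commutator_le.2 fun a ha b hb => ?_)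
  obtain ⟨a', ha', e1⟩ := onto h ha
  obtain ⟨b', hb', e2⟩ := onto h hb
  have h1 := Subgroup.mem_center_iff.1 (QuotientGroup.eq.1 e1)
  have h2 := Subgroup.mem_center_iff.1 (QuotientGroup.eq.1 e2)
  obtain ⟨z, rfl⟩ : ∃ z, a = a' * z := ⟨a'⁻¹ * a, by group⟩
  obtain ⟨w, rfl⟩ : ∃ w, b = b' * w := ⟨b'⁻¹ * b, by group⟩
  rw [inv_mul_cancel_left] at h1 h2
  have h3 : ⁅a' * z, b' * w⁆ = ⁅a', b'⁆ := by
    rw [commutatorElement_def, commutatorElement_def, mul_assoc a' z, ← h1, h2 b', mul_inv_rev, mul_inv_rev,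
      ← mul_assoc a', ← mul_assoc a', h2 a']
    calc w * a' * b' * z * (z⁻¹ * a'⁻¹) * (b'⁻¹ * w⁻¹) = w * (a' * b' * a'⁻¹ * b'⁻¹) * w⁻¹ := by group
      _ = _ := by rw [← h2, mul_inv_cancel_right]
  rw [h3]
  exact Subgroup.commutator_mem_commutator ha' hb'

theorem iv_all {U : Submodule F (V8 F)} (hU : Iv (lf N) U) {a : E8 F} (ha : (a : G8 F) ∈ N) : Kp a U U := fun v hv => by
  obtain ⟨a', ha', e⟩ := onto h ha
  obtain ⟨d, -, hd⟩ := mk_eq_iff.1 e
  rw [hd]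
  exact U.smul_mem _ (hU a' ha' v hv)

theorem cen_sc {g : E8 F} (hg : ∀ a ∈ lf N, ∀ x, g.1 (a.1 x) = a.1 (g.1 x)) : ∃ e, Sc g e := by
  refine mk_eq_one_iff.1 (h.cen _ fun n hn => ?_)
  obtain ⟨a, ha, rfl⟩ := onto h hn
  exact congrArg (QuotientGroup.mk : E8 F → G8 F) (e8_ext fun x => (hg a ha x).symm : a * g = g * a)

theorem no1 (hf : NoFix (lf N)) {U : Submodule F (V8 F)} (hU : Iv (lf N) U) : finrank F U ≠ 1 := fun h1 => by
  obtain ⟨v, hv0, hv⟩ := finrank_eq_one_iff'.1 h1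
  refine hv0 (Subtype.ext (no_pt hf fun a ha => ?_))
  obtain ⟨c, hc⟩ := hv ⟨_, iv_all h hU ha v v.2⟩
  exact ⟨c, (congrArg Subtype.val hc).symm⟩

theorem no2 {U : Submodule F (V8 F)} (hU : Iv (lf N) U) (hs : ∀ u ∈ U, Q8 F u = 0) : finrank F U ≠ 2 := fun h2 => by
  let β := Module.finBasisOfFinrankEq F U h2
  have hsp : ∀ u ∈ U, ∃ s t : F, u = s • (β 0 : V8 F) + t • (β 1 : V8 F) := fun u hu =>
    ⟨β.repr ⟨u, hu⟩ 0, β.repr ⟨u, hu⟩ 1, by
      have h1 := congrArg Subtype.val (β.sum_repr ⟨u, hu⟩).symm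
      rw [Fin.sum_univ_two] at h1
      exact h1⟩
  have h0 : (β 0 : V8 F) ≠ 0 := fun e => β.ne_zero 0 (Subtype.ext e)
  have hi : ∀ c : F, (β 1 : V8 F) ≠ c • (β 0 : V8 F) := fun c e => by
    have h1 := congrArg (fun x => β.repr x 1) (Subtype.ext e : β 1 = c • β 0)
    simp at h1
  have he := (β 0).2
  have he' := (β 1).2
  generalize (β 0 : V8 F) = e, (β 1 : V8 F) = e' at *
  have h3 := fix_of_line (K := F) (fun (a : E8 F) (f : V8 F → V8 F) v => a.1 (f (a⁻¹.1 v))) (fun _ => rfl)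
    (fun a b f => by rw [mul_inv_rev]; rfl) (fun a c f => funext fun v => a.1.map_smul c _) (H := lf N)
    (w := wd (Q8 F) e e') fun a ha => by
      obtain ⟨s, t, h4⟩ := hsp _ (hU a ha e he)
      obtain ⟨s', t', h5⟩ := hsp _ (hU a ha e' he')
      refine ⟨s * t' - t * s', funext fun v => ?_⟩
      have h6 : ∀ x, polar (Q8 F) x (a⁻¹.1 v) = polar (Q8 F) (a.1 x) v := fun x => (polar_inv (E_le_O a.2) x v).symm
      rw [Pi.smul_apply, wd, wd, map_sub, map_smul, map_smul, h6, h6, h4, h5]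
      simp only [polar_add_left, polar_smul_left, smul_eq_mul]
      module
  rw [perf h] at h3
  have hee := polar_of_ts hs he he'
  have h4 : ∀ v, siegel (Q8 F) e e' (hs e he) hee v = v + wd (Q8 F) e e' v := fun v => by
    rw [siegel_apply, hs e' he', zero_mul, zero_smul, sub_zero, wd, add_sub_assoc]
  obtain ⟨d, hd⟩ := cen_sc h (g := ⟨siegel (Q8 F) e e' (hs e he) hee, siegel_mem_E _ _⟩) fun a ha x => by
    have h5 := congrFun (h3 a ha) (a.1 x)
    rw [show a⁻¹.1 (a.1 x) = x from a.1.symm_apply_apply x] at h5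
    rw [h4, h4, map_add, h5]
  have h5 : ∀ v, v + wd (Q8 F) e e' v = d • v := fun v => (h4 v).symm.trans (hd v)
  have h6 := h5 e
  rw [wd, polar_of_ts hs he he, polar_of_ts hs he' he, zero_smul, zero_smul, sub_zero, add_zero] at h6
  obtain rfl : 1 = d := smul_left_injective F h0 ((one_smul F e).trans h6)
  obtain ⟨g, -, hg⟩ := (nd_top (nondeg8' (F := F))).exists_one (e := e) trivial h0
  have h7 := h5 g
  rw [one_smul, add_eq_left, wd, hg, one_smul, sub_eq_zero] at h7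
  exact hi _ h7

theorem no4 (hf : NoFix (lf N)) {U : Submodule F (V8 F)} (hU : Iv (lf N) U) (hs : ∀ u ∈ U, Q8 F u = 0) :
    finrank F U ≠ 4 := fun h4 => by
  have := simple8 (F := F)
  have := finite8 (F := F)
  obtain ⟨x, hx, hx0, hx'⟩ := ClassicalGeometry.TrialitySpaces.isOct_of_singular hs h4
  have hy : Q8 F (oconj x) = 0 := by rwa [norm_oconj]
  have hy0 := ClassicalGeometry.TrialitySpaces.oconj_ne_zero hx0
  rw [← oconj_oconj x, ← range_pl, ← range_pr] at hx'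
  generalize oconj x = y at *
  rcases hx' with rfl | rfl
  · obtain ⟨α, hα, hM⟩ := h.e1
    refine gam_ne M₁ hy0 (no_pt hf fun a' ha' => ?_)
    rw [← conjE_conjE_inv M₁ a'] at ha' ⊢
    obtain ⟨a, c, ht⟩ := exists_T3₁ (conjE (Q8 F) M₁⁻¹ a')
    generalize conjE (Q8 F) M₁⁻¹ a' = b at *
    rw [← hM a b c ht, h.inv.iff hα] at ha'
    obtain ⟨l, hl⟩ := pl_line hy hy0 ((mem_O.1 (E_le_O b.2) y).trans hy) (b.1.map_ne_zero_iff.2 hy0) fun t => by
      obtain ⟨t, rfl⟩ := c.1.surjective t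
      rw [← ht]
      exact iv_all h hU ha' _ ⟨t, rfl⟩
    exact conjE_eig hl
  · obtain ⟨α, hα, hM⟩ := h.e2
    refine gam_ne M₂ hy0 (no_pt hf fun a' ha' => ?_)
    rw [← conjE_conjE_inv M₂ a'] at ha' ⊢
    obtain ⟨a, b, ht⟩ := exists_T3₂ (conjE (Q8 F) M₂⁻¹ a')
    generalize conjE (Q8 F) M₂⁻¹ a' = c at *
    rw [← hM a b c ht, h.inv.iff hα] at ha'
    obtain ⟨l, hl⟩ := pr_line hy hy0 ((mem_O.1 (E_le_O c.2) y).trans hy) (c.1.map_ne_zero_iff.2 hy0) fun t => by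
      obtain ⟨t, rfl⟩ := b.1.surjective t
      rw [← ht]
      exact iv_all h hU ha' _ ⟨t, rfl⟩
    exact conjE_eig hl

omit h in
/-- a totally singular `3`-space lies in a solid -/
theorem exists_ext {R : Submodule F (V8 F)} (h3 : finrank F R = 3) :
    ∃ s ∈ prp (Q8 F) R, Q8 F s = 0 ∧ s ∉ R := by
  have hs : ∀ u ∈ LinearMap.range (pr (e8 F)), Q8 F u = 0 := by
    rintro _ ⟨t, rfl⟩
    rw [pr_apply, norm_pm, norm_e8, mul_zero]
  have h4 := finrank_pr (norm_e8 (F := F)) e8_ne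
  have h1 := prp_eq_self hs h4
  generalize LinearMap.range (pr (e8 F)) = S at *
  by_contra hc
  push Not at hc
  have h2 : prp (Q8 F) (S ⊔ R) ≤ S ⊓ R := fun x hx => by
    have h5 : x ∈ S := h1 ▸ prp_anti le_sup_left hx
    exact ⟨h5, hc x (prp_anti le_sup_right hx) (hs x h5)⟩
  have h5 := Submodule.finrank_mono h2
  have h6 := finrank_prp nondeg8' (S ⊔ R)
  have h7 := Submodule.finrank_sup_add_finrank_inf_eq S R
  rw [finrank8] at h6
  omega

theorem no3 (hf : NoFix (lf N)) {R : Submodule F (V8 F)} (hU : Iv (lf N) R) (hs : ∀ u ∈ R, Q8 F u = 0) :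
    finrank F R ≠ 3 := fun h3 => by
  obtain ⟨s, hs1, hs2, hs3⟩ := exists_ext h3
  have hm : ∀ x, x ∈ R ⊔ Submodule.span F {s} ↔ ∃ r ∈ R, ∃ c : F, x = r + c • s := fun x => by
    rw [Submodule.mem_sup]
    constructor
    · rintro ⟨r, hr, z, hz, rfl⟩
      obtain ⟨c, rfl⟩ := Submodule.mem_span_singleton.1 hz
      exact ⟨r, hr, c, rfl⟩
    · rintro ⟨r, hr, c, rfl⟩
      exact ⟨r, hr, _, Submodule.mem_span_singleton.2 ⟨c, rfl⟩, rfl⟩
  have h4 : finrank F ↥(R ⊔ Submodule.span F {s}) = 4 := by rw [Submodule.finrank_sup_span_singleton hs3, h3]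
  generalize R ⊔ Submodule.span F {s} = S at *
  have hS : ∀ u ∈ S, Q8 F u = 0 := fun u hu => by
    obtain ⟨r, hr, c, rfl⟩ := (hm u).1 hu
    rw [Q_add, hs r hr, QuadraticMap.map_smul, hs2, polar_smul_right, polar_comm, mem_prp.1 hs1 r hr]
    simp
  have h5 : ∀ x ∈ prp (Q8 F) R, polar (Q8 F) x s = 0 → x ∈ S := fun x hx hx' => by
    rw [← prp_eq_self hS h4]
    refine mem_prp.2 fun y hy => ?_
    obtain ⟨r, hr, c, rfl⟩ := (hm y).1 hy
    rw [polar_add_right, polar_smul_right, mem_prp.1 hx r hr, hx', smul_zero, add_zero]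
  have h6 : ∀ a ∈ lf N, a.1 s ∈ S → a ∈ stb S := fun a ha h7 y hy => by
    obtain ⟨r, hr, c, rfl⟩ := (hm y).1 hy
    rw [map_add, map_smul]
    exact add_mem ((hm _).2 ⟨_, hU a ha r hr, 0, by simp⟩) (S.smul_mem _ h7)
  refine no4 h hf (fun a ha => ?_) hS h4
  rw [← perf h] at ha
  refine comm_le (H := stb S) (fun a ha b hb ha' hb' => h6 _ (mul_mem (inv_mem ha) hb) ?_) ha
  have p1 := iv_prp hU a ha s hs1
  have p2 := iv_prp hU b hb s hs1
  have q1 : polar (Q8 F) (a.1 s) s ≠ 0 := fun e => ha' (h6 a ha (h5 _ p1 e))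
  have q2 : polar (Q8 F) (b.1 s) s ≠ 0 := fun e => hb' (h6 b hb (h5 _ p2 e))
  obtain ⟨t, ht⟩ : ∃ t : F, polar (Q8 F) (b.1 s) s = t * polar (Q8 F) (a.1 s) s := ⟨_, (div_mul_cancel₀ _ q1).symm⟩
  obtain ⟨r, hr, c, hc⟩ := (hm _).1 (h5 (b.1 s - t • a.1 s) (sub_mem p2 (Submodule.smul_mem _ _ p1)) (by
    rw [polar_sub_left, polar_smul_left, ht, smul_eq_mul, sub_self]))
  rw [sub_eq_iff_eq_add] at hc
  have h7 := mem_O.1 (E_le_O b.2) s
  rw [hc, Q_add, Q_add, hs r hr, QuadraticMap.map_smul, QuadraticMap.map_smul, mem_O.1 (E_le_O a.2), hs2,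
    polar_smul_right, polar_smul_right, polar_add_left, polar_smul_left, polar_comm _ r, polar_comm _ r,
    mem_prp.1 hs1 r hr, mem_prp.1 p1 r hr, polar_comm _ s] at h7
  have h8 : c = 0 := by
    rw [ht] at q2
    refine mul_left_cancel₀ q2 ?_
    simp only [smul_eq_mul] at h7
    linear_combination h7
  rw [e8_mul, hc, h8, zero_smul, add_zero, map_add, map_smul, show a⁻¹.1 (a.1 s) = s from a.1.symm_apply_apply s]
  exact (hm _).2 ⟨_, hU _ (inv_mem ha) r hr, t, rfl⟩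

theorem ts_bot (hf : NoFix (lf N)) {R : Submodule F (V8 F)} (hU : Iv (lf N) R) (hs : ∀ u ∈ R, Q8 F u = 0) : R = ⊥ := by
  have h1 := no1 h hf hU
  have h2 := no2 h hU hs
  have h3 := no3 h hf hU hs
  have h4 := no4 h hf hU hs
  have h5 : finrank F R ≤ 4 := ClassicalGeometry.TrialitySpaces.finrank_le_four hs
  exact Submodule.finrank_eq_zero.1 (by omega)

theorem nd (hf : NoFix (lf N)) {U : Submodule F (V8 F)} (hU : Iv (lf N) U) : Nd (Q8 F) U := fun x hx hx' => by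
  let R : Submodule F (V8 F) :=
    { carrier := {w | w ∈ U ⊓ prp (Q8 F) U ∧ Q8 F w = 0}
      add_mem' := fun {v w} hv hw => ⟨add_mem hv.1 hw.1, by
        rw [Q_add, hv.2, hw.2, mem_prp.1 hv.1.2 w hw.1.1, add_zero, add_zero]⟩
      zero_mem' := ⟨zero_mem _, map_zero _⟩
      smul_mem' := fun c v hv => ⟨Submodule.smul_mem _ _ hv.1, by rw [QuadraticMap.map_smul, hv.2, smul_zero]⟩ }
  have hW := iv_inf hU (iv_prp hU)
  have h0 : R = ⊥ := ts_bot h hf (fun a ha v hv => ⟨hW a ha v hv.1, (mem_O.1 (E_le_O a.2) v).trans hv.2⟩)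
    fun u hu => hu.2
  refine hf x fun a ha => sub_eq_zero.1 ?_
  have h1 : x ∈ U ⊓ prp (Q8 F) U := ⟨hx, mem_prp.2 hx'⟩
  have h2 : a.1 x - x ∈ R := ⟨sub_mem (hW a ha x h1) h1, by
    have h3 := hx' x hx
    rw [polar_self'] at h3
    rw [sub_eq_add_neg, Q_add, QuadraticMap.map_neg, mem_O.1 (E_le_O a.2), polar_neg_right, polar_comm,
      hx' _ (hU a ha x hx)]
    linear_combination h3⟩
  rwa [h0] at h2

end cb

end Irr

/-- [Irr] -/
theorem boxIrr : BoxIrr := fun hL F _ _ _ _ _ _ N _ h hf U hU => by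
  refine ⟨Irr.nd h hf hU, Irr.no1 h hf hU, fun h2 => ?_⟩
  have h1 : U = ⊥ := eq_bot_iff.2 fun x hx =>
    hf x fun a ha => (hL.p2 F U h2 (Irr.nd h hf hU)).2 _ (Irr.perf h) hU a ha x hx
  rw [h1, finrank_bot] at h2
  omega

end Cfsg.Agent.N2C.D4
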