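import Cfsg.Agent.N2.Cl.D4.Defs
import Cfsg.Agent.SB.D4.K3
import Cfsg.Agent.H198.TriBase
import Cfsg.Agent.H206.OrthBal

/-!
# N2 (S3519), `PΩ₈⁺(q)` with triality: [K] the commutant (helper12)
-/

set_option autoImplicit false
set_option linter.unusedSectionVars false

namespace Cfsg.Agent.N2C.D4

open QuadraticMap Module Cfsg.Agent.LieClassical.QuadForms Cfsg.Agent.LieClassical.OrthCore
  Cfsg.Agent.LieClassical.OrthTrans Cfsg.Agent.ClassicalGeometry.OrthSemi Cfsg.Agent.ClassicalGeometry.OrthAut1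
  Cfsg.Agent.ClassicalGeometry.TrialityOct Cfsg.Agent.ClassicalGeometry.Triality
  Cfsg.Agent.H989.OutOrth.Basic Cfsg.Agent.H989.OutOrth.Tri Cfsg.Agent.SB.D4

namespace Kb

/-- a finite domain which acts on a space of dimension eight -/
theorem exists_quad {F A V : Type} [Field F] [Ring A] [Algebra F A] [Finite A] [IsDomain A] [AddCommGroup V] [Module F V]
    [Module A V] [IsScalarTower F A V] (h8 : finrank F V = 8) (h1 : finrank F A ≠ 1) {t d : F}
    (h : ∀ r : F, r ^ 2 ≠ d + t * r) : ∃ j : A, j * j = d • 1 + t • j := by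
  let _ := (Finite.isDomain_to_isField A).toField
  have := Fact.mk h
  have h2 : finrank F A ∣ 2 ^ 3 := Dvd.intro _ ((finrank_mul_finrank F A V).trans h8)
  obtain ⟨i, -, hi⟩ := (Nat.dvd_prime_pow Nat.prime_two).1 h2
  obtain ⟨φ⟩ := FiniteField.nonempty_algHom_of_finrank_dvd (F := F) (K := QuadraticAlgebra F d t) (L := A) (by
    rw [QuadraticAlgebra.finrank_eq_two, hi]
    exact dvd_pow_self 2 fun e => h1 (by rw [hi, e, pow_zero]))
  exact ⟨φ QuadraticAlgebra.omega, by rw [← map_mul, QuadraticAlgebra.omega_mul_omega_eq_add, map_add, map_smul, map_smul, map_one]⟩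

theorem comm_of {G A : Type} [Group G] [CommGroup A] {H : Subgroup G} {R : G → A → Prop} (h1 : R 1 1)
    (hm : ∀ a b e e', R a e → R b e' → R (a * b) (e * e')) (hi : ∀ a e, R a e → R a⁻¹ e⁻¹) (h : ∀ b ∈ H, ∃ e, R b e) :
    ∀ b ∈ ⁅H, H⁆, R b 1 := by
  let K : Subgroup G :=
    { carrier := {b | R b 1}
      one_mem' := h1
      mul_mem' := fun k k' => one_mul (1 : A) ▸ hm _ _ _ _ k k'
      inv_mem' := fun k => (inv_one : (1 : A)⁻¹ = 1) ▸ hi _ _ k }
  refine (Subgroup.commutator_le (H₃ := K)).2 fun a ha b hb => ?_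
  obtain ⟨e, he⟩ := h a ha
  obtain ⟨e', he'⟩ := h b hb
  have h2 := hm _ _ _ _ (hm _ _ _ _ (hm _ _ _ _ he he') (hi _ _ he)) (hi _ _ he')
  rwa [mul_inv_cancel_comm, mul_inv_cancel] at h2

theorem exists_as (F : Type) [Field F] [Finite F] (h2 : (2 : F) = 0) : ∃ d : F, (∀ r : F, r ^ 2 ≠ d + 1 * r) ∧
    ∀ l : F, ∃ s : F, s * (s + 1) = d + l ∨ s * (s + 1) = l := by
  let f : F →+ F := AddMonoidHom.mk' (fun s => s * (s + 1)) fun a b => by linear_combination a * b * h2
  have h3 : f.range.index = 2 := by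
    rw [AddSubgroup.index_range, Nat.card_eq_two_iff' (0 : f.ker)]
    refine ⟨⟨1, show (1 : F) * (1 + 1) = 0 by linear_combination h2⟩, fun e => one_ne_zero (congrArg Subtype.val e),
      fun ⟨s, hs⟩ e => Subtype.ext ?_⟩
    rcases mul_eq_zero.1 (show s * (s + 1) = 0 from hs) with k | k
    · exact absurd (Subtype.ext k) e
    · show s = 1
      linear_combination k - h2
  obtain ⟨d, hd⟩ : ∃ d, d ∉ f.range := by
    by_contra e
    push Not at e
    rw [(AddSubgroup.eq_top_iff' _).2 e, AddSubgroup.index_top] at h3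
    omega
  refine ⟨d, fun r e => hd ⟨r, show r * (r + 1) = d by linear_combination e + r * h2⟩, fun l => ?_⟩
  by_cases e : l ∈ f.range
  · exact e.imp fun _ => .inr
  · exact ((AddSubgroup.add_mem_iff_of_index_two h3).2 (iff_of_false hd e)).imp fun _ => .inl

theorem exists_ns (F : Type) [Field F] [Fintype F] (h2 : (2 : F) ≠ 0) : ∃ d : F, (∀ r : F, r ^ 2 ≠ d + 0 * r) ∧
    ∀ l : F, l ≠ 0 → ∃ s : F, s * s = l * d ∨ s * s = l⁻¹ := by
  classical
  obtain ⟨d, hd⟩ := FiniteField.exists_nonsquare (F := F) fun e => h2 (by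
    have := ringChar.Nat.cast_ringChar (R := F)
    rwa [e] at this)
  refine ⟨d, fun r e => hd ⟨r, by linear_combination -e⟩, fun l hl => ?_⟩
  by_cases e : IsSquare l⁻¹
  · exact e.imp fun _ k => .inr k.symm
  have h3 : quadraticChar F (l * d) = 1 := by
    rw [map_mul, quadraticChar_neg_one_iff_not_isSquare.2 hd, quadraticChar_neg_one_iff_not_isSquare.2 fun k => e k.inv]
    rfl
  exact ((quadraticChar_one_iff_isSquare (mul_ne_zero hl fun k => hd ⟨0, k.trans (mul_zero 0).symm⟩)).1 h3).imp fun _ k => .inl k.symm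

variable {F : Type} [Field F] {L : Subgroup (E8 F)} {f : End F (V8 F)}

/-- irreducible -/
def Ir (L : Subgroup (E8 F)) : Prop := ∀ U, Iv L U → U = ⊥ ∨ U = ⊤

/-- the commutant -/
def Cm (L : Subgroup (E8 F)) : Subalgebra F (End F (V8 F)) :=
  Subalgebra.centralizer F ((fun a : E8 F => a.1.toLinearMap) '' L)

theorem mem_Cm : f ∈ Cm L ↔ ∀ a ∈ L, ∀ x, a.1 (f x) = f (a.1 x) :=
  ⟨fun h a ha => LinearMap.congr_fun (h _ ⟨a, ha, rfl⟩), fun h _ ⟨a, ha, e⟩ => e ▸ LinearMap.ext (h a ha)⟩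

theorem schur (h : Ir L) (hf : f ∈ Cm L) : f = 0 ∨ Function.Injective f :=
  (h (LinearMap.ker f) fun a ha v hv => by
    rw [LinearMap.mem_ker] at hv ⊢
    rw [← mem_Cm.1 hf a ha, hv, map_zero]).symm.imp LinearMap.ker_eq_top.1 LinearMap.ker_eq_bot.1

theorem dom (h : Ir L) : IsDomain (Cm L) :=
  have : NoZeroDivisors (Cm L) := ⟨fun {a _} e => (schur h a.2).imp Subtype.ext fun k => Subtype.ext (LinearMap.ext fun x =>
    k ((LinearMap.congr_fun (congrArg Subtype.val e) x).trans (map_zero _).symm))⟩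
  NoZeroDivisors.to_isDomain (Cm L)

theorem sc_of (h : Ir L) (hf : f ∈ Cm L) {s s' : F} (hq : ∀ x, f (f x) = (s + s') • f x - (s * s') • x) :
    ∃ e : F, f = e • 1 := by
  rcases schur h (sub_mem hf ((Cm L).smul_mem (one_mem _) s)) with k | k
  · exact ⟨s, sub_eq_zero.1 k⟩
  · refine ⟨s', LinearMap.ext fun x => sub_eq_zero.1 (k ?_)⟩
    simp only [map_zero, LinearMap.sub_apply, LinearMap.smul_apply, End.one_apply, map_sub, map_smul, hq]
    module

theorem Ir.conj (h : Ir L) (M : Gam (Q8 F)) : Ir (L.map (conjE (Q8 F) M⁻¹).toMonoidHom) := fun U hU =>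
  (h (gmap M U) fun a ha v hv => mem_gmap.2 (conjE_apply M⁻¹ a v ▸ hU _ ⟨a, ha, rfl⟩ _ hv)).imp
    (fun e => eq_bot_iff.2 fun _ hv => by_contra fun k => gam_ne M k (e.le (apply_mem_gmap.2 hv)))
    fun e => eq_top_iff.2 fun _ _ => apply_mem_gmap.1 (e.ge trivial)

/-- a similitude has partners -/
theorem exists_tr [Fintype F] (j : GL8 F) {m : F} (hm : m ≠ 0) (h : ∀ x, Q8 F (j x) = m * Q8 F x) :
    ∃ g k : GL8 F, Tr j g k ∨ ∀ x y, j (pm x y) = pm (g y) (k x) := by
  have key : ∀ (i : V8 F →ₗ[F] V8 F) (g k : Equiv.Perm (V8 F)), (∀ x y, i (omul x y) = omul (g x) (k y)) →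
      ∃ g' k' : GL8 F, (∀ x, g' x = g x) ∧ ∀ x, k' x = k x := fun i g k e => by
    have e1 : ∀ x, g x = i (omul x (k.symm (one8 F))) := fun x => by rw [e, k.apply_symm_apply, omul_one]
    have e2 : ∀ x, k x = i (omul (g.symm (one8 F)) x) := fun x => by rw [e, g.apply_symm_apply, one_omul]
    exact ⟨{ g with
        map_add' := fun x y => by simp only [Equiv.toFun_as_coe, e1, add_omul, map_add]
        map_smul' := fun c x => by simp only [Equiv.toFun_as_coe, e1, smul_omul, map_smul, RingHom.id_apply] },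
      { k with
        map_add' := fun x y => by simp only [Equiv.toFun_as_coe, e2, omul_add, map_add]
        map_smul' := fun c x => by simp only [Equiv.toFun_as_coe, e2, omul_smul, map_smul, RingHom.id_apply] },
      fun _ => rfl, fun _ => rfl⟩
  rcases H198.TriBase.mem_S1 good8 ⟨j.toEquiv, RingEquiv.refl F, m, hm, j.map_add, j.map_smul, h⟩ with
    ⟨-, g, k, e⟩ | ⟨-, g, k, e⟩
  · obtain ⟨g', k', e1, e2⟩ := key j.toLinearMap g.1 k.1 e
    refine ⟨kap F * g' * kap F, kap F * k' * kap F, .inl fun x y => (e _ _).trans ?_⟩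
    show _ = omul (oconj (oconj (g' (oconj x)))) (oconj (oconj (k' (oconj y))))
    rw [oconj_oconj, oconj_oconj, e1, e2]
  · obtain ⟨g', k', e1, e2⟩ := key (j.toLinearMap ∘ₗ (kap F).toLinearMap) g.1 k.1 e
    refine ⟨kap F * g', kap F * k', .inr fun x y => ?_⟩
    show j (omul (oconj x) (oconj y)) = omul (oconj (oconj (g' y))) (oconj (oconj (k' x)))
    rw [oconj_oconj, oconj_oconj, e1, e2, ← oconj_omul]
    exact e y x

variable [Fintype F]

theorem zero_of (h : Ir L) {D : V8 F → F} (h1 : ∀ x y, D (x + y) = D x + D y) (h2 : ∀ (c : F) x, D (c • x) = c * c * D x)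
    (h3 : ∀ a ∈ L, ∀ x, D (a.1 x) = D x) (x : V8 F) : D x = 0 := by
  let D' : V8 F →+ F := AddMonoidHom.mk' D h1
  let U : Submodule F (V8 F) :=
    { D'.ker with smul_mem' := fun c x (k : D x = 0) => show D (c • x) = 0 by rw [h2, k, mul_zero] }
  rcases h U fun a ha v hv => (h3 a ha v).trans hv with e | e
  · have h4 := Nat.card_le_card_of_injective D' ((injective_iff_map_eq_zero D').2 fun v hv => e.le hv)
    rw [natCard_eq_pow_finrank (K := F), finrank8] at h4
    exact absurd h4 (not_le.2 (lt_self_pow₀ Finite.one_lt_card (by decide)))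
  · exact e.ge trivial

theorem fin (L : Subgroup (E8 F)) : Finite (Cm L) :=
  have : Finite (End F (V8 F)) := DFunLike.finite _
  inferInstance

theorem comm (h : Ir L) {f' : End F (V8 F)} (hf : f ∈ Cm L) (hf' : f' ∈ Cm L) (x : V8 F) : f (f' x) = f' (f x) :=
  have := dom h
  have := fin L
  LinearMap.congr_fun (congrArg Subtype.val ((Finite.isDomain_to_isField (Cm L)).mul_comm ⟨f, hf⟩ ⟨f', hf'⟩)) x

/-- the elements of the commutant are symmetric -/
theorem sym (h : Ir L) (ci : ∀ g ∈ O (Q8 F), (∀ a ∈ L, ∀ x, a.1 (g x) = g (a.1 x)) → ∀ x, g (g x) = x) (hf : f ∈ Cm L)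
    (x y : V8 F) : polar (Q8 F) (f x) y = polar (Q8 F) x (f y) := by
  have key : ∀ f ∈ Cm L, ∀ f' : End F (V8 F), (∀ x y, polar (Q8 F) (f' x) y = polar (Q8 F) x (f y)) → f' = f ∨ f' = -f := by
    intro f hf f' ad
    have h1 : f' ∈ Cm L := mem_Cm.2 fun a ha x => sub_eq_zero.1 (nondeg8' _ fun y => by
      obtain ⟨y, rfl⟩ := a.1.surjective y
      rw [polar_sub_left, polar_map (E_le_O a.2), ad, ad, ← mem_Cm.1 hf a ha, polar_map (E_le_O a.2), sub_self])
    rcases schur h hf with rfl | k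
    · exact .inl (LinearMap.ext fun x => nondeg8' _ fun y => by rw [ad, LinearMap.zero_apply, polar_zero_right])
    rcases schur h h1 with rfl | k'
    · refine .inl (LinearMap.ext fun y => (nondeg8' _ fun x => ?_).symm)
      rw [polar_comm, ← ad, LinearMap.zero_apply, polar_zero_left]
    obtain ⟨g, hg⟩ : ∃ g : GL8 F, ∀ x, g (f x) = f' x :=
      ⟨(LinearEquiv.ofInjectiveEndo f k).symm.trans (LinearEquiv.ofInjectiveEndo f' k'), fun x =>
        congrArg f' ((LinearEquiv.ofInjectiveEndo f k).symm_apply_apply x)⟩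
    have h2 := LinearMap.injective_iff_surjective.1 k
    have h3 : ∀ a ∈ L, ∀ x, a.1 (g x) = g (a.1 x) := fun a ha x => by
      obtain ⟨x, rfl⟩ := h2 x
      rw [hg, mem_Cm.1 hf a ha, hg, mem_Cm.1 h1 a ha]
    have h4 := ci g (mem_O.2 fun x => sub_eq_zero.1 (zero_of h (D := fun x => Q8 F (g x) - Q8 F x) (fun x y => ?_)
      (fun c x => by simp only [map_smul, QuadraticMap.map_smul, smul_eq_mul, mul_sub])
      (fun a ha x => by rw [← h3 a ha, mem_O.1 (E_le_O a.2), mem_O.1 (E_le_O a.2)]) x)) h3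
    · refine (schur h (sub_mem h1 hf)).imp sub_eq_zero.1 fun k => eq_neg_of_add_eq_zero_left (LinearMap.ext fun x => k ?_)
      have h5 := h4 (f (f x))
      rw [hg, ← comm h hf h1, hg] at h5
      simp only [LinearMap.add_apply, LinearMap.sub_apply, map_add, LinearMap.zero_apply, map_zero, h5, comm h hf h1]
      abel
    · obtain ⟨x, rfl⟩ := h2 x
      obtain ⟨y, rfl⟩ := h2 y
      rw [map_add, Q_add, Q_add, hg, hg, ad, comm h hf h1, polar_comm _ x, ad, polar_comm _ (f y)]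
      ring
  have nd : (Q8 F).polarBilin.Nondegenerate := ⟨nondeg8', fun x k => nondeg8' x fun y => (polar_comm _ _ _).trans (k y)⟩
  have ad := LinearMap.BilinForm.isAdjointPairLeftAdjointOfNondegenerate _ nd f
  generalize LinearMap.BilinForm.leftAdjointOfNondegenerate _ nd f = f' at ad
  suffices e : f' = f from e ▸ ad x y
  refine (key f hf f' ad).elim id fun e => ?_
  rcases key (1 + f) (add_mem (one_mem _) hf) (1 + f') (fun x y => by
    rw [LinearMap.add_apply, LinearMap.add_apply, polar_add_left, polar_add_right]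
    exact congrArg _ (ad x y)) with k | k
  · exact add_left_cancel k
  · rw [e, neg_add, add_left_inj] at k
    rw [e, ← neg_one_mul f, ← k, one_mul]

/-- density -/
theorem spn (h : Ir L) (hc : ∀ f ∈ Cm L, ∃ e : F, f = e • 1) : Spn L := by
  let S : Submonoid (End F (V8 F)) :=
    { carrier := (fun a : E8 F => a.1.toLinearMap) '' L
      one_mem' := ⟨1, one_mem _, rfl⟩
      mul_mem' := fun ⟨a, ha, e⟩ ⟨b, hb, e'⟩ => ⟨a * b, mul_mem ha hb, e ▸ e' ▸ rfl⟩ }
  let R := Algebra.adjoin F (S : Set (End F (V8 F)))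
  have hm : ∀ a ∈ L, a.1.toLinearMap ∈ R := fun a ha => Algebra.subset_adjoin ⟨a, ha, rfl⟩
  have : IsSimpleModule R (V8 F) := (isSimpleModule_iff _ _).2 ⟨fun U => (h (U.restrictScalars F)
    fun a ha v hv => U.smul_mem ⟨_, hm a ha⟩ hv).imp (Submodule.restrictScalars_eq_bot_iff _ _ _).1
      (Submodule.restrictScalars_eq_top_iff _ _ _).1⟩
  refine eq_top_iff.2 fun φ _ => ?_
  obtain ⟨r, hr⟩ := jacobson_density (R := R) (M := V8 F)
    { toFun := φ
      map_add' := φ.map_add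
      map_smul' := fun d v => by
        obtain ⟨e, he⟩ := hc (d.restrictScalars F) (mem_Cm.2 fun a ha x => (d.map_smul ⟨_, hm a ha⟩ x).symm)
        have h1 : ∀ x, d x = e • x := LinearMap.congr_fun he
        change φ (d v) = d (φ v)
        rw [h1, h1, map_smul] } Finset.univ
  have h1 : r.1 ∈ Subalgebra.toSubmodule R := r.2
  rw [Algebra.adjoin_eq_span, Submonoid.closure_eq] at h1
  exact (LinearMap.ext fun x => hr x (Finset.mem_univ x) : φ = r.1) ▸ h1

variable {A N : Subgroup (G8 F)} {Γ : Subgroup (MulAut (G8 F))} {M₁ M₂ : Gam (Q8 F)} {𝓣 : Set (Subgroup (G8 F))}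

theorem scM (h : Ir (lf N)) (M : Gam (Q8 F)) (hb : ∀ b : E8 F, ((conjE (Q8 F) M b : E8 F) : G8 F) ∈ N →
    ∃ e : F, e ≠ 0 ∧ ∀ x, b.1 (f x) = e • f (b.1 x)) {s : F} (hq : ∀ x, f (f x) = (s * s) • x) : ∃ e : F, f = e • 1 := by
  refine sc_of (h.conj M) (mem_Cm.2 fun b k x => ?_) (s := s) (s' := -s) fun x => by rw [hq]; module
  rw [lf, Subgroup.map_commutator] at k
  refine (comm_of (A := Fˣ) (R := fun b e => ∀ x, b.1 (f x) = (e : F) • f (b.1 x)) (fun x => (one_smul F _).symm)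
    (fun a b e e' k k' x => ?a) (fun a e k x => a.1.injective ?b) ?c b k x).trans (one_smul F _)
  case a => rw [e8_mul, e8_mul, k', map_smul, k, smul_smul, Units.val_mul, mul_comm]
  case b =>
    rw [map_smul, k, smul_smul, Units.inv_mul, one_smul, ← e8_mul, ← e8_mul, mul_inv_cancel]
    rfl
  · rintro _ ⟨b, k, rfl⟩
    obtain ⟨e, e1, e2⟩ := hb _ ((conjE_conjE_inv M b).symm ▸ k)
    exact ⟨Units.mk0 e e1, e2⟩

theorem scA (h : Ir (lf N)) (M : Gam (Q8 F)) (hb : ∀ b : E8 F, ((conjE (Q8 F) M b : E8 F) : G8 F) ∈ N →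
    ∃ e : F, ∀ x, b.1 (f x) = f (b.1 x) + e • b.1 x) (h2 : (2 : F) = 0) {s : F}
    (hq : f * f + f = (s * (s + 1)) • 1) : ∃ e : F, f = e • 1 := by
  refine sc_of (h.conj M) (mem_Cm.2 fun b k x => ?_) (s := s) (s' := s + 1) fun x => ?_
  · rw [lf, Subgroup.map_commutator] at k
    refine (comm_of (A := Multiplicative F) (R := fun b e => ∀ x, b.1 (f x) = f (b.1 x) + e.toAdd • b.1 x)
      (fun x => by simp) (fun a b e e' k k' x => ?a) (fun a e k x => a.1.injective ?b) ?c b k x).trans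
        ((congrArg _ (zero_smul F _)).trans (add_zero _))
    case a => rw [e8_mul, e8_mul, k', map_add, map_smul, k, toAdd_mul, add_smul, add_assoc]
    case b =>
      rw [map_add, map_smul, k, toAdd_inv, neg_smul, add_neg_cancel_right, ← e8_mul, ← e8_mul, mul_inv_cancel]
      rfl
    · rintro _ ⟨b, k, rfl⟩
      exact hb _ ((conjE_conjE_inv M b).symm ▸ k)
  · have h3 : f (f x) + f x = (s * (s + 1)) • x := LinearMap.congr_fun hq x
    linear_combination (norm := module) h3 + h2 • ((s * (s + 1)) • x - (s + 1) • f x)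

variable (C : Cb A Γ M₁ M₂ N 𝓣)
include C

theorem onto {n : G8 F} (hn : n ∈ N) : ∃ a ∈ lf N, (a : G8 F) = n := by
  have h1 : N ≤ ⁅N, N⁆ := C.sup.ge.trans (sSup_le fun S hS => by
    have := (C.simple S hS).1
    have h2 := (Subgroup.Normal.eq_bot_or_eq_top (inferInstance : (commutator S).Normal)).resolve_left fun e =>
      (C.simple S hS).2 ⟨⟨fun a b => commutatorElement_eq_one_iff_mul_comm.1
        (e.le (Subgroup.commutator_mem_commutator (Subgroup.mem_top a) (Subgroup.mem_top b)))⟩⟩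
    have h3 := Subgroup.map_subtype_commutator S
    rw [h2, ← MonoidHom.range_eq_map, Subgroup.range_subtype] at h3
    exact h3.le.trans (Subgroup.commutator_mono (C.sup ▸ le_sSup hS) (C.sup ▸ le_sSup hS)))
  have h2 := h1 hn
  rwa [← Subgroup.map_comap_eq_self_of_surjective (QuotientGroup.mk'_surjective _) N, ← Subgroup.map_commutator] at h2

theorem lift (hf : f ∈ Cm (lf N)) {a : E8 F} (ha : (a : G8 F) ∈ N) (x : V8 F) : a.1 (f x) = f (a.1 x) := by
  obtain ⟨b, hb, e⟩ := onto C ha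
  obtain ⟨e, -, he⟩ := mk_eq_iff.1 e
  rw [he, he, map_smul, mem_Cm.1 hf b hb]

theorem ci (hJ : BoxJE) (g : GL8 F) (hg : g ∈ O (Q8 F)) (h : ∀ a ∈ lf N, ∀ x, a.1 (g x) = g (a.1 x)) (x : V8 F) :
    g (g x) = x := by
  have key : ∀ g : E8 F, (∀ a ∈ lf N, ∀ x, a.1 (g.1 x) = g.1 (a.1 x)) → ∃ e, Sc g e := fun g h =>
    mk_eq_one_iff.1 (C.cen _ fun n hn => by
      obtain ⟨a, ha, rfl⟩ := onto C hn
      rw [← QuotientGroup.mk_mul, ← QuotientGroup.mk_mul, e8_ext (a := a * g) (b := g * a) (h a ha)])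
  obtain ⟨e, he⟩ := key ⟨g * g, H206.OrthBal.sq_mem_E good8 hg⟩ fun a ha x => (h a ha _).trans (congrArg g (h a ha x))
  rcases sq_cases he.sq with rfl | rfl
  · exact (he x).trans (one_smul F x)
  by_cases h2 : (2 : F) = 0
  · exact (he x).trans (by rw [show (-1 : F) = 1 by linear_combination -h2, one_smul])
  obtain ⟨d, hd⟩ := key ⟨g, hJ F g h2 hg fun x => (he x).trans (neg_one_smul F x)⟩ h
  exact (hd _).trans (by rw [show g x = d • x from hd x, smul_smul, hd.sq, one_smul])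

theorem tri1 {b : E8 F} (hb : ((conjE (Q8 F) M₁ b : E8 F) : G8 F) ∈ N) : ∃ a c : E8 F, T3 a b c ∧ (a : G8 F) ∈ N := by
  obtain ⟨a, c, h⟩ := exists_T3₁ b
  obtain ⟨α, hα, e⟩ := C.e1
  exact ⟨a, c, h, α.symm_apply_apply (a : G8 F) ▸ C.inv _ (inv_mem hα) _ (e a b c h ▸ hb)⟩

theorem tri2 {c : E8 F} (hc : ((conjE (Q8 F) M₂ c : E8 F) : G8 F) ∈ N) : ∃ a b : E8 F, T3 a b c ∧ (a : G8 F) ∈ N := by
  obtain ⟨a, b, h⟩ := exists_T3₂ c
  obtain ⟨α, hα, e⟩ := C.e2
  exact ⟨a, b, h, α.symm_apply_apply (a : G8 F) ▸ C.inv _ (inv_mem hα) _ (e a b c h ▸ hc)⟩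

theorem odd (m : Lm) (h : Ir (lf N)) (h2 : (2 : F) ≠ 0) (hf : f ∈ Cm (lf N)) {d : F} (h1 : ∀ r : F, r ^ 2 ≠ d + 0 * r)
    (h3 : ∀ l : F, l ≠ 0 → ∃ s : F, s * s = l * d ∨ s * s = l⁻¹) (hq : ∀ x, f (f x) = d • x) : False := by
  have d0 : d ≠ 0 := fun e => h1 0 (by rw [e]; ring)
  have ns : ∀ e : F, f ≠ e • 1 := fun e k => h1 e (smul_left_injective F (e8_ne (F := F)) (by
    have := hq (e8 F)
    rw [k] at this
    simpa [smul_smul, pow_two] using this))
  obtain ⟨j, hj⟩ : ∃ j : GL8 F, ∀ x, j x = f x :=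
    ⟨LinearEquiv.ofInjectiveEndo f ((schur h hf).resolve_left fun e => ns 0 (by rw [e, zero_smul])), fun _ => rfl⟩
  have jj : ∀ x y, (j * j) (pm x y) = pm ((d • LinearMap.id : End F (V8 F)) x) ((LinearMap.id : End F (V8 F)) y) :=
    fun x y => ((hj _).trans ((congrArg f (hj _)).trans (hq _))).trans (smul_pm d x y).symm
  obtain ⟨g, k, e | e⟩ := exists_tr j d0 fun x => mul_left_cancel₀ h2 (by
    have h4 := sym h (ci C m.je) hf x (f x)
    rw [hq, polar_smul_right, polar_self, polar_self] at h4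
    rw [hj]
    simp only [nsmul_eq_mul, smul_eq_mul, Nat.cast_ofNat] at h4
    linear_combination h4)
  · obtain ⟨l, l0, l1, l2⟩ := (e.mul e).lin jj
    have key : ∀ a b c : E8 F, T3 a b c → (a : G8 F) ∈ N →
        ∃ e : F, e ≠ 0 ∧ (∀ x, b.1 (g x) = e • g (b.1 x)) ∧ ∀ x, c.1 (k x) = e⁻¹ • k (c.1 x) := fun a b c t ha =>
      (e.mul t).unique ((LinearEquiv.ext fun x => ((congrArg a.1 (hj x)).trans (lift C hf ha x)).trans (hj _).symm :
        a.1 * j = j * a.1) ▸ Tr.mul t e)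
    obtain ⟨s, hs | hs⟩ := h3 l l0
    · obtain ⟨c, hc⟩ := scM (f := g.toLinearMap) h M₁ (fun b hb => by
        obtain ⟨a, c, t, ha⟩ := tri1 C hb
        exact (key a b c t ha).imp fun _ k => ⟨k.1, k.2.1⟩) (s := s) fun x => (l1 x).trans (by rw [hs, mul_smul]; rfl)
      obtain ⟨n, hn⟩ := (m.lie F).2.2.1 f 0 (c • k.toLinearMap) 0 (fun x y => by
        rw [← hj, e, show g x = c • x from LinearMap.congr_fun hc x, LinearMap.zero_apply, zero_pm, zero_add, smul_pm,
          ← pm_smul]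
        rfl) (.inl (zero_smul F _).symm)
      exact ns n hn
    · obtain ⟨c, hc⟩ := scM (f := k.toLinearMap) h M₂ (fun c hc => by
        obtain ⟨a, b, t, ha⟩ := tri2 C hc
        obtain ⟨e, e1, -, e2⟩ := key a b c t ha
        exact ⟨_, inv_ne_zero e1, e2⟩) (s := s) fun x => (l2 x).trans (by rw [hs]; rfl)
      obtain ⟨n, hn⟩ := (m.lie F).2.2.1 f (c • g.toLinearMap) 0 0 (fun x y => by
        rw [← hj, e, show k y = c • y from LinearMap.congr_fun hc y, LinearMap.zero_apply, pm_zero, add_zero, pm_smul,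
          ← smul_pm]
        rfl) (.inr (zero_smul F _).symm)
      exact ns n hn
  · obtain ⟨l, l0, l1, l2⟩ := (show Tr (j * j) (g * k) (k * g) from fun x y => (congrArg j (e x y)).trans (e _ _)).lin jj
    have h4 : g (k (g (e8 F))) = l • d • g (e8 F) := l1 _
    rw [show k (g (e8 F)) = l⁻¹ • e8 F from l2 _, map_smul, smul_smul] at h4
    have h5 := smul_left_injective F ((g.map_ne_zero_iff).2 (e8_ne (F := F))) h4
    exact h1 l⁻¹ (by rw [pow_two, zero_mul, add_zero]; nth_rewrite 2 [h5]; rw [inv_mul_cancel_left₀ l0])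

theorem even (m : Lm) (h : Ir (lf N)) (h2 : (2 : F) = 0) (hf : f ∈ Cm (lf N)) {d : F} (h1 : ∀ r : F, r ^ 2 ≠ d + 1 * r)
    (h3 : ∀ l : F, ∃ s : F, s * (s + 1) = d + l ∨ s * (s + 1) = l) (hq : ∀ x, f (f x) = d • x + f x) : False := by
  have ns : ∀ e : F, f ≠ e • 1 := fun e k => h1 e (smul_left_injective F (e8_ne (F := F)) (by
    have := hq (e8 F)
    rw [k] at this
    simpa [smul_smul, pow_two, add_smul] using this))
  have sy := sym h (ci C m.je) hf
  obtain ⟨g, k, e⟩ := (m.lie F).1 f (zero_of h (D := fun x => polar (Q8 F) (f x) x) (fun x y => by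
      rw [map_add, polar_add_left, polar_add_right, polar_add_right, sy y x, polar_comm _ y (f x)]
      linear_combination polar (Q8 F) (f x) y * h2)
    (fun c x => by simp only [map_smul, polar_smul_left, polar_smul_right, smul_eq_mul, mul_assoc])
    fun a ha x => by rw [← mem_Cm.1 hf a ha, polar_map (E_le_O a.2)])
  obtain ⟨l, l1, l2⟩ := (m.lie F).2.1 (d • 1) (d • 1) 0 (g * g + g) (k * k + k)
    (fun x y => by simp [smul_pm, pm_zero]) fun x y => by
      have h4 := hq (pm x y)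
      rw [e x y, map_add, e, e] at h4
      simp only [LinearMap.smul_apply, End.one_apply, LinearMap.add_apply, End.mul_apply, add_pm, pm_add]
      linear_combination (norm := module) -h4 + h2 • (pm (g x) (k y) - pm (g x) y - pm x (k y))
  have key : ∀ a b c : E8 F, T3 a b c → (a : G8 F) ∈ N →
      ∃ e : F, (∀ x, b.1 (g x) = g (b.1 x) + e • b.1 x) ∧ ∀ x, c.1 (k x) = k (c.1 x) + (-e) • c.1 x := fun a b c t ha => by
    obtain ⟨n, n1, n2⟩ := (m.lie F).2.1 f g k (b.1.conj g) (c.1.conj k) e fun x y => by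
      obtain ⟨x, rfl⟩ := b.1.surjective x
      obtain ⟨y, rfl⟩ := c.1.surjective y
      rw [← t, ← lift C hf ha, e, map_add, t, t]
      simp [LinearEquiv.conj_apply]
    exact ⟨n, fun x => by simpa [LinearEquiv.conj_apply] using LinearMap.congr_fun n1 (b.1 x),
      fun x => by simpa [LinearEquiv.conj_apply, sub_eq_add_neg] using LinearMap.congr_fun n2 (c.1 x)⟩
  obtain ⟨s, hs | hs⟩ := h3 l
  · obtain ⟨c, hc⟩ := scA (f := g) h M₁ (fun b hb => by
      obtain ⟨a, c, t, ha⟩ := tri1 C hb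
      exact (key a b c t ha).imp fun _ k => k.1) h2 (s := s) (by rw [l1, hs, add_smul])
    exact ((m.lie F).2.2.1 f g k c e (.inl hc)).elim ns
  · obtain ⟨c, hc⟩ := scA (f := k) h M₂ (fun c hc => by
      obtain ⟨a, b, t, ha⟩ := tri2 C hc
      obtain ⟨e, -, e2⟩ := key a b c t ha
      exact ⟨_, e2⟩) h2 (s := s) (by
        rw [l2, hs, zero_sub]
        exact (neg_smul l _).symm.trans (by rw [show -l = l by linear_combination -l * h2]))
    exact ((m.lie F).2.2.1 f g k c e (.inr hc)).elim ns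

end Kb

open Kb

/-- **[K]** -/
theorem boxK : BoxK := fun m F _ _ A Γ M₁ M₂ N 𝓣 C h => by
  have := dom h
  have := Kb.fin (lf N)
  refine spn h fun f hf => by_contra fun e => ?_
  have h1 : finrank F (Cm (lf N)) ≠ 1 := fun k => by
    obtain ⟨c, hc⟩ := (finrank_eq_one_iff_of_nonzero' (1 : Cm (lf N)) one_ne_zero).1 k ⟨f, hf⟩
    exact e ⟨c, (congrArg Subtype.val hc).symm⟩
  by_cases h2 : (2 : F) = 0
  · obtain ⟨d, d1, d2⟩ := exists_as F h2
    obtain ⟨j, hj⟩ := exists_quad (A := Cm (lf N)) finrank8 h1 d1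
    exact even C m h h2 j.2 d1 d2 fun x => by simpa using LinearMap.congr_fun (congrArg Subtype.val hj) x
  · obtain ⟨d, d1, d2⟩ := exists_ns F h2
    obtain ⟨j, hj⟩ := exists_quad (A := Cm (lf N)) finrank8 h1 d1
    exact odd C m h h2 j.2 d1 d2 fun x => by simpa using LinearMap.congr_fun (congrArg Subtype.val hj) x

end Cfsg.Agent.N2C.D4
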