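import Cfsg.Agent.N2.Cl.D4.Cy2

/-!
# N2 (S3519), `PΩ₈⁺(q)` with triality: normalisers of elementary abelian `2`-subgroups (helper90)
-/

set_option autoImplicit false
set_option linter.unusedSectionVars false

namespace Cfsg.Agent.N2C.D4

open QuadraticMap Module Cfsg.Agent.LieClassical.QuadForms Cfsg.Agent.LieClassical.OrthCore
  Cfsg.Agent.LieClassical.OrthTrans Cfsg.Agent.ClassicalGeometry.OrthSemi Cfsg.Agent.ClassicalGeometry.OrthAut1
  Cfsg.Agent.ClassicalGeometry.TrialityOct Cfsg.Agent.ClassicalGeometry.Triality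
  Cfsg.Agent.H989.OutOrth.Basic Cfsg.Agent.H989.OutOrth.Tri Cfsg.Agent.SB.D4

variable {F : Type} [Field F] [Fintype F] {A X : Subgroup (G8 F)} {Γ : Subgroup (MulAut (G8 F))} {M₁ M₂ : Gam (Q8 F)}

namespace Loc2

/-- some lift has square `-1` -/
theorem case_II (lm : Lm) (h : Cx A Γ M₁ M₂) (y : Cy Γ X 2) {J : E8 F} (hJ : (J : G8 F) ∈ X) (hJ1 : J * J ≠ 1) :
    FP3.Good A := by
  have hN : Ng J := (sq_or_ng (y.sq_sc hJ)).resolve_left hJ1
  have h2 := y.two_ne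
  obtain ⟨a, b, c, ht, ha, ha1, hb⟩ := y.exists_invol hJ hN
  have haJ := y.comm_two hJ hN ha hJ
  obtain ⟨e, he, hP, hW⟩ := exists_two h2 ht ha1 hb hN haJ
  have he' : -e * -e = 1 := by rwa [neg_mul_neg]
  have hJW : ∀ f : F, ∀ x ∈ Eg a f, J.1 x ∈ Eg a f := fun _ _ => Eg_comm haJ
  have h04 : (0 : F) ^ 2 ≠ 4 := fun h1 => mul_ne_zero h2 h2 (by linear_combination -h1)
  have actI : ∀ z : E8 F, (z : G8 F) ∈ X → z * z = 1 → ∃ d : F, ∀ w ∈ Eg a (-e), z.1 w = d • w := by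
    intro z hz hz1
    rcases y.invol_cases hJ hN ht ha ha1 hb hz hz1 with ⟨d, hd⟩ | ⟨d, hd⟩
    · exact ⟨d, fun w _ => hd w⟩
    · refine ⟨d * -e, fun w hw => ?_⟩
      rw [mul_smul, ← mem_Eg.1 hw, ← hd, e8_mul, e8_invol ha1]
  have actN : ∀ z : E8 F, (z : G8 F) ∈ X → Ng z → ∃ d : F, ∀ w ∈ Eg a (-e), z.1 w = d • J.1 w := by
    intro z hz hz1
    obtain ⟨d, h1⟩ := actI (z * J) (mul_mem hz hJ) (hz1.mul hN (y.comm_two hJ hN hz hJ))
    refine ⟨-d, fun w hw => ?_⟩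
    rw [neg_smul, ← h1 _ (hJW _ w hw), e8_mul, hN.apply, map_neg, neg_neg]
  have hPW : prp (Q8 F) (Eg a (-e)) = Eg a e := (Submodule.eq_of_le_of_finrank_eq
    (fun x hx => mem_prp.2 fun w hw => Eg_orth h2 he hx hw) (by have := dim_prp (Eg a (-e)); omega)).symm
  obtain ⟨s, hr, hs1, hs2⟩ := lm.ex6 F (Eg a (-e)) J.1 0 hW (Eg_nd h2 ha1 he') (E_le_O J.2) (hJW _)
    (fun x _ => by rw [hN.apply, zero_smul, zero_sub]) h04
  have hsW : Kp s (Eg a (-e)) (Eg a (-e)) := by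
    have k : Kp s (prp (Q8 F) (Eg a (-e))) (prp (Q8 F) (Eg a (-e))) := fun v hv => (hs1 v hv).symm ▸ hv
    have k2 := k.prp
    rwa [prp_prp nondeg8'] at k2
  rw [hPW] at hs1
  refine h.good_12 hP (fun M hM => ?_) (h.og_mem.1 (y.og_mem fun x hx => ?_)) hr
  · have h1 : ∃ d : F, d * d = 1 ∧ ∀ f : F, f * f = 1 → ∀ x ∈ Eg a f, M.1 x ∈ Eg a (d * f) := by
      rcases y.invol_cases hJ hN ht ha ha1 hb (y.conjE_mem hM ha) (conjE_sq.2 ha1) with ⟨d, hd⟩ | ⟨d, hd⟩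
      · have h3 := hd.conj M⁻¹
        rw [conjE_inv_conjE] at h3
        obtain ⟨d', -, h4, -, -⟩ := ht.sc h3
        exact (hb.nsc h2 ⟨d', h4⟩).elim
      · refine ⟨d, hd.sq, fun f hf x hx => mem_Eg.2 ?_⟩
        have h3 := hd (a.1 (M.1 x))
        rw [e8_mul, e8_invol ha1, conjE_apply, mem_Eg.1 hx, gam_sign M hf] at h3
        rw [mul_smul, h3, smul_smul, hd.sq, one_smul]
    obtain ⟨d, hd, h1⟩ := h1
    rcases sq_cases hd with rfl | rfl
    · simpa only [one_mul] using h1 _ he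
    · have h3 := finrank_le_of_maps M (h1 _ he')
      rw [neg_mul_neg, one_mul] at h3
      omega
  · obtain ⟨z, rfl⟩ := QuotientGroup.mk_surjective x
    refine ⟨z, rfl, e8_ext (Eg_ext h2 ha1 he (f := (z * s).1.toLinearMap) (g := (s * z).1.toLinearMap)
      (fun v hv => ?_) fun w hw => ?_)⟩
    · show z.1 (s.1 v) = s.1 (z.1 v)
      rw [hs1 v hv, hs1 _ (Eg_comm (y.comm_two hJ hN ha hx) hv)]
    · show z.1 (s.1 w) = s.1 (z.1 w)
      rcases sq_or_ng (y.sq_sc hx) with h1 | h1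
      · obtain ⟨d, k⟩ := actI z hx h1
        rw [k w hw, k _ (hsW w hw), map_smul]
      · obtain ⟨d, k⟩ := actN z hx h1
        rw [k w hw, k _ (hsW w hw), map_smul, hs2 w hw]

/-- `a` acts on the blocks by the signs `d` -/
structure Sn {ι : Type} (P : ι → Submodule F (V8 F)) (a : E8 F) (d : ι → F) : Prop where
  sq : ∀ k, d k * d k = 1
  act : ∀ k, ∀ v ∈ P k, a.1 v = d k • v

/-- the common eigenspaces of the lifts of `X` -/
structure Bk (Γ : Subgroup (MulAut (G8 F))) (X : Subgroup (G8 F)) {ι : Type} (P : ι → Submodule F (V8 F)) : Prop where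
  two : (2 : F) ≠ 0
  dec : Dec (Q8 F) P
  prm : Prm (LL Γ) P
  ne : ∀ i, P i ≠ ⊥
  eig : ∀ a : E8 F, (a : G8 F) ∈ X → ∃ d, Sn P a d
  mem : ∀ v, v ≠ 0 → (∀ a : E8 F, (a : G8 F) ∈ X → Fp a v) → ∃ i, v ∈ P i
  max : ∀ i w, (∀ a : E8 F, (a : G8 F) ∈ X → ∀ d, Sn P a d → a.1 w = d i • w) → w ∈ P i

theorem exists_bk (y : Cy Γ X 2) (hx : ∀ a : E8 F, (a : G8 F) ∈ X → a * a = 1) :
    ∃ (n d : ℕ) (P : Fin (n + 1) → Submodule F (V8 F)), (n + 1) * d = 8 ∧ d ≤ 4 ∧ (∀ k, finrank F (P k) = d) ∧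
      Bk Γ X P := by
  obtain ⟨n, d, f, h8, h4, hd, hD, hP⟩ := Rb.exists_blocks y hx
  have hne : ∀ i, Bl (RB.Y2 X) (f i) ≠ ⊥ := fun i e => by
    have h1 := hd i
    rw [e, finrank_bot] at h1
    rw [← h1] at h8
    omega
  have hs : ∀ (a : E8 F) (ha : (a : G8 F) ∈ X), Sn (Bl (RB.Y2 X) ∘ f) a fun i => f i ⟨a.1, a, ha, rfl⟩ / 2 :=
    fun a ha => ⟨fun i => by
      obtain ⟨v, hv, hv0⟩ := (Submodule.ne_bot_iff _).1 (hne i)
      exact Rb.eig2' y hx hv hv0 ha, fun i w hw => Rb.eig2 y hx hw ha⟩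
  refine ⟨n, d, _, h8, h4, hd, y.two_ne, hD, hP, hne, fun a ha => ⟨_, hs a ha⟩, fun v hv0 hv => ?_, fun i w hw => ?_⟩
  · have h1 : ∀ a : RB.Y2 X, ∃ c : F, a.1 v = c • v := by
      rintro ⟨_, a, ha, rfl⟩
      exact hv a ha
    choose c hc using h1
    have h2 : v ∈ Bl (RB.Y2 X) fun a => 2 * c a := (Rb.mem_Bl2 y hx).2 fun a => by
      rw [mul_div_cancel_left₀ _ y.two_ne, hc]
    by_contra h3
    refine hv0 (hD.perp nondeg8' fun i w hw => (Rb.dec2 y hx).orth _ (f i) (fun e => h3 ⟨i, ?_⟩) v h2 w hw)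
    show v ∈ Bl _ (f i)
    rwa [← e]
  · refine (Rb.mem_Bl2 y hx).2 ?_
    rintro ⟨_, a, ha, rfl⟩
    exact hw a ha _ (hs a ha)

theorem fp_back {M : Gam (Q8 F)} {b : E8 F} {v : V8 F} (h : Fp (conjE (Q8 F) M b) v) : Fp b (M⁻¹.1 v) := by
  obtain ⟨c, hc⟩ := h
  have h1 := conjE_eig (M := M⁻¹) hc
  rwa [conjE_inv_conjE] at h1

theorem nrm (h : Cx A Γ M₁ M₂) (y : Cy Γ X 2) : A = Subgroup.normalizer (X : Set (G8 F)) :=
  h.eq_norm y.ne (fun e => noncomm8 (F := F) ⟨⟨fun a b => y.comm a (e ▸ trivial) b (e ▸ trivial)⟩⟩) y.inv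

namespace Bk

variable {ι : Type} {P : ι → Submodule F (V8 F)} (B : Bk Γ X P)
include B

theorem nd (i : ι) : Nd (Q8 F) (P i) := B.dec.nd nondeg8' i

theorem ns (i : ι) : ∃ v ∈ P i, Q8 F v ≠ 0 := (B.nd i).exists_nonsing (B.ne i)

theorem not_le {i j : ι} (hij : i ≠ j) : ¬ P j ≤ P i := fun h =>
  B.ne j (eq_bot_iff.2 fun v hv => B.nd j v hv fun w hw => B.dec.orth i j hij v (h hv) w hw)

theorem sep {i j : ι} (hij : i ≠ j) : ∃ a : E8 F, (a : G8 F) ∈ X ∧ ∃ d, Sn P a d ∧ d j = -d i := by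
  by_contra hc
  refine B.not_le hij fun w hw => B.max i w fun a ha d hd => ?_
  rcases mul_self_eq_mul_self_iff.1 ((hd.sq j).trans (hd.sq i).symm) with e | e
  · rw [hd.act j w hw, e]
  · exact (hc ⟨a, ha, d, hd, e⟩).elim

theorem mk_eq {a b : E8 F} {d d' : ι → F} (ha : Sn P a d) (hb : Sn P b d') {e : F} (he : e * e = 1)
    (h : ∀ i, d' i = e * d i) : (a : G8 F) = b := by
  refine mk_eq_iff.2 ⟨e, he, fun v => ?_⟩
  have k : ⊤ ≤ LinearMap.eqLocus b.1.toLinearMap (e • a.1.toLinearMap) := B.dec.span ▸ iSup_le fun i w hw =>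
    show b.1 w = e • a.1 w by rw [ha.act i w hw, hb.act i w hw, h, mul_smul]
  exact k trivial

theorem fp {i : ι} {v : V8 F} (hv : v ∈ P i) {a : E8 F} (ha : (a : G8 F) ∈ X) : Fp a v :=
  (B.eig a ha).elim fun d hd => ⟨d i, hd.act i v hv⟩

/-- a frame with two classes of norms -/
theorem frame (lm : Lm) (sig : BoxSig) (h : Cx A Γ M₁ M₂) (y : Cy Γ X 2) {e : Fin 8 → V8 F} (he : ∀ k, Q8 F (e k) ≠ 0)
    (ho : ∀ i j, i ≠ j → polar (Q8 F) (e i) (e j) = 0) (hm : ∀ k, ∃ i, e k ∈ P i)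
    (hall : ∀ i, ∀ v ∈ P i, Q8 F v ≠ 0 → ∃ (k : Fin 8) (c : F), v = c • e k)
    (hns : ∃ i j, ¬ IsSquare (Q8 F (e i) * Q8 F (e j))) : FP3.Good A := by
  obtain ⟨z, h1, h2, h3⟩ := sig F A Γ M₁ M₂ e h B.two he ho (fun M hM k => by
    obtain ⟨i, hi⟩ := hm k
    obtain ⟨j, hj⟩ := B.prm M hM i
    exact hall j _ (hj _ hi) (Q_ne M (he k))) (fun k l => by
    obtain ⟨i, hi⟩ := hm k
    obtain ⟨j, hj⟩ := hm l
    have h0 : Q8 F (pm (M₁⁻¹.1 (e k)) (M₂⁻¹.1 (e l))) ≠ 0 := by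
      rw [norm_pm]
      exact mul_ne_zero (Q_ne _ (he k)) (Q_ne _ (he l))
    obtain ⟨m, hm'⟩ := B.mem (pm (M₁⁻¹.1 (e k)) (M₂⁻¹.1 (e l))) (fun e0 => h0 (by rw [e0, map_zero])) fun a ha => by
      obtain ⟨b, c, ht⟩ := exists_T3 a
      obtain ⟨s, hs⟩ := fp_back (B.fp hi ((h.sym1 y.inv ht).1 ha))
      obtain ⟨t, ht'⟩ := fp_back (B.fp hj ((h.sym2 y.inv ht).1 ha))
      exact ⟨s * t, by rw [ht, hs, ht', smul_pm, pm_smul, smul_smul]⟩
    exact hall m _ hm' h0) hns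
  exact h.good_inv lm.g44 B.two h1 h2 h3

/-- all blocks have the same type -/
theorem aniso (h : Cx A Γ M₁ M₂) (y : Cy Γ X 2) {i j : ι} (hj : Aniso (Q8 F) (P j)) : Aniso (Q8 F) (P i) := by
  intro w hw h0
  obtain ⟨z, hz, hz0⟩ := B.ns i
  obtain ⟨z', hz', hz0'⟩ := B.ns j
  have hu := Q_ne M₁⁻¹ hz0
  have hy : ∀ a b c : E8 F, T3 a b c → (a : G8 F) ∈ X → Fp b (M₁⁻¹.1 z) := fun a b c ht ha =>
    fp_back (B.fp hz ((h.sym1 y.inv ht).1 ha))
  generalize M₁⁻¹.1 z = u at hu hy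
  have hm : pm u (pm z' (pm (pm w u) z)) ∈ P j := B.max j _ fun a ha d hd => by
    obtain ⟨b, c, ht⟩ := exists_T3 a
    obtain ⟨t, h3⟩ := hy a b c ht ha
    have e1 : c.1 (pm w u) = (d i * t) • pm w u := by
      rw [ht.rot.rot, hd.act i w hw, h3, smul_pm, pm_smul, smul_smul]
    have e2 : b.1 (pm (pm w u) z) = t • pm (pm w u) z := by
      rw [ht.rot, e1, hd.act i z hz, smul_pm, pm_smul, smul_smul, mul_right_comm, hd.sq, one_mul]
    have e3 : c.1 (pm z' (pm (pm w u) z)) = (d j * t) • pm z' (pm (pm w u) z) := by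
      rw [ht.rot.rot, hd.act j z' hz', e2, smul_pm, pm_smul, smul_smul]
    rw [ht, h3, e3, smul_pm, pm_smul, smul_smul, mul_left_comm, eig_sq hu h3, mul_one]
  have h1 := hj _ hm (by rw [norm_pm, norm_pm, norm_pm, norm_pm, h0]; ring)
  exact pr_injective hu (a₂ := 0) ((pr_injective hz0 (a₂ := 0) ((pl_injective hz0' (a₂ := 0)
    ((pl_injective hu (a₂ := 0) (h1.trans (map_zero _).symm)).trans (map_zero _).symm)).trans
      (map_zero _).symm)).trans (map_zero _).symm)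

end Bk

theorem sn_one {ι : Type} (P : ι → Submodule F (V8 F)) : Sn P 1 fun _ => 1 :=
  ⟨fun _ => one_mul 1, fun _ v _ => (one_smul F v).symm⟩

theorem Sn.mul {ι : Type} {P : ι → Submodule F (V8 F)} {a b : E8 F} {d d' : ι → F} (ha : Sn P a d) (hb : Sn P b d') :
    Sn P (a * b) fun i => d i * d' i :=
  ⟨fun i => by linear_combination d' i * d' i * ha.sq i + hb.sq i, fun i v hv => by
    rw [e8_mul, hb.act i v hv, map_smul, ha.act i v hv, smul_smul, mul_comm]⟩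

section I

variable (lm : Lm) (sig : BoxSig) (h : Cx A Γ M₁ M₂) (y : Cy Γ X 2) (hx : ∀ a : E8 F, (a : G8 F) ∈ X → a * a = 1)

include lm h y hx in
/-- two blocks -/
theorem case_four {P : Fin 2 → Submodule F (V8 F)} (B : Bk Γ X P) : FP3.Good A := by
  obtain ⟨z, hz, hn⟩ := Rb.exists_nonsc y
  have key : ∀ a : E8 F, (a : G8 F) ∈ X → (a : G8 F) ≠ 1 → ∃ d, Sn P a d ∧ d 1 = -d 0 := fun a ha h1 => by
    obtain ⟨d, hd⟩ := B.eig a ha
    refine ⟨d, hd, (mul_self_eq_mul_self_iff.1 ((hd.sq 1).trans (hd.sq 0).symm)).resolve_left fun e => h1 ?_⟩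
    exact (B.mk_eq (sn_one P) hd (hd.sq 0) (Fin.forall_fin_two.2 ⟨(mul_one _).symm, e.trans (mul_one _).symm⟩)).symm
  have hz1 : (z : G8 F) ≠ 1 := fun e => (mk_eq_one_iff.1 e).elim hn
  refine h.good_inv lm.g44 B.two (hx z hz) (Rb.ts2 y hx hz hn (by ring)).1 fun σ hσ => ?_
  obtain ⟨a, ha⟩ := QuotientGroup.mk_surjective (σ z)
  obtain ⟨c, k1, k2⟩ := key a (ha ▸ y.inv σ hσ _ hz) (ha ▸ fun e => hz1 (σ.map_eq_one_iff.1 e))
  obtain ⟨d, k3, k4⟩ := key z hz hz1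
  rw [← ha]
  exact B.mk_eq k1 k3 (e := d 0 * c 0) (by linear_combination d 0 * d 0 * k1.sq 0 + k3.sq 0)
    (Fin.forall_fin_two.2 ⟨by linear_combination -d 0 * k1.sq 0, by rw [k2, k4]; linear_combination d 0 * k1.sq 0⟩)

include lm sig h y hx in
/-- eight blocks -/
theorem case_one {P : Fin 8 → Submodule F (V8 F)} (B : Bk Γ X P) (hd : ∀ i, finrank F (P i) = 1) : FP3.Good A := by
  choose e he he' using B.ns
  by_cases hns : ∃ i j, ¬ IsSquare (Q8 F (e i) * Q8 F (e j))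
  · refine B.frame lm sig h y he' (fun i j hij => B.dec.orth i j hij _ (he i) _ (he j)) (fun k => ⟨k, he k⟩)
      (fun j v hv _ => ?_) hns
    obtain ⟨c, hc⟩ := (finrank_eq_one_iff_of_nonzero' (⟨e j, he j⟩ : P j)
      fun h0 => he' j (by rw [show e j = 0 from congrArg Subtype.val h0, map_zero])).1 (hd j) ⟨_, hv⟩
    exact ⟨j, c, (congrArg Subtype.val hc).symm⟩
  push Not at hns
  choose r hr using fun i => hns i 0
  have hr0 : ∀ i, r i ≠ 0 := fun i h0 => mul_ne_zero (he' i) (he' 0) (by rw [hr i, h0, zero_mul])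
  have hQ : ∀ i, Q8 F ((Q8 F (e 0) / r i) • e i) = Q8 F (e 0) := fun i => by
    rw [QuadraticMap.map_smul, smul_eq_mul, div_mul_div_comm, div_mul_eq_mul_div,
      div_eq_iff (mul_ne_zero (hr0 i) (hr0 i)), ← hr i]
    ring
  have hm : ∀ i, (Q8 F (e 0) / r i) • e i ∈ P i := fun i => (P i).smul_mem _ (he i)
  refine lm.gn4 F A X (fun i => (Q8 F (e 0) / r i) • e i) B.two (by rw [hQ]; exact he' 0) (fun i => by rw [hQ, hQ])
    (fun i j hij => B.dec.orth i j hij _ (hm i) _ (hm j)) (fun a ha => ⟨fun i => ?_, ?_⟩) (fun i j hij => ?_) (nrm h y)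
  · obtain ⟨d, k⟩ := B.eig a ha
    have k3 := k.act i _ (hm i)
    rcases sq_cases (k.sq i) with e1 | e1 <;> rw [e1] at k3
    · exact Or.inl (k3.trans (one_smul _ _))
    · exact Or.inr (k3.trans (neg_one_smul _ _))
  · by_cases hn : ∃ d, Sc a d
    · exact Or.inl hn
    · exact Or.inr (Rb.ts2 y hx ha (not_exists.1 hn) (one_mul 1)).1
  · obtain ⟨a, ha, d, k, k1⟩ := B.sep hij
    exact ⟨a, ha, d i, k.act i _ (hm i), k1 ▸ k.act j _ (hm j)⟩

theorem sgn4 {c : Fin 4 → F} (h1 : ∀ i, c i * c i = 1) (k : ∀ (l : Fin 4) (e : F), e * e = 1 → ¬ ∀ i, i ≠ l → c i = e) :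
    ∏ i, c i = 1 := by
  have k0 : c 2 = c 1 → c 3 = c 1 → False := fun a b => k 0 _ (h1 1) fun i hi => by fin_cases i <;> simp_all
  have k1 : c 2 = c 0 → c 3 = c 0 → False := fun a b => k 1 _ (h1 0) fun i hi => by fin_cases i <;> simp_all
  have k2 : c 1 = c 0 → c 3 = c 0 → False := fun a b => k 2 _ (h1 0) fun i hi => by fin_cases i <;> simp_all
  have k3 : c 1 = c 0 → c 2 = c 0 → False := fun a b => k 3 _ (h1 0) fun i hi => by fin_cases i <;> simp_all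
  rw [Fin.prod_univ_four]
  rcases sq_cases (h1 0) with e0 | e0 <;> rcases sq_cases (h1 1) with e1 | e1 <;>
    rcases sq_cases (h1 2) with e2 | e2 <;> rcases sq_cases (h1 3) with e3 | e3 <;>
    first
    | (rw [e0, e1, e2, e3]; ring1)
    | exact (k0 (e2.trans e1.symm) (e3.trans e1.symm)).elim
    | exact (k1 (e2.trans e0.symm) (e3.trans e0.symm)).elim
    | exact (k2 (e1.trans e0.symm) (e3.trans e0.symm)).elim
    | exact (k3 (e1.trans e0.symm) (e2.trans e0.symm)).elim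

variable {P : Fin 4 → Submodule F (V8 F)} (B : Bk Γ X P) (hd : ∀ i, finrank F (P i) = 2)
include y hx B hd

theorem even {a : E8 F} (ha : (a : G8 F) ∈ X) {c : Fin 4 → F} (hc : Sn P a c) : ∏ i, c i = 1 := by
  by_cases hn : ∃ e, Sc a e
  · obtain ⟨e, he⟩ := hn
    have k : ∀ i, c i = e := fun i => by
      obtain ⟨v, hv, hv0⟩ := (Submodule.ne_bot_iff _).1 (B.ne i)
      exact smul_left_injective F hv0 ((hc.act i v hv).symm.trans (he v))
    rw [Fin.prod_univ_four, k, k, k, k]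
    linear_combination (e * e + 1) * he.sq
  refine sgn4 hc.sq fun l e he k => ?_
  have k1 : ⊤ ≤ Eg a e ⊔ P l := B.dec.span ▸ iSup_le fun i v hv => by
    by_cases hi : i = l
    · exact Submodule.mem_sup_right (hi ▸ hv)
    · exact Submodule.mem_sup_left (mem_Eg.2 (k i hi ▸ hc.act i v hv))
  have k2 := (Submodule.finrank_mono k1).trans (Submodule.finrank_add_le_finrank_add_finrank _ _)
  rw [finrank_top, finrank8, (Rb.ts2 y hx ha (not_exists.1 hn) he).1, hd] at k2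
  omega

/-- all even sign changes are in `X` -/
theorem all_even {b : E8 F} {c : Fin 4 → F} (hc : Sn P b c) (h3 : ∏ i, c i = 1) : (b : G8 F) ∈ X := by
  let R : F → F → Prop := fun u w => ∃ a : E8 F, (a : G8 F) ∈ X ∧ ∃ d, Sn P a d ∧ d 0 * d 1 = u ∧ d 0 * d 2 = w
  have mul : ∀ {u w u' w' : F}, R u w → R u' w' → R (u * u') (w * w') := by
    rintro _ _ _ _ ⟨a, ha, d, k, rfl, rfl⟩ ⟨a', ha', d', k', rfl, rfl⟩
    exact ⟨a * a', mul_mem ha ha', _, k.mul k', by ring, by ring⟩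
  have sq : ∀ {d : Fin 4 → F} {a : E8 F}, Sn P a d → ∀ i, d 0 * d i = 1 ∨ d 0 * d i = -1 := fun {d a} k i =>
    sq_cases (by linear_combination d i * d i * k.sq 0 + k.sq i)
  have r1 : R (-1) 1 ∨ R (-1) (-1) := by
    obtain ⟨a, ha, d, k, e⟩ := B.sep (show (0 : Fin 4) ≠ 1 by decide)
    have k1 : d 0 * d 1 = -1 := by rw [e, mul_neg, k.sq]
    exact (sq k 2).imp (fun k2 => ⟨a, ha, d, k, k1, k2⟩) fun k2 => ⟨a, ha, d, k, k1, k2⟩
  have r2 : R 1 (-1) ∨ R (-1) (-1) := by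
    obtain ⟨a, ha, d, k, e⟩ := B.sep (show (0 : Fin 4) ≠ 2 by decide)
    have k1 : d 0 * d 2 = -1 := by rw [e, mul_neg, k.sq]
    exact (sq k 1).imp (fun k2 => ⟨a, ha, d, k, k2, k1⟩) fun k2 => ⟨a, ha, d, k, k2, k1⟩
  have r3 : R 1 (-1) ∨ R (-1) 1 := by
    obtain ⟨a, ha, d, k, e⟩ := B.sep (show (0 : Fin 4) ≠ 3 by decide)
    have k1 := even y hx B hd ha k
    rw [Fin.prod_univ_four, e] at k1
    exact (sq k 1).imp (fun k2 => ⟨a, ha, d, k, k2, by linear_combination -k1 - d 0 * d 2 * k2⟩)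
      fun k2 => ⟨a, ha, d, k, k2, by linear_combination k1 + d 0 * d 2 * k2⟩
  have r4 : R (-1) 1 ∧ R 1 (-1) := by
    rcases r3 with r3 | r3
    · exact ⟨r1.elim id fun r => by simpa using mul r r3, r3⟩
    · exact ⟨r3, r2.elim id fun r => by simpa using mul r r3⟩
  obtain ⟨a, ha, d, k, k1, k2⟩ : R (c 0 * c 1) (c 0 * c 2) := by
    rcases sq hc 1 with e1 | e1 <;> rcases sq hc 2 with e2 | e2 <;> rw [e1, e2]
    exacts [⟨1, one_mem X, _, sn_one P, one_mul 1, one_mul 1⟩, r4.2, r4.1, by simpa using mul r4.1 r4.2]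
  have k3 := even y hx B hd ha k
  rw [Fin.prod_univ_four] at h3 k3
  rw [← B.mk_eq k hc (e := c 0 * d 0) (by linear_combination d 0 * d 0 * hc.sq 0 + k.sq 0) fun i => ?_]
  · exact ha
  have c0 := hc.sq 0
  have c3 := hc.sq 3
  have d0 := k.sq 0
  have d3 := k.sq 3
  fin_cases i
  · show c 0 = c 0 * d 0 * d 0
    linear_combination -c 0 * d0
  · show c 1 = c 0 * d 0 * d 1
    linear_combination -c 0 * k1 - c 1 * c0
  · show c 2 = c 0 * d 0 * d 2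
    linear_combination -c 0 * k2 - c 2 * c0
  · show c 3 = c 0 * d 0 * d 3
    grind

include h in
theorem stab (a : E8 F) : (a : G8 F) ∈ A ↔ ∀ i, ∃ j, Kp a (P i) (P j) := by
  refine ⟨fun ha i => B.prm _ (h.og_mem.2 ha) i, fun ha => ?_⟩
  choose π hπ using ha
  have hi : Function.Injective π := fun i j e => by
    by_contra hij
    refine B.not_le hij fun v hv => ?_
    obtain ⟨w, hw, e'⟩ := gam_pre (og a) (hπ i) (by rw [hd, hd]) (e ▸ hπ j v hv)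
    rwa [← a.1.injective e']
  have := finite8 (F := F)
  rw [nrm h y, ← inv_mem_iff]
  refine Subgroup.mem_normalizer_fintype fun x hx' => ?_
  obtain ⟨b, rfl⟩ := QuotientGroup.mk_surjective x
  obtain ⟨d, k⟩ := B.eig b hx'
  refine all_even y hx B hd (b := a⁻¹ * b * a⁻¹⁻¹) (c := fun i => d (π i)) ⟨fun i => k.sq _, fun i v hv => ?_⟩
    (((Finite.injective_iff_bijective.1 hi).prod_comp d).trans (even y hx B hd hx' k))
  rw [inv_inv, e8_mul, e8_mul, k.act _ _ (hπ i v hv), map_smul]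
  exact congrArg _ (a.1.symm_apply_apply v)

omit y hx B hd in
theorem hyp3 (h2 : (2 : F) ≠ 0) (h3 : Nat.card F ≤ 3) {W : Submodule F (V8 F)} (hN : Nd (Q8 F) W) (hW : finrank F W = 2)
    (hA : ¬ Aniso (Q8 F) W) : ∃ u : Fin 2 → V8 F, (∀ k, u k ∈ W) ∧ (∀ k, Q8 F (u k) ≠ 0) ∧
      (∀ k l, k ≠ l → polar (Q8 F) (u k) (u l) = 0) ∧ Q8 F (u 1) = -Q8 F (u 0) ∧
      ∀ v ∈ W, Q8 F v ≠ 0 → ∃ (k : Fin 2) (c : F), v = c • u k := by
  obtain ⟨u, k1, k2, k3, k4⟩ := hN.exists_orth h2 hW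
  have key : ∀ v ∈ W, (∃ (k : Fin 2) (c : F), v = c • u k) ∨ Q8 F v = Q8 F (u 0) + Q8 F (u 1) := fun v hv => by
    obtain ⟨c, rfl⟩ := k4 v hv
    rw [Fin.sum_univ_two]
    by_cases h0 : c 0 = 0
    · exact Or.inl ⟨1, c 1, by rw [h0, zero_smul, zero_add]⟩
    by_cases h1 : c 1 = 0
    · exact Or.inl ⟨0, c 0, by rw [h1, zero_smul, add_zero]⟩
    right
    rw [Q_add, QuadraticMap.map_smul, QuadraticMap.map_smul, polar_smul_left, polar_smul_right, k3 0 1 (by decide),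
      small_sq h3 h0, small_sq h3 h1]
    simp
  have k5 : Q8 F (u 0) + Q8 F (u 1) = 0 := by
    by_contra k
    refine hA fun x hx h0 => ?_
    rcases key x hx with ⟨j, c, rfl⟩ | e
    · rw [QuadraticMap.map_smul, smul_eq_mul, mul_eq_zero, mul_self_eq_zero] at h0
      rw [h0.resolve_right (k2 j), zero_smul]
    · exact (k (e.symm.trans h0)).elim
  exact ⟨u, k1, k2, k3, by linear_combination k5, fun v hv h0 => (key v hv).resolve_right fun e => h0 (e.trans k5)⟩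

include lm sig h in
/-- four blocks -/
theorem case_two : FP3.Good A := by
  by_cases h0 : Aniso (Q8 F) (P 0)
  · exact lm.gi2 lm.je F A P B.dec hd (Or.inl fun i => B.aniso h y h0) (stab h y hx B hd)
  have hn : ∀ i, ¬ Aniso (Q8 F) (P i) := fun i k => h0 (B.aniso h y k)
  by_cases hq : 4 ≤ Nat.card F
  · exact lm.gi2 lm.je F A P B.dec hd (Or.inr ⟨hq, hn⟩) (stab h y hx B hd)
  have h3 : Nat.card F ≤ 3 := by omega
  choose u k1 k2 k3 k4 k5 using fun i => hyp3 B.two h3 (B.nd i) (hd i) (hn i)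
  let σ : Fin 4 × Fin 2 ≃ Fin 8 := finProdFinEquiv
  refine B.frame lm sig h y (e := fun k => u (σ.symm k).1 (σ.symm k).2) (fun k => k2 _ _) (fun k l hkl => ?_)
    (fun k => ⟨_, k1 _ _⟩) (fun i v hv h1 => ?_) ⟨σ (0, 0), σ (0, 1), ?_⟩
  · by_cases e : (σ.symm k).1 = (σ.symm l).1
    · rw [e]
      exact k3 _ _ _ fun e' => hkl (σ.symm.injective (Prod.ext e e'))
    · exact B.dec.orth _ _ e _ (k1 _ _) _ (k1 _ _)
  · obtain ⟨k, c, hc⟩ := k5 i v hv h1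
    exact ⟨σ (i, k), c, by rw [σ.symm_apply_apply]; exact hc⟩
  · rintro ⟨r, hr⟩
    rw [σ.symm_apply_apply, σ.symm_apply_apply, k4, mul_neg, small_sq h3 (k2 0 0)] at hr
    have h1 : r ≠ 0 := fun e => one_ne_zero (α := F) (by rw [e] at hr; linear_combination -hr)
    exact B.two (by linear_combination -hr - small_sq h3 h1)

end I

end Loc2

open Loc2 in
/-- **the local case, `r = 2`** -/
theorem loc2 (lm : Lm) (sig : BoxSig) (h : Cx A Γ M₁ M₂) (y : Cy Γ X 2) : FP3.Good A := by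
  by_cases hx : ∀ a : E8 F, (a : G8 F) ∈ X → a * a = 1
  · obtain ⟨n, d, P, h8, h4, hd, B⟩ := exists_bk y hx
    have hc : (n = 1 ∧ d = 4) ∨ (n = 3 ∧ d = 2) ∨ (n = 7 ∧ d = 1) := by
      interval_cases d <;> omega
    rcases hc with ⟨rfl, rfl⟩ | ⟨rfl, rfl⟩ | ⟨rfl, rfl⟩
    exacts [case_four lm h y hx B, case_two lm sig h y hx B hd, case_one lm sig h y hx B hd]
  · push Not at hx
    obtain ⟨J, hJ, hJ1⟩ := hx
    exact case_II lm h y hJ hJ1

end Cfsg.Agent.N2C.D4
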