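import Cfsg.Agent.N2.Cl.D4.Cy

/-!
# N2 (S3519), `PΩ₈⁺(q)` with triality: odd local subgroups, tori (helper61)
-/

set_option autoImplicit false
set_option linter.unusedSectionVars false

namespace Cfsg.Agent.N2C.D4

open QuadraticMap Module Cfsg.Agent.LieClassical.QuadForms Cfsg.Agent.LieClassical.OrthCore
  Cfsg.Agent.LieClassical.OrthTrans Cfsg.Agent.ClassicalGeometry.OrthSemi Cfsg.Agent.ClassicalGeometry.OrthAut1
  Cfsg.Agent.ClassicalGeometry.TrialityOct Cfsg.Agent.ClassicalGeometry.Triality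
  Cfsg.Agent.H989.OutOrth.Basic Cfsg.Agent.H989.OutOrth.Tri Cfsg.Agent.SB.D4

variable {F : Type} [Field F] [Fintype F]

namespace LocO

theorem split {W : Submodule F (V8 F)} (hN : Nd (Q8 F) W) (v : V8 F) : ∃ w ∈ W, ∃ w' ∈ prp (Q8 F) W, w + w' = v :=
  Submodule.mem_sup.1 (hN.sup_prp nondeg8' ▸ Submodule.mem_top)

theorem ext_prp {W : Submodule F (V8 F)} (hN : Nd (Q8 F) W) {f g : GL8 F} (h1 : ∀ v ∈ W, f v = g v)
    (h2 : ∀ v ∈ prp (Q8 F) W, f v = g v) : f = g := LinearEquiv.ext fun v => by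
  obtain ⟨w, hw, w', hw', rfl⟩ := split hN v
  rw [map_add, map_add, h1 w hw, h2 w' hw']

theorem ext_dec {ι : Type} {P : ι → Submodule F (V8 F)} (hD : Dec (Q8 F) P) {f g : GL8 F}
    (h : ∀ i, ∀ v ∈ P i, f v = g v) : f = g := LinearEquiv.ext fun _ =>
  (show ⨆ i, P i ≤ LinearMap.eqLocus f.toLinearMap g.toLinearMap from iSup_le h) (hD.span ▸ Submodule.mem_top)

theorem bl_comm {Y : Subgroup (GL8 F)} {θ : Y → F} {g : GL8 F} (h : ∀ z ∈ Y, z * g = g * z) {v : V8 F} (hv : v ∈ Bl Y θ) :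
    g v ∈ Bl Y θ := mem_Bl.2 fun a => by
  rw [← LinearEquiv.mul_apply, h _ a.2, ← LinearEquiv.mul_apply, h _ (inv_mem a.2), LinearEquiv.mul_apply,
    LinearEquiv.mul_apply, ← map_add, mem_Bl.1 hv a, map_smul]

theorem sq_pow {G : Type*} [Group G] {g : G} {k : ℕ} (h : g ^ (2 * k + 1) = 1) : (g * g) ^ (k + 1) = g := by
  rw [← pow_two, ← pow_mul, show 2 * (k + 1) = 2 * k + 1 + 1 by ring, pow_succ, h, one_mul]

/-- the part of `x` on `W` -/
theorem exists_part {r : ℕ} (ho : Odd r) {x : GL8 F} (hO : x ∈ O (Q8 F)) (hx : x ^ r = 1) {W : Submodule F (V8 F)}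
    (hN : Nd (Q8 F) W) (hW : ∀ v ∈ W, x v ∈ W) :
    ∃ a : E8 F, a ^ r = 1 ∧ (∀ v ∈ W, a.1 v = x v) ∧ ∀ v ∈ prp (Q8 F) W, a.1 v = v := by
  have hc : IsCompl W (prp (Q8 F) W) := ⟨disjoint_iff.2 hN.inf_prp, codisjoint_iff.2 (hN.sup_prp nondeg8')⟩
  let f := LinearMap.ofIsCompl hc (x.toLinearMap ∘ₗ W.subtype) (prp (Q8 F) W).subtype
  have h1 : ∀ v ∈ W, f v = x v := fun v hv => LinearMap.ofIsCompl_apply_left hc ⟨v, hv⟩
  have h2 : ∀ v ∈ prp (Q8 F) W, f v = v := fun v hv => LinearMap.ofIsCompl_apply_right hc ⟨v, hv⟩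
  have h3 : Function.Injective f := (injective_iff_map_eq_zero f).2 fun v hv => by
    obtain ⟨w, hw, w', hw', rfl⟩ := split hN v
    rw [map_add, h1 w hw, h2 w' hw', add_eq_zero_iff_eq_neg] at hv
    have h4 := hN _ (hW w hw) (mem_prp.1 (hv ▸ neg_mem hw'))
    rw [x.map_eq_zero_iff.1 h4, neg_eq_zero.1 (hv.symm.trans h4), add_zero]
  obtain ⟨g, hg⟩ := exists_gl h3
  have h4 : g ∈ O (Q8 F) := mem_O.2 fun v => by
    obtain ⟨w, hw, w', hw', rfl⟩ := split hN v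
    rw [hg, map_add, h1 w hw, h2 w' hw', Q_add, Q_add, mem_O.1 hO, polar_comm, polar_comm _ w, mem_prp.1 hw' w hw,
      mem_prp.1 hw' _ (hW w hw)]
  have h5 : g ^ r = 1 := ext_prp hN (fun v hv => by
    rw [← hx]
    generalize r = n
    induction n with
    | zero => rfl
    | succ n ih => rw [pow_succ', pow_succ', LinearEquiv.mul_apply, LinearEquiv.mul_apply, ih, hg, h1 _ (pow_inv hW n v hv)])
    fun v hv => pow_fix ((hg v).trans (h2 v hv)) r
  obtain ⟨k, rfl⟩ := ho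
  exact ⟨⟨g, sq_pow h5 ▸ pow_mem (H206.OrthBal.sq_mem_E good8 h4) _⟩, Subtype.ext h5, fun v hv => (hg v).trans (h1 v hv),
    fun v hv => (hg v).trans (h2 v hv)⟩

theorem kp_of_st2 {r : ℕ} (ho : Odd r) {g : E8 F} (hg : g ^ r = 1) {U : Submodule F (V8 F)} (h4 : finrank F U = 4)
    (h : St2 g U) : Kp g U U := by
  refine h.elim id fun k v hv => ?_
  obtain ⟨n, rfl⟩ := ho
  have h1 := dim_prp U
  rw [← sq_pow hg]
  exact pow_inv (x := (g * g).1) (fun w hw => (prp_prp nondeg8' U).le (gam_prp (og g) k (by omega) (k w hw))) _ v hv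

theorem comm_of_mk {r : ℕ} (ho : Odd r) {a b : E8 F} (h : (a : G8 F) * b = b * a) (hb : b ^ r = 1) : a * b = b * a := by
  have h1 : ((a * b * a⁻¹ * b⁻¹ : E8 F) : G8 F) = 1 := by
    rw [QuotientGroup.mk_mul, QuotientGroup.mk_mul, QuotientGroup.mk_mul, h]
    simp
  have h2 := Subgroup.mem_center_iff.1 ((QuotientGroup.eq_one_iff _).1 h1)
  obtain ⟨e, he⟩ := mk_eq_one_iff.1 h1
  have h3 := odd_sc ho he (by
    have h4 : Commute (a * b * a⁻¹ * b⁻¹) b := (h2 b).symm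
    have h5 := h4.mul_pow r
    rwa [inv_mul_cancel_right, conj_pow, hb, mul_one, mul_one, mul_inv_cancel, eq_comm] at h5)
  rwa [mul_inv_eq_one, mul_inv_eq_iff_eq_mul] at h3

/-- the elements of order `r` which centralise `X` -/
def om (X : Subgroup (G8 F)) (r : ℕ) : Set (G8 F) := {t | (∀ x ∈ X, x * t = t * x) ∧ t ^ r = 1}

variable {A : Subgroup (G8 F)} {Γ : Subgroup (MulAut (G8 F))} {M₁ M₂ : Gam (Q8 F)} {X : Subgroup (G8 F)} {r : ℕ}
  (y : Cy Γ X r) (ho : Odd r)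
include y

theorem cen_of {g : E8 F} (hg : ∀ z ∈ y.Y ho, z * g.1 = g.1 * z) : ∀ x ∈ X, x * g = g * x := fun x hx => by
  obtain ⟨a, rfl, ha⟩ := y.lift ho x hx
  exact congrArg (QuotientGroup.mk : E8 F → G8 F) (Subtype.ext (hg _ ha) : a * g = g * a)

theorem mem_A (h : Cx A Γ M₁ M₂) {g : E8 F} (hg : ∀ z ∈ y.Y ho, z * g.1 = g.1 * z) : (g : G8 F) ∈ A :=
  (h.mi.conj _).1 (y.cent (cen_of y ho hg))

theorem mem_om {t : G8 F} : t ∈ om X r ↔ ∃ g : E8 F, (g : G8 F) = t ∧ g ^ r = 1 ∧ ∀ z ∈ y.Y ho, z * g.1 = g.1 * z := by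
  constructor
  · rintro ⟨h1, h2⟩
    obtain ⟨a, rfl⟩ := QuotientGroup.mk_surjective t
    have h3 : ((a ^ (r + 1) : E8 F) : G8 F) = a := by rw [QuotientGroup.mk_pow, pow_succ, h2, one_mul]
    obtain ⟨e, he⟩ := mk_eq_one_iff.1 (show ((a ^ r : E8 F) : G8 F) = 1 from h2)
    refine ⟨_, h3, odd_lift ho he, ?_⟩
    rintro _ ⟨b, rfl, hb, -⟩
    exact congrArg Subtype.val (comm_of_mk ho (h3.symm ▸ h1 _ hb) (odd_lift ho he))
  · rintro ⟨g, rfl, h1, h2⟩
    exact ⟨cen_of y ho h2, by rw [← QuotientGroup.mk_pow, h1, QuotientGroup.mk_one]⟩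

theorem eq_norm_om (h : Cx A Γ M₁ M₂) : A = Subgroup.normalizer (Subgroup.closure (om X r) : Set (G8 F)) := by
  have := simple8 (F := F)
  have hi : N2.Inv Γ X := y.inv
  refine h.eq_norm (fun e => y.ne (eq_bot_iff.2 fun x hx => e.le (Subgroup.subset_closure
    ⟨fun z hz => y.comm z hz x hx, y.pow x hx⟩))) (fun e => y.ne (eq_bot_iff.2 fun x hx => conj_inj8 ?_)) fun σ hσ x hx => ?_
  · have h1 : Subgroup.closure (om X r) ≤ Subgroup.centralizer X := (Subgroup.closure_le _).2 fun t ht => ht.1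
    ext z
    simp [h1 (e.ge (Subgroup.mem_top z)) x hx]
  · have h1 : Subgroup.closure (om X r) ≤ (Subgroup.closure (om X r)).comap σ.toMonoidHom :=
      (Subgroup.closure_le _).2 fun t ht => Subgroup.subset_closure ⟨hi.centralizer σ hσ t ht.1, by
        rw [MulEquiv.coe_toMonoidHom, ← map_pow, ht.2, map_one]⟩
    exact h1 hx

include ho

theorem part4 (h4 : orderOf (Nat.card F : ZMod r) = 4) {U : Submodule F (V8 F)} (hU : finrank F U = 4)
    (hU' : ∀ g ∈ y.Y ho, ∀ v ∈ U, g v ∈ U) : ∃ a : E8 F, a ≠ 1 ∧ a ^ r = 1 ∧ (∀ v ∈ prp (Q8 F) U, a.1 v = v) ∧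
      (∀ z ∈ y.Y ho, z * a.1 = a.1 * z) ∧ ∀ g : E8 F, g ^ r = 1 → (∀ z ∈ y.Y ho, z * g.1 = g.1 * z) →
        Kp g U U ∧ ∃ j : ℕ, ∀ v ∈ U, g.1 v = (a ^ j).1 v := by
  have hN := y.four_nd ho h4 hU hU'
  have h0 : U ≠ ⊥ := by
    rintro rfl
    simp at hU
  obtain ⟨x, hx, w, hw, hw'⟩ := y.four_nt ho h4 h0
  obtain ⟨a, k1, k2, k3⟩ := exists_part ho (y.Y_le ho hx) (y.Y_pow ho x hx) hN (hU' x hx)
  have hI := y.four_irr ho h4 hU
  refine ⟨a, fun e => hw' (by rw [← k2 w hw, e]; rfl), k1, k3, fun z hz => ext_prp hN (fun v hv => ?_) fun v hv => ?_,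
    fun g hg hc => ?_⟩
  · rw [LinearEquiv.mul_apply, LinearEquiv.mul_apply, k2 v hv, k2 _ (hU' z hz v hv), comm_apply (y.Y_comm ho) hz hx]
  · rw [LinearEquiv.mul_apply, LinearEquiv.mul_apply, k3 v hv, k3 _ (prp_inv (y.Y_le ho hz) (hU' z hz) hv)]
  have hc' : ∀ z ∈ y.Y ho, ∀ v, z (g.1 v) = g.1 (z v) := fun z hz => LinearEquiv.congr_fun (hc z hz)
  have h1 : Kp g U U := kp_of_st2 ho hg hU ((y.four_uniq ho h4 hU hU' (U := gmap (og g) U) ((finrank_gmap _ _).trans hU)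
    fun z hz v hv => by
      obtain ⟨v, rfl⟩ := g.1.surjective v
      rw [hc' z hz]
      exact (apply_mem_gmap (M := og g)).2 (hU' z hz v ((apply_mem_gmap (M := og g)).1 hv))).imp
    (fun e v hv => e.le ((apply_mem_gmap (M := og g)).2 hv)) fun e v hv => e.le ((apply_mem_gmap (M := og g)).2 hv))
  obtain ⟨i, u, hu, hu0, h2⟩ := cyc y.prime y.char (hc x hx) (y.Y_pow ho x hx) (congrArg Subtype.val hg) h0 (hU' x hx) h1
    fun v hv e => by_contra fun h0 => hw' (hI.sr (y.Y_comm ho) hU' x hx v hv h0 e w hw)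
  have h3 := (hI (U ⊓ Fx (Subgroup.zpowers (x ^ i * g.1))) inf_le_left fun z hz v hv => ⟨hU' z hz v hv.1,
    mem_Fx_zpowers.2 (by
      rw [LinearEquiv.mul_apply, ← hc' z hz, comm_apply (y.Y_comm ho) (pow_mem hx i) hz]
      exact congrArg z (mem_Fx_zpowers.1 hv.2))⟩).resolve_left fun e => hu0 (e.le ⟨hu, mem_Fx_zpowers.2 h2⟩)
  have h5 : ∀ n : ℕ, ∀ v ∈ U, (a ^ n).1 v = (x ^ n) v := fun n v hv => by
    induction n with
    | zero => rfl
    | succ n ih => rw [pow_succ', pow_succ', e8_mul, LinearEquiv.mul_apply, ih, k2 _ (pow_inv (hU' x hx) n v hv)]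
  refine ⟨h1, (r - 1) * i, fun v hv => ?_⟩
  have h6 : x ^ ((r - 1) * i) * (x ^ i * g.1) = g.1 := by
    rw [← mul_assoc, ← pow_add, ← Nat.succ_mul, Nat.succ_eq_add_one, Nat.sub_add_cancel y.prime.pos, pow_mul,
      y.Y_pow ho x hx, one_pow, one_mul]
  rw [h5 _ v hv, ← h6, LinearEquiv.mul_apply, mem_Fx_zpowers.1 (h3.ge hv).2]

/-- primes dividing `q² + 1` -/
theorem good_four (gn : BoxGN3) (h : Cx A Γ M₁ M₂) (h4 : orderOf (Nat.card F : ZMod r) = 4) : FP3.Good A := by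
  obtain ⟨W, hW, hW'⟩ := y.four_ex ho h4
  have hN := y.four_nd ho h4 hW hW'
  have hP := dim_prp W
  obtain ⟨a, a1, a2, a3, a4, a5⟩ := part4 y ho h4 hW hW'
  obtain ⟨b, b1, b2, b3, b4, b5⟩ := part4 y ho h4 (U := prp (Q8 F) W) (by omega)
    fun g hg v hv => prp_inv (y.Y_le ho hg) (hW' g hg) hv
  rw [prp_prp nondeg8'] at b3
  refine gn F A W a b r y.prime y.char h4 hW hN a1 b1 a2 b2 a3 b3 ((eq_norm_om y h).trans ?_)
  congr 2
  refine le_antisymm ((Subgroup.closure_le _).2 fun t ht => ?_) (Subgroup.closure_mono ?_)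
  · obtain ⟨g, rfl, h1, h2⟩ := (mem_om y ho).1 ht
    obtain ⟨-, i, hi⟩ := a5 g h1 h2
    obtain ⟨k, j, hj⟩ := b5 g h1 h2
    have h3 : g = a ^ i * b ^ j := Subtype.ext (ext_prp hN (fun v hv => by
      rw [hi v hv]
      exact congrArg (a ^ i).1 (pow_fix (b3 v hv) j).symm) fun v hv => by
        change _ = (a ^ i).1 ((b ^ j).1 v)
        rw [← hj v hv]
        exact (pow_fix (a3 _ (k v hv)) i).symm)
    rw [h3, QuotientGroup.mk_mul, QuotientGroup.mk_pow, QuotientGroup.mk_pow]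
    exact mul_mem (pow_mem (Subgroup.subset_closure (by simp)) _) (pow_mem (Subgroup.subset_closure (by simp)) _)
  · rintro _ (rfl | rfl)
    exacts [(mem_om y ho).2 ⟨a, rfl, a2, a4⟩, (mem_om y ho).2 ⟨b, rfl, b2, b4⟩]

variable (hk : orderOf (Nat.card F : ZMod r) ∣ 2)
include hk

theorem eig_of_sing {θ : y.Y ho → F} (h2 : finrank F (Bl (y.Y ho) θ) = 2) {e : V8 F} (he : e ∈ Bl (y.Y ho) θ)
    (h0 : Q8 F e = 0) (he0 : e ≠ 0) {g : GL8 F} (hg : g ∈ y.Y ho) : ∃ l : F, g e = l • e := by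
  have h1 := Bl_rel he ⟨g, hg⟩
  by_cases ht : θ ⟨g, hg⟩ ^ 2 = 4
  · exact ⟨1, (fix_of_sq y.prime ho y.char (y.Y_pow ho g hg) ht h1).trans (one_smul F e).symm⟩
  have h3 := polar_rot (y.Y_le ho hg) h1 ht
  rw [h0, mul_zero] at h3
  by_contra hc
  push Not at hc
  have h4 : LinearIndependent F ![e, g e] := (LinearIndependent.pair_iff' he0).2 fun t e' => hc t e'.symm
  have h5 := ((y.dec ho hk).nd nondeg8' θ).two_mul_le (U := Submodule.span F (Set.range ![e, g e]))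
    (Submodule.span_le.2 (by
      rintro _ ⟨i, rfl⟩
      fin_cases i
      exacts [he, Bl_inv (y.Y_comm ho) θ hg he])) fun u hu z hz => polar_of_ts (fun w hw => by
        rw [Matrix.range_cons_cons_empty, Submodule.mem_span_pair] at hw
        obtain ⟨s, t, rfl⟩ := hw
        rw [Q_add, QuadraticMap.map_smul, QuadraticMap.map_smul, polar_smul_left, polar_smul_right,
          mem_O.1 (y.Y_le ho hg), h3, h0]
        simp) hu hz
  rw [finrank_span_eq_card h4, Fintype.card_fin] at h5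
  omega

theorem half' {e : V8 F} (he : Q8 F e = 0) (he0 : e ≠ 0) (heC : ∀ g ∈ y.Y ho, ∃ l : F, g e = l • e) :
    ∃ U : Submodule F (V8 F), (∀ u ∈ U, Q8 F u = 0) ∧
      ∀ θ, 2 * finrank F ↥(U ⊓ Bl (y.Y ho) θ) = finrank F (Bl (y.Y ho) θ) := by
  classical
  obtain ⟨U, h1, h2, h3⟩ := y.tf1 he he0 fun x hx => (y.lift ho x hx).imp fun a ha => ⟨ha.1, heC _ ha.2⟩
  have := finite_sub (y.Y ho)
  have := Fintype.ofFinite (y.Y ho)
  have h4 := finrank_le_sum (y.Y_comm ho) (y.sym_card ho hk) (U := U) (by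
    rintro _ ⟨a, rfl, ha, -⟩
    exact h3 a ha)
  have h5 := (y.dec ho hk).sum_finrank nondeg8'
  have h6 : ∀ θ ∈ Finset.univ, 2 * finrank F ↥(U ⊓ Bl (y.Y ho) θ) ≤ finrank F (Bl (y.Y ho) θ) := fun θ _ =>
    ((y.dec ho hk).nd nondeg8' θ).two_mul_le inf_le_right fun x hx z hz => polar_of_ts h2 hx.1 hz.1
  refine ⟨U, h2, fun θ => (Finset.sum_eq_sum_iff_of_le h6).1 (le_antisymm (Finset.sum_le_sum h6) ?_) θ
    (Finset.mem_univ θ)⟩
  rw [h5, finrank8, ← Finset.mul_sum]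
  omega

/-- four planes -/
theorem good_planes (lm : Lm) (h : Cx A Γ M₁ M₂) (h2 : ∀ θ, finrank F (Bl (y.Y ho) θ) ≤ 2) : FP3.Good A := by
  have := finite_sub (y.Y ho)
  have := finite8 (F := F)
  obtain ⟨θ, hθ⟩ := y.ex_block ho hk
  have h0 : Bl (y.Y ho) θ ≠ ⊥ := fun e => hθ (e ▸ bot_le)
  obtain ⟨f, k1, k2, k3, k4⟩ := (y.dec ho hk).enum nondeg8' (d := 2) (n := 3) (fun θ hθ => by
    have := h2 θ
    have := mt Submodule.finrank_eq_zero.1 hθ
    obtain ⟨m, hm⟩ := y.bl_even ho hk θ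
    omega) finrank8.symm h0
  refine lm.gi2 lm.je F A _ k1 k2 ?_ fun a => ⟨fun ha => k4 _ (prm_Bl (y.Y_conj ho)) _ (h.og_mem.2 ha), fun ha => ?_⟩
  · by_cases hA : ∀ i, Aniso (Q8 F) (Bl (y.Y ho) (f i))
    · exact Or.inl hA
    have key : ∀ i, ¬ Aniso (Q8 F) (Bl (y.Y ho) (f i)) → ∃ e ∈ Bl (y.Y ho) (f i), Q8 F e = 0 ∧ e ≠ 0 := fun i hi => by
      simpa [Aniso] using hi
    push Not at hA
    obtain ⟨i, hi⟩ := hA
    obtain ⟨e, he, e1, e2⟩ := key i hi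
    obtain ⟨U, u1, u2⟩ := half' y ho hk e1 e2 fun g hg => eig_of_sing y ho hk (k2 i) he e1 e2 hg
    have h3 : ∀ j, ¬ Aniso (Q8 F) (Bl (y.Y ho) (f j)) := fun j hj => by
      have h4 := u2 (f j)
      rw [show U ⊓ Bl (y.Y ho) (f j) = ⊥ from eq_bot_iff.2 fun v hv => hj v hv.2 (u1 v hv.1), finrank_bot, k2] at h4
      omega
    refine Or.inr ⟨?_, h3⟩
    obtain ⟨x, t, hG⟩ := y.ex_gen ho hθ
    obtain ⟨w, hw, w1, w2⟩ := key _ (h3 (Fin.last 3))
    obtain ⟨l, hl⟩ := eig_of_sing y ho hk (k2 _) hw w1 w2 hG.mem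
    have h4 : ∀ n : ℕ, (x ^ n) w = l ^ n • w := fun n => by
      induction n with
      | zero => simp
      | succ n ih => rw [pow_succ', LinearEquiv.mul_apply, ih, map_smul, hl, smul_smul, pow_succ]
    have h5 : l ^ r = 1 := smul_left_injective F w2 (by
      have h6 := h4 r
      rw [y.Y_pow ho x hG.mem] at h6
      exact h6.symm.trans (one_smul F w).symm)
    have : Fact r.Prime := ⟨y.prime⟩
    have h6 : r ∣ Fintype.card F - 1 := orderOf_eq_prime h5 (fun e => w2 (hG.fpf w (k3 ▸ hw) (by rw [hl, e, one_smul]))) ▸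
      orderOf_dvd_of_pow_eq_one (FiniteField.pow_card_sub_one_eq_one l (by rintro rfl; simp [y.prime.ne_zero] at h5))
    have h7 : 1 < Fintype.card F := Fintype.one_lt_card
    have h8 := Nat.le_of_dvd (by omega) h6
    have h9 := y.prime.two_le
    obtain ⟨m, hm⟩ := ho
    rw [Nat.card_eq_fintype_card]
    omega
  · rw [eq_norm_om y h, ← inv_mem_iff]
    refine Subgroup.mem_normalizer_fintype fun t ht => ?_
    have h1 : Subgroup.closure (om X r) ≤ (Subgroup.closure (om X r)).comap (MulAut.conj (a : G8 F)⁻¹).toMonoidHom := by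
      refine (Subgroup.closure_le _).2 fun t ht => Subgroup.subset_closure ?_
      obtain ⟨g, rfl, g1, g2⟩ := (mem_om y ho).1 ht
      have g3 : (a⁻¹ * g * a⁻¹⁻¹) ^ r = 1 := by rw [conj_pow, g1, mul_one, mul_inv_cancel]
      refine (mem_om y ho).2 ⟨a⁻¹ * g * a⁻¹⁻¹, rfl, g3, fun z hz => ext_dec k1 fun i =>
        (lm.p2 F _ (k2 i) (k1.nd nondeg8' i)).1 z _ (y.Y_le ho hz) (E_le_O (a⁻¹ * g * a⁻¹⁻¹).2)
          (ho.of_dvd_nat (orderOf_dvd_of_pow_eq_one (y.Y_pow ho z hz)))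
          (ho.of_dvd_nat (orderOf_dvd_of_pow_eq_one (congrArg Subtype.val g3)))
          (fun v hv => Bl_inv (y.Y_comm ho) _ hz hv) fun v hv => ?_⟩
      obtain ⟨j, hj⟩ := ha i
      obtain ⟨w, hw, e⟩ := gam_pre (og a) hj ((k2 j).trans (k2 i).symm).le (bl_comm g2 (hj v hv))
      rw [inv_inv, e8_mul, e8_mul, ← e]
      exact (a.1.symm_apply_apply w).symm ▸ hw
    exact h1 ht

end LocO

end Cfsg.Agent.N2C.D4
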