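import Cfsg.Agent.N2.Cl.D4.LocA
import Cfsg.Agent.SB.D4.GS

/-!
# N2 (S3519), `PΩ₈⁺(q)` with triality: odd local subgroups (helper61)
-/

set_option autoImplicit false
set_option linter.unusedSectionVars false

namespace Cfsg.Agent.N2C.D4

open QuadraticMap Module Cfsg.Agent.LieClassical.QuadForms Cfsg.Agent.LieClassical.OrthCore
  Cfsg.Agent.LieClassical.OrthTrans Cfsg.Agent.ClassicalGeometry.OrthSemi Cfsg.Agent.ClassicalGeometry.OrthAut1
  Cfsg.Agent.ClassicalGeometry.TrialityOct Cfsg.Agent.ClassicalGeometry.Triality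
  Cfsg.Agent.H989.OutOrth.Basic Cfsg.Agent.H989.OutOrth.Tri Cfsg.Agent.SB.D4

variable {F : Type} [Field F] [Fintype F]

namespace LocO

theorem qd_of_conj {M : Gam (Q8 F)} {b : E8 F} (h : Qd (conjE (Q8 F) M b)) : Qd b := by
  obtain ⟨t, d, h⟩ := h
  obtain ⟨σ, c, hM⟩ := M.2
  refine ⟨σ.symm t, σ.symm d, fun x => M.1.injective ?_⟩
  rw [hM.sub, hM.smul, hM.smul, σ.apply_symm_apply, σ.apply_symm_apply, ← conjE_apply, ← conjE_apply, h]

/-- an element which is a scalar on two different solids does not swap a decomposition `4 + 4` -/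
theorem kp_of_sc {b : E8 F} {C K K' : Submodule F (V8 F)} (h4 : finrank F C = 4) (hN : Nd (Q8 F) C) (h : St2 b C)
    (hK : finrank F K = 4) (hne : ¬ K' ≤ K) {l : F} (h1 : ∀ v ∈ K, b.1 v = l • v) (h2 : ∀ v ∈ K', b.1 v = l • v) :
    Kp b C C := by
  refine h.resolve_right fun k => hne ?_
  have h3 : K ⊔ K' ≤ Eg b l := sup_le (fun v hv => mem_Eg.2 (h1 v hv)) fun v hv => mem_Eg.2 (h2 v hv)
  have h5 : (K ⊔ K') ⊓ C = ⊥ := eq_bot_iff.2 fun v hv => b.1.map_eq_zero_iff.1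
    (hN _ (mem_Eg.1 (h3 hv.1) ▸ C.smul_mem l hv.2) (mem_prp.1 (k v hv.2)))
  have h6 := Submodule.finrank_sup_add_finrank_inf_eq (K ⊔ K') C
  have h7 := ((K ⊔ K') ⊔ C).finrank_le
  rw [h5, finrank_bot] at h6
  rw [finrank8] at h7
  exact le_sup_right.trans (Submodule.eq_of_le_of_finrank_le le_sup_left (by omega)).ge

theorem finrank_pl {y : V8 F} (hy : Q8 F y = 0) (hy0 : y ≠ 0) : finrank F (LinearMap.range (pl y)) = 4 := by
  rw [range_pl]
  exact ClassicalGeometry.TrialitySpaces.finrank_leftSp (by rwa [norm_oconj])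
    (ClassicalGeometry.TrialitySpaces.oconj_ne_zero hy0)

/-- the partners of a long root element do not swap a decomposition `4 + 4` -/
theorem kp_sg {e e' : V8 F} (he : Q8 F e = 0) (he' : Q8 F e' = 0) (h₁ : polar (Q8 F) e e' = 0) (h0 : e ≠ 0)
    (hi : ∀ l : F, e' ≠ l • e) {b c : E8 F} (ht : T3 ⟨siegel (Q8 F) e e' he h₁, siegel_mem_E he h₁⟩ b c)
    {C D : Submodule F (V8 F)} (hC : finrank F C = 4) (hD : finrank F D = 4) (nC : Nd (Q8 F) C) (nD : Nd (Q8 F) D)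
    (hb : St2 b C) (hc : St2 c D) : Kp b C C ∧ Kp c D D := by
  obtain ⟨ε, -, k1, k2⟩ := Tr.lin ht (f := LinearMap.id + pr e' ∘ₗ pl e) (g := LinearMap.id - pl e ∘ₗ pr e')
    (siegel_pm he he' h₁)
  have h0' : e' ≠ 0 := fun k => hi 0 (by rw [k, zero_smul])
  refine ⟨kp_of_sc hC nC hb (finrank_pr he h0) (K' := LinearMap.range (pr e')) (fun k => ?_) (l := ε) ?_ ?_,
    kp_of_sc hD nD hc (finrank_pl he h0) (K' := LinearMap.range (pl e')) (fun k => ?_) (l := ε⁻¹) ?_ ?_⟩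
  · obtain ⟨l, hl⟩ := pr_line he h0 he' h0' fun t => k ⟨t, rfl⟩
    exact hi l hl
  · rintro _ ⟨t, rfl⟩
    rw [k1]
    change ε • (pm t e + pm (pm e (pm t e)) e') = ε • pm t e
    rw [pm_pm_right, he, zero_smul, zero_pm, add_zero]
  · rintro _ ⟨t, rfl⟩
    rw [k1]
    change ε • (pm t e' + pm (pm e (pm t e')) e') = ε • pm t e'
    rw [pm_RL h₁, pm_pm_right, he', zero_smul, zero_pm, neg_zero, add_zero]
  · obtain ⟨l, hl⟩ := pl_line he h0 he' h0' fun t => k ⟨t, rfl⟩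
    exact hi l hl
  · rintro _ ⟨t, rfl⟩
    rw [k2]
    change ε⁻¹ • (pm e t - pm e (pm (pm e t) e')) = ε⁻¹ • pm e t
    rw [pm_LR ((polar_comm _ _ _).trans h₁), pm_pm_left, he, zero_smul, pm_zero, neg_zero, sub_zero]
  · rintro _ ⟨t, rfl⟩
    rw [k2]
    change ε⁻¹ • (pm e' t - pm e (pm (pm e' t) e')) = ε⁻¹ • pm e' t
    rw [pm_pm_left, he', zero_smul, pm_zero, sub_zero]

theorem span_four {e e' f f' : V8 F} (he : Q8 F e = 0) (he' : Q8 F e' = 0) (hf : Q8 F f = 0) (hf' : Q8 F f' = 0)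
    (h₁ : polar (Q8 F) e e' = 0) (h₂ : polar (Q8 F) f f' = 0)
    (hd : polar (Q8 F) e f * polar (Q8 F) e' f' - polar (Q8 F) e f' * polar (Q8 F) e' f ≠ 0) :
    finrank F (Submodule.span F ({e, e', f, f'} : Set (V8 F))) = 4 := by
  have h1 : LinearIndependent F ![e, e', f, f'] := Fintype.linearIndependent_iff.2 fun g hg => by
    rw [Fin.sum_univ_four] at hg
    change g 0 • e + g 1 • e' + g 2 • f + g 3 • f' = 0 at hg
    have k : ∀ w, g 0 * polar (Q8 F) e w + g 1 * polar (Q8 F) e' w + g 2 * polar (Q8 F) f w + g 3 * polar (Q8 F) f' w = 0 :=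
      fun w => by
        have k := congrArg (fun v => polar (Q8 F) v w) hg
        simpa only [polar_add_left, polar_smul_left, smul_eq_mul, polar_zero_left] using k
    have k1 := k e
    have k2 := k e'
    have k3 := k f
    have k4 := k f'
    rw [polar_self_of_sing he, polar_comm _ e' e, h₁, polar_comm _ f, polar_comm _ f'] at k1
    rw [polar_self_of_sing he', h₁, polar_comm _ f, polar_comm _ f'] at k2
    rw [polar_self_of_sing hf, polar_comm _ f' f, h₂] at k3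
    rw [polar_self_of_sing hf', h₂] at k4
    intro i
    fin_cases i <;> refine mul_right_cancel₀ hd ?_
    · show g 0 * _ = _
      linear_combination polar (Q8 F) e' f' * k3 - polar (Q8 F) e' f * k4
    · show g 1 * _ = _
      linear_combination polar (Q8 F) e f * k4 - polar (Q8 F) e f' * k3
    · show g 2 * _ = _
      linear_combination polar (Q8 F) e' f' * k1 - polar (Q8 F) e f' * k2
    · show g 3 * _ = _
      linear_combination polar (Q8 F) e f * k2 - polar (Q8 F) e' f * k1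
  have h2 := finrank_span_eq_card h1
  rwa [show Set.range ![e, e', f, f'] = {e, e', f, f'} by
    simp only [Matrix.range_cons, Matrix.range_empty, Set.union_empty, Set.singleton_union]] at h2

variable {A : Subgroup (G8 F)} {Γ : Subgroup (MulAut (G8 F))} {M₁ M₂ : Gam (Q8 F)} {X : Subgroup (G8 F)} {r : ℕ}
  (y : Cy Γ X r) (ho : Odd r) (h : Cx A Γ M₁ M₂)
include y ho h

theorem fx_mul {u w : V8 F} (hu : u ∈ gmap M₁⁻¹ (Fx (y.Y ho))) (hw : w ∈ gmap M₂⁻¹ (Fx (y.Y ho))) : pm u w ∈ Fx (y.Y ho) := by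
  obtain ⟨α, hα, h1⟩ := h.e1
  obtain ⟨β, hβ, h2⟩ := h.e2
  rw [mem_gmap, inv_inv] at hu hw
  refine mem_Fx.2 ?_
  rintro _ ⟨a, rfl, ha, ha'⟩
  obtain ⟨b, c, ht, hb, hc⟩ := exists_T3_odd ho ha'
  rw [ht, (y.ty1_fx ho hα h1).1 hu a b c ht ⟨a, rfl, ha, ha'⟩ hb, (y.ty2_fx ho hβ h2).1 hw a b c ht ⟨a, rfl, ha, ha'⟩ hc]

theorem fx_le : finrank F (Fx (y.Y ho)) ≤ 4 := by
  obtain ⟨α, hα, h1⟩ := h.e1
  obtain ⟨β, hβ, h2⟩ := h.e2
  have k1 := dim_prp (Fx (y.Y ho))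
  have k2 := dim_prp (gmap M₂⁻¹ (Fx (y.Y ho)))
  have k3 := Submodule.finrank_lt (y.Fx_ne_top ho)
  rw [finrank_gmap] at k2
  rw [finrank8] at k3
  obtain ⟨w, hw, hw0⟩ := ((nd_gmap M₂⁻¹ (y.nd_FxY ho)).nd_prp nondeg8').exists_nonsing fun e => by
    rw [e, finrank_bot] at k2
    omega
  have k4 : ∀ u ∈ gmap M₁⁻¹ (Fx (y.Y ho)), pr w u ∈ prp (Q8 F) (Fx (y.Y ho)) := fun u hu => mem_prp.2 fun z hz => by
    rw [pr_apply, polar_comm, ← polar_pm, polar_comm]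
    refine mem_prp.1 hw _ ?_
    rw [mem_gmap, inv_inv] at hu ⊢
    refine (y.ty2_fx ho hβ h2).2 fun a b c ht ha hc => ?_
    obtain ⟨d, d', j1, j2, j3⟩ := (ht.pow r).sc (e := 1) (((y.coe_mem_Y ho).1 ha).2 ▸ Sc.one)
    rw [j2.unique (e' := 1) (hc ▸ Sc.one), mul_one] at j3
    rw [ht.rot.rot, mem_Fx.1 hz _ ha, (y.ty1_fx ho hα h1).1 hu a b c ht ha (Sc.eq_one (j3 ▸ j1))]
  have k5 := LinearMap.finrank_le_finrank_of_injective (f := (pr w).restrict k4) fun _ _ e =>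
    Subtype.ext (pr_injective hw0 (congrArg Subtype.val e))
  rw [finrank_gmap] at k5
  omega

theorem good_fx (lm : Lm) (h4 : finrank F (Fx (y.Y ho)) = 4) : FP3.Good A :=
  h.good_44 lm.g44 lm.t44 h4 (y.nd_FxY ho) (fun _ hM => Or.inl fun _ => y.L_fx ho hM) (Or.inl rfl) (Or.inl rfl)
    fun _ hu _ hw => fx_mul y ho h hu hw

theorem not_eight (lq : BoxLQ) {θ : y.Y ho → F} (h8 : finrank F (Bl (y.Y ho) θ) = 8) : False := by
  have hT : Bl (y.Y ho) θ = ⊤ := Submodule.eq_top_of_finrank_eq (h8.trans finrank8.symm)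
  have key : ∀ a : E8 F, (a : G8 F) ∈ X → a ^ r = 1 → Qd a := fun a ha ha' =>
    ⟨θ ⟨a.1, a, rfl, ha, ha'⟩, 1, fun x => by
      rw [one_smul]
      exact Bl_rel (θ := θ) (hT ▸ Submodule.mem_top) ⟨a.1, a, rfl, ha, ha'⟩⟩
  obtain ⟨_, ⟨a, rfl, ha, ha'⟩, ha1⟩ := y.Y_ne ho
  obtain ⟨b, c, ht, hb, hc⟩ := exists_T3_odd ho ha'
  exact ha1 (congrArg Subtype.val (lq F a b c r y.prime ho y.char ht ha' hb hc (key a ha ha')
    (qd_of_conj (key _ ((h.sym1 y.inv ht).1 ha) (by rw [← map_pow, hb, map_one])))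
    (qd_of_conj (key _ ((h.sym2 y.inv ht).1 ha) (by rw [← map_pow, hc, map_one])))))

variable (hk : orderOf (Nat.card F : ZMod r) ∣ 2)
include hk

theorem good_six (lm : Lm) {θ : y.Y ho → F} (hθ : ¬ Bl (y.Y ho) θ ≤ Fx (y.Y ho)) (h6 : finrank F (Bl (y.Y ho) θ) = 6) :
    FP3.Good A := by
  have hD := y.dec ho hk
  have hN := hD.nd nondeg8' θ
  obtain ⟨x, t, hG⟩ := y.ex_gen ho hθ
  have hP := dim_prp (Bl (y.Y ho) θ)
  obtain ⟨s, s1, s2, s3⟩ := lm.ex6 F _ x t h6 hN (y.Y_le ho hG.mem) hG.inv hG.rel hG.ne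
  refine h.good_12 (P := prp (Q8 F) (Bl (y.Y ho) θ)) (by omega) (fun M hM v hv => gam_prp M ?_ le_rfl hv)
    (mem_A y ho h fun z hz => ext_prp hN (fun v hv => ?_) fun v hv => ?_) s1
  · obtain ⟨θ', h1⟩ := prm_Bl (y.Y_conj ho) M hM θ
    by_cases h2 : θ = θ'
    · exact h2 ▸ h1
    · have h3 := finrank_le_of_maps M h1
      have h4 := hD.add_le nondeg8' h2
      rw [finrank8] at h4
      omega
  · obtain ⟨j, hj⟩ := hG.pow z hz
    have h1 : Kp s (Bl (y.Y ho) θ) (Bl (y.Y ho) θ) :=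
      prp_prp nondeg8' (Bl (y.Y ho) θ) ▸ Kp.prp fun v hv => (s2 v hv).symm ▸ hv
    rw [LinearEquiv.mul_apply, LinearEquiv.mul_apply, hj v hv, hj _ (h1 v hv)]
    clear hj
    induction j with
    | zero => rfl
    | succ j ih => rw [pow_succ', LinearEquiv.mul_apply, LinearEquiv.mul_apply, ih, s3 _ (pow_inv hG.inv j v hv)]
  · rw [LinearEquiv.mul_apply, LinearEquiv.mul_apply, s2 v hv,
      s2 _ (prp_inv (y.Y_le ho hz) (fun w hw => Bl_inv (y.Y_comm ho) θ hz hw) hv)]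

theorem good_blk4 (lm : Lm) {θ : y.Y ho → F} (hθ : ¬ Bl (y.Y ho) θ ≤ Fx (y.Y ho)) (h4 : finrank F (Bl (y.Y ho) θ) = 4) :
    FP3.Good A := by
  have hD := y.dec ho hk
  have hN := hD.nd nondeg8' θ
  obtain ⟨x, t, hG⟩ := y.ex_gen ho hθ
  have hO := y.Y_le ho hG.mem
  have hP := dim_prp (Bl (y.Y ho) θ)
  have hC : finrank F (prp (Q8 F) (Bl (y.Y ho) θ)) = 4 := by omega
  have hN' := hN.nd_prp nondeg8'
  have hU : LL Γ ≤ stD _ hC := fun M hM => by
    obtain ⟨θ', h1⟩ := prm_Bl (y.Y_conj ho) M hM θ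
    by_cases h2 : θ' = θ
    · exact Or.inl fun v hv => gam_prp M (h2 ▸ h1) le_rfl hv
    · exact Or.inr fun v hv => gam_prp M (fun w hw => hD.le_prp h2 (h1 w hw)) (by omega) hv
  obtain ⟨e, he, f, hf, h1, h2, h3, h5, h6⟩ := boxU2 F (V8 F) (Q8 F) _ x t h4.ge hN hO hG.inv hG.rel hG.ne
  have d2 := (finrank_gmap M₁⁻¹ _).trans hC
  have d3 := (finrank_gmap M₂⁻¹ _).trans hC
  have key : ∀ e ∈ Bl (y.Y ho) θ, ∀ (h1 : Q8 F e = 0) (h3 : polar (Q8 F) e (x e) = 0), e ≠ 0 → (∀ l : F, x e ≠ l • e) →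
      ∃ b c, T3 ⟨siegel (Q8 F) e (x e) h1 h3, siegel_mem_E h1 h3⟩ b c ∧ Kp b _ _ ∧ Kp c _ _ := fun e he h1 h3 h0 hi => by
    have h7 := (mem_O.1 hO e).trans h1
    have h8 := y.sg_mem h1 h7 (fun z hz => (y.lift ho z hz).imp fun a ha => ⟨ha.1, by
      obtain ⟨j, hj⟩ := hG.pow _ ha.2
      rw [hj e he, hj _ (hG.inv e he), wd_pow (hG.rel e he)]⟩) 1 (by rwa [one_smul])
    simp only [one_smul] at h8
    obtain ⟨b, c, ht⟩ := exists_T3 (⟨siegel (Q8 F) e (x e) h1 h3, siegel_mem_E h1 h3⟩ : E8 F)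
    obtain ⟨-, k1, k2⟩ := (h.core_D hC hN' hU ht).1 ((h.mi.conj _).1 (y.cent h8))
    exact ⟨b, c, ht, kp_sg h1 h7 h3 h0 hi ht d2 d3 (nd_gmap _ hN') (nd_gmap _ hN') k1 k2⟩
  obtain ⟨b, c, t1, b1, c1⟩ := key e he h1 h3 (fun k => h6 (by simp [k])) fun l k => h6 (by
    rw [k, polar_smul_left, polar_smul_left, smul_eq_mul, smul_eq_mul]
    ring)
  obtain ⟨b', c', t2, b2, c2⟩ := key f hf h2 h5 (fun k => h6 (by simp [k])) fun l k => h6 (by
    rw [k, polar_smul_right, polar_smul_right, smul_eq_mul, smul_eq_mul]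
    ring)
  have h7 := (mem_O.1 hO e).trans h1
  have h8 := (mem_O.1 hO f).trans h2
  obtain ⟨D₂, D₃, k1, k2, k3⟩ := lm.sg F e (x e) f (x f) h1 h2 h3 h5 b c b' c' _ _ h7 h8 h6 t1 t2 d2 d3 (nd_gmap _ hN')
    (nd_gmap _ hN') b1 b2 c1 c2
  rw [Submodule.eq_of_le_of_finrank_eq (Submodule.span_le.2 (by
    rintro _ (rfl | rfl | rfl | rfl)
    exacts [he, hG.inv _ he, hf, hG.inv _ hf])) ((span_four h1 h7 h2 h8 h3 h5 h6).trans h4.symm)] at k3
  exact h.good_44 lm.g44 lm.t44 hC hN' hU k1 k2 k3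

theorem good_two (lm : Lm) : FP3.Good A := by
  by_cases h2 : ∀ θ, finrank F (Bl (y.Y ho) θ) ≤ 2
  · exact good_planes y ho hk lm h h2
  push Not at h2
  obtain ⟨θ, h2⟩ := h2
  obtain ⟨m, hm⟩ := y.bl_even ho hk θ
  have h3 := (Bl (y.Y ho) θ).finrank_le
  have h5 := fx_le y ho h
  rw [finrank8] at h3
  by_cases hθ : Bl (y.Y ho) θ ≤ Fx (y.Y ho)
  · have h6 := Submodule.finrank_mono hθ
    exact good_fx y ho h lm (by omega)
  obtain h4 | h4 | h4 : finrank F (Bl (y.Y ho) θ) = 4 ∨ finrank F (Bl (y.Y ho) θ) = 6 ∨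
    finrank F (Bl (y.Y ho) θ) = 8 := by omega
  exacts [good_blk4 y ho h hk lm hθ h4, good_six y ho h hk lm hθ h4, (not_eight y ho h lm.lq h4).elim]

end LocO

/-- the local case for odd primes -/
theorem locO (lm : Lm) {A : Subgroup (G8 F)} {Γ : Subgroup (MulAut (G8 F))} {M₁ M₂ : Gam (Q8 F)} {X : Subgroup (G8 F)}
    {r : ℕ} (h : Cx A Γ M₁ M₂) (y : Cy Γ X r) (ho : Odd r) : FP3.Good A := by
  by_cases hk : orderOf (Nat.card F : ZMod r) ∣ 2
  · exact LocO.good_two y ho h hk lm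
  rcases y.order_cases with h1 | h1
  · refine LocO.good_four y ho lm.gn3 h ?_
    have h2 := Nat.le_of_dvd (by norm_num) h1
    generalize orderOf (Nat.card F : ZMod r) = k at *
    interval_cases k <;> omega
  · refine (y.three ho ?_).elim
    have h2 := Nat.le_of_dvd (by norm_num) h1
    generalize orderOf (Nat.card F : ZMod r) = k at *
    interval_cases k <;> omega

end Cfsg.Agent.N2C.D4
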