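import Cfsg.Agent.N2.Cl.D4.Core

/-!
# N2 (S3519), `PΩ₈⁺(q)` with triality: the stabiliser of three planes (helper61)
-/

set_option autoImplicit false
set_option linter.unusedSectionVars false

namespace Cfsg.Agent.N2C.D4

open QuadraticMap Module Cfsg.Agent.LieClassical.QuadForms Cfsg.Agent.LieClassical.OrthCore
  Cfsg.Agent.LieClassical.OrthTrans Cfsg.Agent.ClassicalGeometry.OrthSemi Cfsg.Agent.ClassicalGeometry.OrthAut1
  Cfsg.Agent.ClassicalGeometry.TrialityOct Cfsg.Agent.ClassicalGeometry.Triality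
  Cfsg.Agent.H989.OutOrth.Basic Cfsg.Agent.H989.OutOrth.Tri Cfsg.Agent.SB.D4

variable {F : Type} [Field F] [Fintype F]

theorem ord_dvd {r : ℕ} (hr : r.Prime) (hc : (r : F) ≠ 0) : orderOf (Nat.card F : ZMod r) ∣ r - 1 :=
  have := Fact.mk hr
  orderOf_dvd_of_pow_eq_one (ZMod.pow_card_sub_one_eq_one (card_ne_zero_zmod hr hc))

theorem odd_of_three {r : ℕ} (hr : r.Prime) (hc : (r : F) ≠ 0) (h3 : 3 ∣ orderOf (Nat.card F : ZMod r)) : Odd r :=
  hr.odd_of_ne_two fun e => by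
    have := h3.trans (ord_dvd hr hc)
    omega

/-- the space moved by an element of odd prime order -/
theorem fx_dim' {r : ℕ} (hr : r.Prime) (ho : Odd r) (hc : (r : F) ≠ 0) {x : GL8 F} (hO : x ∈ O (Q8 F)) (hx : x ^ r = 1)
    (hx1 : x ≠ 1) : ∃ m, finrank F (Fx (Subgroup.zpowers x)) + m = 8 ∧ Even m ∧ m ≠ 0 ∧
      orderOf (Nat.card F : ZMod r) ∣ m := by
  have := finite_sub (Subgroup.zpowers x)
  have hN := nd_Fx nondeg8' hr hc ((Subgroup.zpowers_le (H := O (Q8 F))).2 hO) fun a ha => by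
    obtain ⟨k, rfl⟩ := ha
    rw [← zpow_natCast, ← zpow_mul, mul_comm, zpow_mul, zpow_natCast, hx, one_zpow]
  obtain ⟨m, hm, hk⟩ := order_dvd_one hr hc hx (U := ⊤) fun _ _ => trivial
  rw [top_inf_eq, finrank_top, finrank8] at hm
  have h1 := dim_prp (Fx (Subgroup.zpowers x))
  have h2 := even_of_fpf hr ho hO hx (hN.nd_prp nondeg8')
    (fun v hv => prp_inv hO (fun w hw => by rwa [mem_Fx_zpowers.1 hw]) hv)
    fun v hv hv' => hN v (mem_Fx_zpowers.2 hv') (mem_prp.1 hv)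
  refine ⟨m, hm.symm, by rwa [show m = finrank F (prp (Q8 F) (Fx (Subgroup.zpowers x))) by omega], ?_, hk⟩
  rintro rfl
  have h3 : Fx (Subgroup.zpowers x) = ⊤ := Submodule.eq_top_of_finrank_eq (by rw [finrank8]; omega)
  exact hx1 (LinearEquiv.ext fun v => mem_Fx_zpowers.1 (h3 ▸ Submodule.mem_top))

theorem Rp.fx_dim {a : E8 F} (h : Rp a) : finrank F (Fx (Subgroup.zpowers a.1)) = 2 := by
  obtain ⟨h1, r, hr, hc, h3, ha⟩ := h
  obtain ⟨m, k1, ⟨n, rfl⟩, k2, k4⟩ := fx_dim' hr (odd_of_three hr hc h3) hc (E_le_O a.2) (congrArg Subtype.val ha)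
    fun e => h1 (Subtype.ext e)
  have := h3.trans k4
  omega

/-- small invariant subspaces are fixed -/
theorem Rp.fix {a : E8 F} (h : Rp a) {U : Submodule F (V8 F)} (h2 : finrank F U ≤ 2) (hU : Kp a U U) :
    ∀ v ∈ U, a.1 v = v := by
  obtain ⟨-, r, hr, hc, h3, ha⟩ := h
  obtain ⟨m, k1, k2⟩ := order_dvd_one hr hc (congrArg Subtype.val ha) hU
  have := h3.trans k2
  exact fun v hv => mem_Fx_zpowers.1 (inf_eq_left.1 (Submodule.eq_of_le_of_finrank_eq inf_le_left (by omega)) hv)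

theorem T3.ne_one {a b c : E8 F} {r : ℕ} (ho : Odd r) (h : T3 a b c) (ha : a ^ r = 1) (h1 : a ≠ 1) : b ≠ 1 ∧ c ≠ 1 := by
  constructor <;> rintro rfl
  · obtain ⟨d, d', -, k, -⟩ := h.rot.sc Sc.one
    exact h1 (odd_sc ho k ha)
  · obtain ⟨d, d', k, -⟩ := h.rot.rot.sc Sc.one
    exact h1 (odd_sc ho k ha)

theorem Rp.t3 {a : E8 F} (h : Rp a) : ∃ b c, T3 a b c ∧ Rp b ∧ Rp c := by
  obtain ⟨h1, r, hr, hc, h3, ha⟩ := h
  have ho := odd_of_three hr hc h3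
  obtain ⟨b, c, t, k1, k2⟩ := exists_T3_odd ho ha
  obtain ⟨k3, k4⟩ := T3.ne_one ho t ha h1
  exact ⟨b, c, t, ⟨k3, r, hr, hc, h3, k1⟩, k4, r, hr, hc, h3, k2⟩

theorem Rg.t3 {a : E8 F} (h : Rg a) : ∃ b c, T3 a b c ∧ Rg b ∧ Rg c := by
  rcases h with h | ⟨hq, h9, h3⟩
  · obtain ⟨b, c, t, k1, k2⟩ := h.t3
    exact ⟨b, c, t, Or.inl k1, Or.inl k2⟩
  · obtain ⟨b, c, t, k1, k2⟩ := exists_T3_odd (by decide) h9
    obtain ⟨k3, k4⟩ := T3.ne_one (r := 3) (by decide) (t.pow 3) (by rw [← pow_mul, h9]) h3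
    exact ⟨b, c, t, Or.inr ⟨hq, k1, k3⟩, Or.inr ⟨hq, k2, k4⟩⟩

theorem nine_dvd {a : GL8 F} (h9 : a ^ 9 = 1) (h3 : a ^ 3 ≠ 1) {W : Submodule F (V8 F)} (hW : ∀ v ∈ W, a v ∈ W)
    (hf : ∀ v ∈ W, (a ^ 3) v = v → v = 0) : 9 ∣ Nat.card W - 1 := by
  have : Fact (Nat.Prime 3) := ⟨Nat.prime_three⟩
  have ho : orderOf a = 9 := orderOf_eq_prime_pow (p := 3) (n := 1) h3 h9
  have hk : ∀ g : Subgroup.zpowers a, ∃ k < 9, a ^ k = g := fun g => by
    classical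
    have h1 := (isOfFinOrder_iff_pow_eq_one.2 ⟨9, by norm_num, h9⟩).mem_zpowers_iff_mem_range_orderOf.1 g.2
    rw [ho] at h1
    simpa using h1
  let S : SubMulAction (Subgroup.zpowers a) (V8 F) :=
    ⟨{w | w ∈ W ∧ w ≠ 0}, fun g w hw => by
      obtain ⟨k, -, e⟩ := hk g
      exact ⟨show g.1 w ∈ W from e ▸ pow_inv hW k w hw.1, g.1.map_ne_zero_iff.2 hw.2⟩⟩
  have h1 := Nat.card_congr (MulAction.selfEquivOrbitsQuotientProd (G := Subgroup.zpowers a) (X := S) fun w =>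
    eq_bot_iff.2 fun g hg => by
      obtain ⟨k, k9, e⟩ := hk g
      have h2 : (a ^ k) w.1 = w.1 := e ▸ congrArg Subtype.val hg
      by_contra h4
      have h5 : ∃ j, k * j % 9 = 3 := by
        interval_cases k
        · exact (h4 (Subtype.ext e.symm)).elim
        exacts [⟨3, rfl⟩, ⟨6, rfl⟩, ⟨1, rfl⟩, ⟨3, rfl⟩, ⟨6, rfl⟩, ⟨2, rfl⟩, ⟨3, rfl⟩, ⟨6, rfl⟩]
      obtain ⟨j, hj⟩ := h5
      have h6 := pow_fix h2 j
      rw [← pow_mul, pow_eq_pow_mod _ h9, hj] at h6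
      exact w.2.2 (hf _ w.2.1 h6))
  rw [Nat.card_prod, Nat.card_zpowers, ho] at h1
  have h2 : Nat.card S = Nat.card {w : W // w ≠ 0} := Nat.card_congr
    ⟨fun w => ⟨⟨w.1, w.2.1⟩, fun e => w.2.2 (congrArg Subtype.val e)⟩, fun w => ⟨w.1.1, w.1.2, fun e => w.2 (Subtype.ext e)⟩,
      fun _ => rfl, fun _ => rfl⟩
  classical
  have := Fintype.ofFinite W
  rw [h2, Nat.card_eq_fintype_card, Fintype.card_subtype_compl, Fintype.card_subtype_eq, ← Nat.card_eq_fintype_card] at h1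
  exact ⟨_, h1.trans (mul_comm _ _)⟩

theorem Rg.plane {a : E8 F} (h : Rg a) {U U' : Submodule F (V8 F)} (h2 : finrank F U = 2) (h2' : finrank F U' = 2)
    (hU : Kp a U U) (hU' : Kp a U' U') : U = U' := by
  suffices k : ∃ P : Submodule F (V8 F), finrank F P ≤ 2 ∧ ∀ U : Submodule F (V8 F), finrank F U = 2 → Kp a U U → U ≤ P by
    obtain ⟨P, k1, k2⟩ := k
    exact (Submodule.eq_of_le_of_finrank_le (k2 U h2 hU) (by omega)).trans
      (Submodule.eq_of_le_of_finrank_le (k2 U' h2' hU') (by omega)).symm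
  rcases h with h | ⟨hq, h9, h3⟩
  · exact ⟨_, h.fx_dim.le, fun U k1 k2 v hv => mem_Fx_zpowers.2 (h.fix k1.le k2 v hv)⟩
  have h9' : a.1 ^ 9 = 1 := congrArg Subtype.val h9
  have h3' : a.1 ^ 3 ≠ 1 := fun e => h3 (Subtype.ext e)
  have hO : a.1 ^ 3 ∈ O (Q8 F) := pow_mem (E_le_O a.2) 3
  have hc : ((3 : ℕ) : F) ≠ 0 := fun e => by
    have h4 : ((2 : ℕ) : F) = 0 := by rw [← hq, Nat.card_eq_fintype_card]; exact FiniteField.cast_card_eq_zero F
    exact one_ne_zero (α := F) (by push_cast at e h4; linear_combination e - h4)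
  have hcm : ∀ v, (a.1 ^ 3) (a.1 v) = a.1 ((a.1 ^ 3) v) := fun v =>
    LinearEquiv.congr_fun ((pow_succ a.1 3).symm.trans (pow_succ' a.1 3)) v
  have key : ∀ W : Submodule F (V8 F), Kp a W W → (∀ v ∈ W, (a.1 ^ 3) v = v → v = 0) → 9 ∣ 2 ^ finrank F W - 1 :=
    fun W k1 k2 => by
      have h4 := nine_dvd h9' h3' k1 k2
      rwa [Module.natCard_eq_pow_finrank (K := F), hq] at h4
  have := finite_sub (Subgroup.zpowers (a.1 ^ 3))
  have hN := nd_Fx nondeg8' Nat.prime_three hc ((Subgroup.zpowers_le (H := O (Q8 F))).2 hO) fun g hg => by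
    obtain ⟨k, rfl⟩ := hg
    rw [← zpow_natCast, ← zpow_mul, mul_comm, zpow_mul, zpow_natCast, ← pow_mul, h9', one_zpow]
  have hP : Kp a (Fx (Subgroup.zpowers (a.1 ^ 3))) (Fx (Subgroup.zpowers (a.1 ^ 3))) := fun v hv =>
    mem_Fx_zpowers.2 (by rw [hcm, mem_Fx_zpowers.1 hv])
  refine ⟨Fx (Subgroup.zpowers (a.1 ^ 3)), ?_, fun U k1 k2 => ?_⟩
  · have k1 := key _ hP.prp fun v hv hv' => hN v (mem_Fx_zpowers.2 hv') (mem_prp.1 hv)
    have k2 := dim_prp (Fx (Subgroup.zpowers (a.1 ^ 3)))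
    have k3 : finrank F (Fx (Subgroup.zpowers (a.1 ^ 3))) ≠ 8 := fun e => h3' (LinearEquiv.ext fun v =>
      mem_Fx_zpowers.1 (Submodule.eq_top_of_finrank_eq (e.trans finrank8.symm) ▸ Submodule.mem_top))
    by_contra k4
    generalize finrank F (prp (Q8 F) (Fx (Subgroup.zpowers (a.1 ^ 3)))) = m at *
    have k5 : m ≤ 5 := by omega
    have k6 : 0 < m := by omega
    interval_cases m <;> omega
  · obtain ⟨m, k3, k4⟩ := order_dvd_one Nat.prime_three hc (x := a.1 ^ 3) (by rw [← pow_mul, h9']) (pow_inv k2 3)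
    have k5 : orderOf (Nat.card F : ZMod 3) = 2 := by
      rw [hq]
      exact orderOf_eq_prime (by decide) (by decide)
    by_cases k6 : m = 0
    · exact inf_eq_left.1 (Submodule.eq_of_le_of_finrank_eq inf_le_left (by omega))
    have k9 : finrank F ↥(U ⊓ Fx (Subgroup.zpowers (a.1 ^ 3))) = 0 := by
      rw [k5] at k4
      omega
    have k7 : U ⊓ Fx (Subgroup.zpowers (a.1 ^ 3)) = ⊥ := Submodule.finrank_eq_zero.1 k9
    have k8 := key U k2 fun v hv hv' => k7.le ⟨hv, mem_Fx_zpowers.2 hv'⟩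
    rw [k1] at k8
    omega

theorem kp_of_conj {a t : E8 F} {P : Submodule F (V8 F)} (hr : Rg a) (h2 : finrank F P = 2) (h : Kp a P P)
    (h' : Kp (t⁻¹ * a * t) P P) : Kp t P P := by
  have h1 : gmap (og t) P = P := hr.plane ((finrank_gmap _ _).trans h2) h2 (fun v hv => by
    obtain ⟨w, rfl⟩ := (og t).1.surjective v
    exact h' w (apply_mem_gmap.1 hv)) h
  exact fun v hv => h1.le (apply_mem_gmap (M := og t).2 hv)

/-- **three planes** -/
theorem Cx.good_12 {A : Subgroup (G8 F)} {Γ : Subgroup (MulAut (G8 F))} {M₁ M₂ : Gam (Q8 F)} (h : Cx A Γ M₁ M₂)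
    {P : Submodule F (V8 F)} (h2 : finrank F P = 2) (hP : ∀ M ∈ LL Γ, ∀ v ∈ P, M.1 v ∈ P) {s : E8 F}
    (hs : (s : G8 F) ∈ A) (hr : Rg s) : FP3.Good A := by
  have := finite8 (F := F)
  have hc := fun (a b c : E8 F) (ht : T3 a b c) => h.core_S (U := P) (by rintro rfl; simp at h2)
    (by rintro rfl; rw [finrank_top, finrank8] at h2; omega) hP ht
  obtain ⟨b, c, ht, hb, hc'⟩ := hr.t3
  obtain ⟨k1, k2, k3⟩ := (hc _ _ _ ht).1 hs
  refine N2.good_of_one hs (N2.fx_le_one fun t k => ?_)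
  obtain ⟨t, rfl⟩ := QuotientGroup.mk_surjective t
  obtain ⟨u, w, ht'⟩ := exists_T3 t
  obtain ⟨j1, j2, j3⟩ := (hc _ _ _ ((ht'.inv.mul ht).mul ht')).1 k
  exact (hc _ _ _ ht').2 ⟨kp_of_conj hr h2 k1 j1, kp_of_conj hb ((finrank_gmap _ _).trans h2) k2 j2,
    kp_of_conj hc' ((finrank_gmap _ _).trans h2) k3 j3⟩

end Cfsg.Agent.N2C.D4
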